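import Cfsg.Agent.Omega.NOThreeL.QWR.FrTop
import Cfsg.Agent.Omega.NOThreeL.RZ.LowR

/-!
# Box R, not (A): `V* ≤ O₂(C_G(z))` for ONE `1 ≠ z ∈ Z`

* `isLong_cent` : `C_G(z)` is long; `WP_le_z` : all lines on `Z` lie in `O₂(C_G(z))`;
* **`lowz_of`** : `V* ≤ O₂(C_G(z))` if `V* = ⟨V_P⟩`; **`lowz`** : over the frame at `(Q, V*)` (`FrTop.wd_eq`).
-/

set_option autoImplicit false
set_option linter.unusedSectionVars false

namespace Cfsg.Agent.Omega.NOThreeL.QWR.LowZ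

open Subgroup Cfsg Cfsg.Agent.Omega.MinPar Cfsg.Agent.Omega.Frame Cfsg.Agent.Omega.FrameNOFF
open Cfsg.Agent.ZN (o2 zc zl)
open Cfsg.Agent.Omega.Node.NO3L Cfsg.Agent.Omega.NOThreeL.Basic
open Cfsg.Agent.Omega.NOThreeL.RTree (RB)
open Cfsg.Agent.Omega.NOThreeL.Merge (MZ)
open Cfsg.Agent.Omega.NOThreeL.RRed (Wd)
open Cfsg.Agent.Omega.OM.SwapK (ZK BK WL)
open Cfsg.Agent.Omega.OM.Lev.Uni (FrL)

universe u

variable {G : Type u} [Group G] [Finite G] {S : Sylow 2 G}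

/-- `C_G(z)` is long for `1 ≠ z ∈ Z`. -/
theorem isLong_cent {z : G} (hz : z ∈ zc (S : Subgroup G)) (hz1 : z ≠ 1) :
    IsLong (S : Subgroup G) (centralizer ({z} : Set G)) :=
  ⟨RZ.LowR.isLoc_cent hz hz1, centralizer_le (Set.singleton_subset_iff.2 hz)⟩

theorem WP_le_z (B : RB S) {z : G} (hz : z ∈ zc (S : Subgroup G)) (hz1 : z ≠ 1) :
    WP (S : Subgroup G) ≤ o2 (centralizer ({z} : Set G)) :=
  (WP_le_FH _ _).trans (NotA.FH_le_o2 B.data B.notA (isLong_cent hz hz1))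

/-- `V* ≤ O₂(C_G(z))` if `V* = ⟨V_P : P ∈ PP⟩`, `PP ⊆ P*(S)`. -/
theorem lowz_of (B : RB S) {PP : Set (Subgroup G)} (hPP : ∀ P ∈ PP, IsParS (S : Subgroup G) P)
    (hV : Wd (S : Subgroup G) = ⨆ P ∈ PP, zl (S : Subgroup G) P) :
    ∀ z ∈ zc (S : Subgroup G), z ≠ 1 → Wd (S : Subgroup G) ≤ o2 (centralizer ({z} : Set G)) := by
  intro z hz hz1
  rw [hV]
  exact iSup₂_le fun P hP => (zl_le_WP (hPP P hP)).trans (WP_le_z B hz hz1)

variable {Q : Subgroup G} {ι : Type} [Finite ι] {X : Subgroup G} {L W Z C A : ι → Subgroup G}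

/-- **`V* ≤ O₂(C_G(z))` for all `1 ≠ z ∈ Z`**, over the frame at `(Q, V*)`. -/
theorem lowz (R : RB S) (wl : WL S Q) (hX : Wd (S : Subgroup G) ≤ zc Q)
    (fr : FrL (BK (S : Subgroup G) Q) Q (Wd (S : Subgroup G)) X (ZK (S : Subgroup G) Q) L W Z C A 2)
    (hL : ∀ i, L i ≤ MZ (S : Subgroup G)) :
    ∀ z ∈ zc (S : Subgroup G), z ≠ 1 → Wd (S : Subgroup G) ≤ o2 (centralizer ({z} : Set G)) :=
  lowz_of (PP := {P : Subgroup G | IsParS (S : Subgroup G) P}) R (fun _ hP => hP) (FrTop.wd_eq R wl hX fr hL)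

end Cfsg.Agent.Omega.NOThreeL.QWR.LowZ
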