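import Cfsg.Agent.Omega.NOThreeL.QWR.One
import Cfsg.Agent.Omega.NO3S.CaseLW.QWd

/-!
# THEOREM QW in box R (t = 1), the end (OMEGA #27099 (II), #24897)

`WR S P T Y`, `C_S(Z_J) ≤ T`, `L = V_P`, `U = ⟨L^Y⟩`, `C_G(Z_J), P ≤ M`, `O²(Y)` moves `Z_J`, `U ≤ O₂(M)`.  Then **(neg)** is
false (`not_neg`): some best offender `A ≤ T` on `U` does not lie in `O₂(Y)` (`exists_best`, `exists_best_of`).

* `Fam S P T Y U 𝓦` : a `P`-invariant family whose members `A ≤ S` are exact on `U`, `C_A(L)^p` too (`p ∈ P`), and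
  `[C_U(C_A(L)^p), A^p] ≤ L`; `Fam.of_best` : the best offenders on `⟨Z^GR⟩`; `Fam.of_W` : the groups `W_F`;
* `Fam.false` : **(6)** no family has an active member (`A ≤ S`, `A ≰ Q`).
-/

set_option autoImplicit false
set_option linter.unusedSectionVars false
set_option linter.dupNamespace false

namespace Cfsg.Agent.Omega.NOThreeL.QWR

open Subgroup Cfsg Cfsg.Agent.ZN Cfsg.Agent.ZN.ChoiceBase Cfsg.Agent.Omega.MinPar Cfsg.Agent.Omega.Frame
open Cfsg.Agent.Omega.FrameNOFF (CZ)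
open Cfsg.Agent.ZN.ChoiceSit (Syl)
open Cfsg.Agent.MinSimple.VModule (oddGen)
open Cfsg.Agent.Omega.NO3b.EZero (cl cl_le le_cl cj_le_cl le_normalizer_cl oddGen_sup_syl)
open Cfsg.Agent.Omega.NO3S.Level
open Cfsg.Agent.Omega.NO3S.RedC (MaxMin exists_maxMin nff_of_noOff noOff_of)
open Cfsg.Agent.Omega.NO3S.WY (bestW elemW hyp_cj WW_cj best_mono cent_AF best_AF)
open Cfsg.Agent.Omega.NO3S.CaseLW.QWc (Neg Neg.of_best Ex Ex.of_rel Ex.of_best Ex.of_cent elem_le le_fM_of_best)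
open Cfsg.Agent.Omega.NO3S.CaseLW.QWd (KK le_KK)
open Cfsg.Agent.Omega.NO1.BestOff (Best)
open Cfsg.Agent.Omega.FFThm (OffM ElemM)
open Cfsg.Agent.Omega.NOThreeL.VF (le_fM_iff elemM_mono)
open scoped Pointwise

universe u

variable {G : Type u} [Group G] [Finite G]

/-- An exact family. -/
structure Fam (S : Sylow 2 G) (P T U : Subgroup G) (𝓦 : Set (Subgroup G)) : Prop where
  inv : ∀ A ∈ 𝓦, ∀ p ∈ P, cj p A ∈ 𝓦
  ex : ∀ A ∈ 𝓦, A ≤ (S : Subgroup G) → Ex T U A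
  cut : ∀ A ∈ 𝓦, A ≤ (S : Subgroup G) → ∀ p ∈ P, Ex T U (cj p (A ⊓ centralizer (zl (S : Subgroup G) P : Set G)))
  comm : ∀ A ∈ 𝓦, A ≤ (S : Subgroup G) → ∀ p ∈ P, ∀ v ∈ U,
    v ∈ centralizer (cj p (A ⊓ centralizer (zl (S : Subgroup G) P : Set G)) : Set G) →
    ∀ x ∈ cj p A, x * v * x⁻¹ * v⁻¹ ∈ zl (S : Subgroup G) P

section

variable {S : Sylow 2 G} {P T Y : Subgroup G} (h : WR S P T Y) (neg : Neg T Y (cl (zl (S : Subgroup G) P) Y))
include h neg

theorem KK_le : KK T (cl (zl (S : Subgroup G) P) Y) ≤ o2 Y := sSup_le fun _ x => ex_le_o2 h neg x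

theorem KK_BB : KK T (cl (zl (S : Subgroup G) P) Y) ≤ BB (S : Subgroup G) P := sSup_le fun _ x => ex_le_BB h neg x

theorem KK_norm : Y ≤ normalizer (KK T (cl (zl (S : Subgroup G) P) Y) : Set G) := by
  intro y hy
  refine mem_normalizer_of_cj_le (cj_le_iff.2 (sSup_le fun A x => ?_))
  have h1 := cj_mono y⁻¹ (le_KK (ex_cj h neg x hy))
  rwa [cj_inv_cj] at h1

/-- `Z_J ≤ C_L(K^)` -/
theorem ZZ_le_R : ZZ (S : Subgroup G) P ≤ zl (S : Subgroup G) P ⊓
    centralizer (KK T (cl (zl (S : Subgroup G) P) Y) : Set G) :=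
  le_inf (ZZ_le _ _) (le_centralizer_iff.1 ((KK_BB h neg).trans inf_le_right))

/-- **(6)** -/
theorem Fam.false {𝓦 : Set (Subgroup G)} (f : Fam S P T (cl (zl (S : Subgroup G) P) Y) 𝓦)
    (hYZ : ¬ oddGen Y ≤ centralizer (ZZ (S : Subgroup G) P : Set G))
    (act : ∃ A ∈ 𝓦, A ≤ (S : Subgroup G) ∧ ¬ A ≤ QQ (S : Subgroup G) P) : False := by
  have hSP : (S : Subgroup G) ≤ P := h.SP
  set L : Subgroup G := zl (S : Subgroup G) P with hL
  set U : Subgroup G := cl L Y with hU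
  set K : Subgroup G := KK T U with hK
  set R : Subgroup G := L ⊓ centralizer (K : Set G) with hR
  set U₁ : Subgroup G := cl R Y with hU₁
  set V : Subgroup G := zl (S : Subgroup G) (GR (S : Subgroup G) P Y) with hVd
  have hV : Md S P Y V := h.md_zl
  have hLV : L ≤ V := h.L_le_V hV
  have hUV : U ≤ V := U_le_zl h
  have hQL : QQ (S : Subgroup G) P ≤ centralizer (L : Set G) := QQ_cent _ _
  have hPL : P ≤ normalizer (L : Set G) := ZN.le_normalizer_zl _ _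
  have hKY : Y ≤ normalizer (K : Set G) := KK_norm h neg
  have hU₁U : U₁ ≤ U := cl_le fun y hy => (cj_mono y inf_le_left).trans (cj_le_cl hy)
  have hU₁K : U₁ ≤ centralizer (K : Set G) := cl_le fun y hy => by
    have h1 := cj_mono y (inf_le_right : R ≤ centralizer (K : Set G))
    rwa [cj_centralizer, cj_eq_of_mem_normalizer (hKY hy)] at h1
  -- `U₁ > R`
  have hne : ¬ U₁ ≤ R := by
    intro h1
    have h2 : U₁ = R := le_antisymm h1 (le_cl _ _)
    have h3 : Y ≤ normalizer (R : Set G) := by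
      rw [← h2]; exact le_normalizer_cl _ _
    have hYY : Y ≤ normalizer ((Y ⊓ centralizer (R : Set G) : Subgroup G) : Set G) :=
      NO3b.EZero.le_normalizer_inf_cent h3
    rcases NO3b.K0.min_or h.syl h.min (K := Y ⊓ centralizer (R : Set G)) inf_le_left hYY with h4 | h4
    · exact hYZ ((h4.trans inf_le_right).trans (centralizer_le (ZZ_le_R h neg)))
    · exact h.nQ ((le_inf h.QT (le_inf (h.QT.trans h.T_Y) (hQL.trans (centralizer_le inf_le_left)))).trans h4)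
  -- `u`
  have hUT : U₁ ≤ T := (hU₁U.trans hUV).trans ((hV.le.trans h.V_le_D).trans h.DR_T)
  obtain ⟨u, huU, huR, hu⟩ := NO3S.OneLine.exists_fixed h.T2 hUT
    (h.T_Y.trans (le_normalizer_cl R Y)) hne
  have huV : u ∈ V := hUV (hU₁U huU)
  have hLc : ∀ a ∈ L, ∀ b ∈ L, a * b = b * a := fun a ha b hb =>
    (mem_centralizer_iff.1 ((h.Vc hV) (hLV ha)) b (hLV hb)).symm
  have hQc : ∀ q ∈ QQ (S : Subgroup G) P, ∀ l ∈ L, q * l = l * q := fun q hq l hl =>
    (mem_centralizer_iff.1 (hQL hq) l hl).symm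
  set X : Subgroup G := closure {x | ∃ q ∈ QQ (S : Subgroup G) P, x = q * u * q⁻¹ * u⁻¹} with hX
  have hXR : X ≤ R := by
    rw [hX, closure_le]
    rintro _ ⟨q, hq, rfl⟩
    exact hu q (h.QT hq)
  have hXL : X ≤ L := hXR.trans inf_le_left
  -- invariance
  have hinv : ∀ A ∈ 𝓦, A ≤ (S : Subgroup G) → ∀ p ∈ P, cj p A ≤ normalizer (X : Set G) := by
    intro A hA hAS p hp x hx
    have hc : u ∈ centralizer (cj p (A ⊓ centralizer (L : Set G)) : Set G) :=
      centralizer_le (le_KK (f.cut A hA hAS p hp)) (hU₁K huU)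
    have h1 := f.comm A hA hAS p hp u (hU₁U huU) hc x hx
    have hxP : x ∈ P := by
      have h2 := cj_mono p (hAS.trans hSP) hx
      rwa [cj_eq_of_mem_normalizer (le_normalizer hp)] at h2
    refine mem_normalizer_of_cj_le (cj_le_iff.2 ?_)
    rw [hX, closure_le]
    rintro _ ⟨q, hq, rfl⟩
    change _ ∈ cj x⁻¹ X
    rw [mem_cj, inv_inv]
    set l : G := x * u * x⁻¹ * u⁻¹ with hl
    have hq' : x * q * x⁻¹ ∈ QQ (S : Subgroup G) P := (mem_normalizer_iff.1 (h.rq.PQ hxP) q).1 hq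
    set q' : G := x * q * x⁻¹ with hq'd
    have h3 : q' * u * q'⁻¹ * u⁻¹ ∈ X := subset_closure ⟨q', hq', rfl⟩
    have e1 : q' * l = l * q' := hQc q' hq' l h1
    have e2 : l * (q' * u * q'⁻¹ * u⁻¹) = q' * u * q'⁻¹ * u⁻¹ * l := hLc _ h1 _ (hXL h3)
    have e : x * (q * u * q⁻¹ * u⁻¹) * x⁻¹ = q' * u * q'⁻¹ * u⁻¹ := by
      have e3 : x * u * x⁻¹ = l * u := by rw [hl]; group
      calc x * (q * u * q⁻¹ * u⁻¹) * x⁻¹ = q' * (x * u * x⁻¹) * q'⁻¹ * (x * u * x⁻¹)⁻¹ := by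
            rw [hq'd]; group
        _ = q' * (l * u) * q'⁻¹ * (l * u)⁻¹ := by rw [e3]
        _ = (q' * l) * u * q'⁻¹ * u⁻¹ * l⁻¹ := by group
        _ = l * (q' * u * q'⁻¹ * u⁻¹) * l⁻¹ := by rw [e1]; group
        _ = _ := by rw [e2, mul_inv_cancel_right]
    rw [e]
    exact h3
  -- all conjugates centralise `X`
  set Γ : Subgroup G := sSup {D | ∃ A ∈ 𝓦, A ≤ (S : Subgroup G) ∧ ∃ p ∈ P, D = cj p A} with hΓ
  have hΓX : Γ ≤ normalizer (X : Set G) := sSup_le fun D hD => by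
    obtain ⟨A, hA, hAS, p, hp, rfl⟩ := hD
    exact hinv A hA hAS p hp
  have hΓP : Γ ≤ P := sSup_le fun D hD => by
    obtain ⟨A, hA, hAS, p, hp, rfl⟩ := hD
    have h2 := cj_mono p (hAS.trans hSP)
    rwa [cj_eq_of_mem_normalizer (le_normalizer hp)] at h2
  have hPΓ : P ≤ normalizer (Γ : Set G) := by
    intro g hg
    refine mem_normalizer_of_cj_le (cj_le_iff.2 (sSup_le fun D hD => ?_))
    obtain ⟨A, hA, hAS, p, hp, rfl⟩ := hD
    refine cj_le_iff.1 (le_sSup ⟨A, hA, hAS, g * p, mul_mem hg hp, ?_⟩)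
    rw [cj_cj]
  have hcent : Γ ≤ centralizer (X : Set G) := sSup_le fun D hD => by
    obtain ⟨A, hA, hAS, p, hp, rfl⟩ := hD
    have hDΓ : cj p A ≤ Γ := le_sSup ⟨A, hA, hAS, p, hp, rfl⟩
    have hD2 : IsPGroup 2 ↥(cj p A) := isPGroup_cj p (S.isPGroup'.to_le hAS)
    have hSΓ : (S : Subgroup G) ≤ normalizer (Γ : Set G) := hSP.trans hPΓ
    obtain ⟨n, hn, hnS⟩ := FFThm.exists_conj_le S (N := (S : Subgroup G) ⊔ Γ) le_sup_left hD2 (hDΓ.trans le_sup_right)
    have h1 : n ∈ (((S : Subgroup G) ⊔ Γ : Subgroup G) : Set G) := hn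
    rw [coe_mul_of_left_le_normalizer_right _ _ hSΓ] at h1
    obtain ⟨s, hs, γ, hγ, e⟩ := h1
    have h2 : cj γ (cj p A) ≤ (S : Subgroup G) := by
      have e' : s * γ = n := e
      have h3 := cj_mono s⁻¹ hnS
      rw [← e', ← cj_cj, cj_inv_cj] at h3
      rwa [cj_eq_of_mem_normalizer (le_normalizer (inv_mem hs))] at h3
    have h4 : cj γ (cj p A) ∈ 𝓦 := f.inv _ (f.inv A hA p hp) γ (hΓP hγ)
    have h5 : cj γ (cj p A) ≤ centralizer (X : Set G) :=
      (le_KK (f.ex _ h4 h2)).trans (le_centralizer_iff.1 (hXR.trans inf_le_right))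
    have h6 := cj_mono γ⁻¹ h5
    rwa [cj_inv_cj, cj_centralizer, cj_eq_of_mem_normalizer (inv_mem (hΓX hγ))] at h6
  have hX1 : X = ⊥ := by
    by_contra hXne
    obtain ⟨A, hA, hAS, hAQ⟩ := act
    have hAΓ : A ≤ Γ := le_sSup ⟨A, hA, hAS, 1, one_mem _, (cj_one A).symm⟩
    have hW1 : X ≤ L ⊓ centralizer (Γ : Set G) := le_inf hXL (le_centralizer_iff.1 hcent)
    have hPW : P ≤ normalizer ((L ⊓ centralizer (Γ : Set G) : Subgroup G) : Set G) := by
      intro p hp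
      refine mem_normalizer_of_cj_le ?_
      rw [cj_inf, cj_centralizer, cj_eq_of_mem_normalizer (hPL hp), cj_eq_of_mem_normalizer (hPΓ hp)]
    have h1 : L ≤ L ⊓ centralizer (Γ : Set G) := h.rq.irr _ inf_le_left hPW fun h2 => hXne (by
      rw [h2] at hW1
      exact le_bot_iff.1 hW1)
    exact hAQ (le_inf hAS (hAΓ.trans (le_centralizer_iff.1 (h1.trans inf_le_right))))
  -- `u ∈ C_V(Q) ≤ L`
  have huQ : u ∈ centralizer (QQ (S : Subgroup G) P : Set G) := by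
    rw [mem_centralizer_iff]
    intro q hq
    have h1 : q * u * q⁻¹ * u⁻¹ ∈ X := subset_closure ⟨q, hq, rfl⟩
    rw [hX1, mem_bot] at h1
    have h2 : q * u * q⁻¹ = u := by
      have := mul_eq_one_iff_eq_inv.1 h1
      rwa [inv_inv] at this
    calc q * u = (q * u * q⁻¹) * q := by group
      _ = u * q := by rw [h2]
  have huL : u ∈ L := h.cvQ ⟨hV.le huV, huQ⟩
  exact huR ⟨huL, hU₁K huU⟩

end

/-! ### the two families -/

section fam

variable {S : Sylow 2 G} {P T Y : Subgroup G} (h : WR S P T Y) (BT : BB (S : Subgroup G) P ≤ T)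
include h

theorem hex_of {V A : Subgroup G} (hV : Md S P Y V) (hA : ElemM V A) (hAS : A ≤ (S : Subgroup G)) :
    (centralizer (zl (S : Subgroup G) P : Set G)).relIndex A ≤
      (centralizer (A : Set G)).relIndex (zl (S : Subgroup G) P) := by
  by_cases hc : A ≤ centralizer (zl (S : Subgroup G) P : Set G)
  · rw [relIndex_eq_one.2 hc]
    exact Nat.one_le_iff_ne_zero.2 index_ne_zero_of_finite
  · exact FFThm.relIndex_le_iff.1 (h.rq.no _ hAS (elem_le hA (h.L_le_V hV)) hc)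

include BT in
/-- the best offenders on `V` -/
theorem fam_best {V : Subgroup G} (hV : Md S P Y V) :
    Fam S P T (cl (zl (S : Subgroup G) P) Y) {A | Best V A} where
  inv := fun A hA p hp => best_cjV h hV (PV h hV hp) hA
  ex := fun A hA hAS => Ex.of_best
    ((le_JJ hAS (best_mono hA (h.L_le_V hV) (h.Vc hV))).trans ((JJ_le_BB _ _).trans BT))
    (best_mono hA (U_le h hV) (h.Vc hV))
  cut := fun A hA hAS p hp => Ex.of_best (cj_cut_le h hV hAS hp)
    (best_mono (best_cjV h hV (PV h hV hp)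
      (best_cut hA (h.L_le_V hV) (h.Vc hV) (hex_of h hV hA.toElemM hAS))) (U_le h hV) (h.Vc hV))
  comm := fun A hA hAS p hp v hv hc x hx => by
    have hLV := h.L_le_V hV
    have hB : Best V (cj p A) := best_cjV h hV (PV h hV hp) hA
    have hex := hex_cj h hV (hex_of h hV hA.toElemM hAS) hp
    rw [cj_cut h hV hp] at hc
    have h1 : v ∈ zl (S : Subgroup G) P ⊔ V ⊓ centralizer (cj p A : Set G) := by
      rw [← cent_cut hB hLV (h.Vc hV) hex]
      exact ⟨U_le h hV hv, hc⟩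
    have hxP : x ∈ P := by
      have h2 := cj_mono p (hAS.trans h.SP) hx
      rwa [cj_eq_of_mem_normalizer (le_normalizer hp)] at h2
    exact comm_mem_of (K := V ⊓ centralizer (cj p A : Set G))
      (fun l hl k hk => mem_centralizer_iff.1 ((h.Vc hV) hk.1) l (hLV hl)) h1
      (ZN.le_normalizer_zl _ _ hxP) fun k hk => mem_centralizer_iff.1 hk.2 x hx

include BT in
/-- the groups `W_F` -/
theorem fam_W {V : Subgroup G} (hV : Md S P Y V) {M : Subgroup G}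
    (hM : centralizer (ZZ (S : Subgroup G) P : Set G) ≤ M) (hP : P ≤ M) (hUM : cl (zl (S : Subgroup G) P) Y ≤ o2 M) :
    Fam S P T (cl (zl (S : Subgroup G) P) Y) {A | ∃ F, NOne.Flat.Hyp V F ∧ NOne.Flat.WW V F = A} := by
  have hLV := h.L_le_V hV
  have hZV : V ≤ centralizer (ZZ (S : Subgroup G) P : Set G) :=
    (h.Vc hV).trans (centralizer_le ((ZZ_le _ _).trans hLV))
  have hV₀ : V ⊓ o2 M ≤ o2 (centralizer (ZZ (S : Subgroup G) P : Set G)) := fun v hv =>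
    NOne.Flat.o2_inf_le_o2 hM ⟨hv.2, hZV hv.1⟩
  have hn : ∀ p ∈ P, cj p (V ⊓ o2 M) = V ⊓ o2 M := fun p hp => by
    rw [cj_inf, cj_eq_of_mem_normalizer (PV h hV hp), cj_eq_of_mem_normalizer (ZN.le_normalizer_o2 _ (hP hp))]
  have hUV₀ : cl (zl (S : Subgroup G) P) Y ≤ V ⊓ o2 M := le_inf (U_le h hV) hUM
  have hE : ∀ F, NOne.Flat.Hyp V F → NOne.Flat.WW V F ≤ (S : Subgroup G) → ∀ p ∈ P,
      V ⊓ o2 M ≤ NOne.Flat.EE V (MulAut.conj p • F) := fun F hF hW p hp => by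
    have h1 := cj_mono p (le_E h hV hF hW inf_le_left hV₀)
    rw [hn p hp] at h1
    refine h1.trans ?_
    rw [← NOne.Flat.EE_conj (PV h hV hp)]
    rfl
  have hLE : ∀ F, NOne.Flat.Hyp V F → NOne.Flat.WW V F ≤ (S : Subgroup G) → ∀ p ∈ P,
      zl (S : Subgroup G) P ≤ NOne.Flat.EE V (MulAut.conj p • F) := fun F hF hW p hp =>
    ((le_cl _ _).trans hUV₀).trans (hE F hF hW p hp)
  have hcut : ∀ F, ∀ p ∈ P, cj p (NOne.Flat.WW V F ⊓ centralizer (zl (S : Subgroup G) P : Set G)) =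
      NOne.Flat.WW V (MulAut.conj p • F) ⊓ centralizer (zl (S : Subgroup G) P : Set G) := fun F p hp => by
    rw [cj_cut h hV hp, WW_cj (PV h hV hp)]
  have hex : ∀ F, NOne.Flat.Hyp V F → NOne.Flat.WW V F ≤ (S : Subgroup G) → ∀ p ∈ P,
      (centralizer (zl (S : Subgroup G) P : Set G)).relIndex (NOne.Flat.WW V (MulAut.conj p • F)) ≤
      (centralizer (NOne.Flat.WW V (MulAut.conj p • F) : Set G)).relIndex (zl (S : Subgroup G) P) :=
    fun F hF hW p hp => by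
      rw [WW_cj (PV h hV hp)]
      exact hex_cj h hV (hexW h hV hF hW) hp
  refine ⟨?_, ?_, ?_, ?_⟩
  · rintro _ ⟨F, hF, rfl⟩ p hp
    exact ⟨MulAut.conj p • F, hyp_cj hF (PV h hV hp), WW_cj (PV h hV hp)⟩
  · rintro _ ⟨F, hF, rfl⟩ hW
    have h1 := hE F hF hW 1 (one_mem _)
    rw [map_one, one_smul] at h1
    exact Ex.of_best ((W_le_BB h hV hF hW).trans BT) (bestW hF (hUV₀.trans h1))
  · rintro _ ⟨F, hF, rfl⟩ hW p hp
    refine ⟨cj_cut_le h hV hW hp, ?_, ?_⟩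
    · rw [hcut F p hp]
      exact elemM_mono (elemW (hyp_cj hF (PV h hV hp)) (U_le h hV)) inf_le_left
    · rw [hcut F p hp, le_fM_iff]
      exact best_AF (hyp_cj hF (PV h hV hp)) (le_cl _ _) (hUV₀.trans (hE F hF hW p hp)) (hex F hF hW p hp)
  · rintro _ ⟨F, hF, rfl⟩ hW p hp v hv hc x hx
    have hFp := hyp_cj hF (PV h hV hp)
    rw [hcut F p hp] at hc
    have h1 : v ∈ zl (S : Subgroup G) P ⊔ MulAut.conj p • F := by
      rw [← cent_AF hFp (hLE F hF hW p hp) (hex F hF hW p hp)]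
      exact ⟨hE F hF hW p hp (hUV₀ hv), hc⟩
    have hxP : x ∈ P := by
      have h2 := cj_mono p (hW.trans h.SP) hx
      rwa [cj_eq_of_mem_normalizer (le_normalizer hp)] at h2
    have hxW : x ∈ NOne.Flat.WW V (MulAut.conj p • F) := by rwa [WW_cj (PV h hV hp)]
    exact comm_mem_of (fun l hl f hf => mem_centralizer_iff.1 ((h.Vc hV) (hFp.F_le_V hf)) l (hLV hl)) h1
      (ZN.le_normalizer_zl _ _ hxP) fun k hk => (mem_centralizer_iff.1 (NOne.Flat.Hyp.W_le_X hxW) k hk).symm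

include BT

/-- **THEOREM QW, the end** (`O²(Y)` moves `Z_J`). -/
theorem not_neg {M : Subgroup G} (hM : centralizer (ZZ (S : Subgroup G) P : Set G) ≤ M) (hP : P ≤ M)
    (hYZ : ¬ oddGen Y ≤ centralizer (ZZ (S : Subgroup G) P : Set G))
    (hUM : cl (zl (S : Subgroup G) P) Y ≤ o2 M) : ¬ Neg T Y (cl (zl (S : Subgroup G) P) Y) := by
  intro neg
  have hV : Md S P Y (zl (S : Subgroup G) (GR (S : Subgroup G) P Y)) := h.md_zl
  by_cases hoff : ∃ A ≤ GR (S : Subgroup G) P Y, OffM (zl (S : Subgroup G) (GR (S : Subgroup G) P Y)) A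
  · obtain ⟨B, m⟩ := exists_maxMin hV.norm hoff
    rcases h.prin hV.le m.le m.pg m.ne (𝓕 := {A | Best (zl (S : Subgroup G) (GR (S : Subgroup G) P Y)) A})
        (fun A hA n hn => best_cjV h hV (hV.norm hn) hA) m.best with hact | ⟨-, A, hA, hAQ, hAY⟩
    · exact Fam.false h neg (fam_best h BT hV) hYZ hact
    · exact hAY (ex_le_o2 h neg ((fam_best h BT hV).ex A hA (hAQ.trans (QQ_le _ _))))
  · push Not at hoff
    have hn : NO3b.EZero.NotFF (zl (S : Subgroup G) (GR (S : Subgroup G) P Y)) :=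
      nff_of_noOff h.S_le hV.norm hoff
    obtain ⟨F₁, -, hF⟩ := h.exists_hyp hV hn (h.bad_Z hV hn)
    have hW2 : IsPGroup 2 (NOne.Flat.WW (zl (S : Subgroup G) (GR (S : Subgroup G) P Y)) F₁) :=
      (isPGroup_o2 _).to_le NOne.Flat.Hyp.W_le_R
    rcases h.prin hV.le (h.W_le_GR hV hF) hW2 hF.W_move
      (𝓕 := {A | ∃ F, NOne.Flat.Hyp (zl (S : Subgroup G) (GR (S : Subgroup G) P Y)) F ∧
        NOne.Flat.WW (zl (S : Subgroup G) (GR (S : Subgroup G) P Y)) F = A})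
      (fun A hA n hn => by
        obtain ⟨F, hF, rfl⟩ := hA
        have hnV := hV.norm hn
        exact ⟨MulAut.conj n • F, hF.conj hnV, (NOne.Flat.WW_conj hnV).symm⟩)
      ⟨F₁, hF, rfl⟩ with hact | ⟨-, A, hA, hAQ, hAY⟩
    · exact Fam.false h neg (fam_W h BT hV hM hP hUM) hYZ hact
    · exact hAY (ex_le_o2 h neg ((fam_W h BT hV hM hP hUM).ex A hA (hAQ.trans (QQ_le _ _))))

/-- **THEOREM QW, the end**: some best offender `A ≤ T` on `U` moves `U` and does not lie in `O₂(Y)`; `U ≤ O₂(M)` may be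
proved under **(neg)**. -/
theorem exists_best_odd {M : Subgroup G} (hM : centralizer (ZZ (S : Subgroup G) P : Set G) ≤ M) (hP : P ≤ M)
    (hYZ : ¬ oddGen Y ≤ centralizer (ZZ (S : Subgroup G) P : Set G))
    (hUM : Neg T Y (cl (zl (S : Subgroup G) P) Y) → cl (zl (S : Subgroup G) P) Y ≤ o2 M) :
    ∃ A ≤ T, Best (cl (zl (S : Subgroup G) P) Y) A ∧ ¬ A ≤ centralizer (cl (zl (S : Subgroup G) P) Y : Set G) ∧
      ¬ A ≤ o2 Y := by
  by_contra hcon
  have neg : Neg T Y (cl (zl (S : Subgroup G) P) Y) := Neg.of_best fun A hA hb hne => by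
    by_contra hY'
    exact hcon ⟨A, hA, hb, hne, hY'⟩
  exact not_neg h BT hM hP hYZ (hUM neg) neg

omit BT in
/-- `Y ≰ M` ⟹ `O²(Y)` moves `Z_J` -/
theorem not_odd {M : Subgroup G} (hM : centralizer (ZZ (S : Subgroup G) P : Set G) ≤ M) (hP : P ≤ M)
    (hYM : ¬ Y ≤ M) : ¬ oddGen Y ≤ centralizer (ZZ (S : Subgroup G) P : Set G) := fun h1 => hYM (by
  rw [← oddGen_sup_syl h.syl]
  exact sup_le (h1.trans hM) (h.TS.trans (h.SP.trans hP)))

/-- **THEOREM QW, the end**, `Y ≰ M`. -/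
theorem exists_best_of {M : Subgroup G} (hM : centralizer (ZZ (S : Subgroup G) P : Set G) ≤ M) (hP : P ≤ M)
    (hYM : ¬ Y ≤ M) (hUM : Neg T Y (cl (zl (S : Subgroup G) P) Y) → cl (zl (S : Subgroup G) P) Y ≤ o2 M) :
    ∃ A ≤ T, Best (cl (zl (S : Subgroup G) P) Y) A ∧ ¬ A ≤ centralizer (cl (zl (S : Subgroup G) P) Y : Set G) ∧
      ¬ A ≤ o2 Y := exists_best_odd h BT hM hP (not_odd h hM hP hYM) hUM

end fam

end Cfsg.Agent.Omega.NOThreeL.QWR
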