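import Cfsg.Agent.Omega.NOThreeL.QWR.Alpha
import Cfsg.Agent.Omega.NOThreeL.QWR.LowZ
import Cfsg.Agent.Omega.NOThreeL.QWR.Main
import Cfsg.Agent.Omega.ML.GNN

/-!
# THEOREM QW in box R, step (α) over the frame at `(Q, V*)`: `U = ⟨V*^F⟩ ≤ O₂(M)`, `|Z| ≥ 4`, `q = 2`

`RB S`, `M ≥ MZ S` local, `Q = C_S(V*) ≤ T ≤ S`, `F ≤ C_G(Z)`.

* `zl_le_Q` : `Z_M ≤ Q`; `zl_ex` : `Z_M` is `Ex` as soon as it offends on `U`; `line` : some `Z_M^(y⁻¹) ≤ B` moves `V*`;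
* **`hUM`** : `U ≤ O₂(M)` from the two corollaries `exCj`, `exB` of QW (1);
* **`hUM_of`** : the hypothesis `hUM` of `QWR.exists_best_odd` over `WR S (MZ S) T Y`, `Y ≤ C_G(Z)`, `|Z| ≥ 4`, `q = 2`;
* **`exists_best`** : THEOREM QW over `WR S (MZ S) T Y`, `Y ≤ C_G(Z)`, `|Z| ≥ 4`, `q = 2`.
-/

set_option autoImplicit false
set_option linter.unusedSectionVars false

namespace Cfsg.Agent.Omega.NOThreeL.QWR.AlphaOf

open Subgroup Cfsg Cfsg.Agent.ZN Cfsg.Agent.ZN.ChoiceBase Cfsg.Agent.Omega.MinPar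
open Cfsg.Agent.Omega.FrameNOFF (CZ)
open Cfsg.Agent.Omega.NO3b.EZero (cl cl_le le_cl cj_le_cl le_normalizer_cl)
open Cfsg.Agent.Omega.NO3S.CaseLW.QWc
open Cfsg.Agent.Omega.ML.Final (MLK)
open Cfsg.Agent.Omega.OM.Lev.Uni (FrL)
open Cfsg.Agent.Omega.NOThreeL.RTree (RB)
open Cfsg.Agent.Omega.NOThreeL.Merge (MZ)
open Cfsg.Agent.Omega.NOThreeL.RRed (Wd)

universe u

variable {G : Type u} [Group G] [Finite G] {S : Sylow 2 G} {M T F : Subgroup G}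

section zm

variable (R : RB S) (hM : IsLoc (S : Subgroup G) M)
include R hM

theorem zl_sq {v : G} (hv : v ∈ zl (S : Subgroup G) M) : v ^ 2 = 1 :=
  (ChoiceBase.mem_zc.1 (hM.zl_le S R.ctx.char2 hv)).2.1

theorem zl_comm {v w : G} (hv : v ∈ zl (S : Subgroup G) M) (hw : w ∈ zl (S : Subgroup G) M) : v * w = w * v := by
  have h1 := ChoiceBase.mem_zc.1 (hM.zl_le S R.ctx.char2 hv)
  exact (h1.2.2 w (ZN.zc_le _ (hM.zl_le S R.ctx.char2 hw))).symm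

variable (hP : MZ (S : Subgroup G) ≤ M)
include hP

theorem Wd_le : Wd (S : Subgroup G) ≤ zl (S : Subgroup G) M :=
  MinSimple.VModule.zl_le (MinSimple.VModule.zc_le_zl _ _) (hP.trans (MinSimple.VModule.le_normalizer_zl _ _))

/-- `Z_M ≤ Q = C_S(V*)` -/
theorem zl_le_Q : zl (S : Subgroup G) M ≤ (S : Subgroup G) ⊓ centralizer (Wd (S : Subgroup G) : Set G) :=
  le_inf (((hM.zl_le S R.ctx.char2).trans (ZN.zc_le _)).trans (hM.o2_le S)) fun _ hv =>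
    mem_centralizer_iff.2 fun _ hw => zl_comm R hM (Wd_le R hM hP hw) hv

/-- `Z_M` is exact on `U` as soon as it offends on `U`. -/
theorem zl_ex (QT : (S : Subgroup G) ⊓ centralizer (Wd (S : Subgroup G) : Set G) ≤ T) {U : Subgroup G}
    (off : (centralizer (zl (S : Subgroup G) M : Set G)).relIndex U ≤
      (centralizer (U : Set G)).relIndex (zl (S : Subgroup G) M)) : Ex T U (zl (S : Subgroup G) M) := by
  refine Ex.of_rel ((zl_le_Q R hM hP).trans QT) ⟨fun a ha => ?_, fun a ha b hb => ?_⟩ off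
  · rw [zl_sq R hM ha]
    exact one_mem _
  · have e : a * b * a⁻¹ * b⁻¹ = 1 := by
      rw [zl_comm R hM ha hb]
      group
    rw [e]
    exact one_mem _

/-- **the line** : some `A' = Z_M^(y⁻¹)` lies in `B` and moves `V*`. -/
theorem line {B : Subgroup G} (QT : (S : Subgroup G) ⊓ centralizer (Wd (S : Subgroup G) : Set G) ≤ T)
    (exCj : ∀ A, Ex T (cl (Wd (S : Subgroup G)) F) A → ∀ y ∈ F, Ex T (cl (Wd (S : Subgroup G)) F) (cj y A))
    (exB : ∀ A, Ex T (cl (Wd (S : Subgroup G)) F) A → A ≤ B)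
    (off : (centralizer (zl (S : Subgroup G) M : Set G)).relIndex (cl (Wd (S : Subgroup G)) F) ≤
      (centralizer (cl (Wd (S : Subgroup G)) F : Set G)).relIndex (zl (S : Subgroup G) M))
    (hne : ¬ cl (Wd (S : Subgroup G)) F ≤ centralizer (zl (S : Subgroup G) M : Set G)) :
    ∃ y ∈ F, cj y⁻¹ (zl (S : Subgroup G) M) ≤ B ∧
      ¬ cj y⁻¹ (zl (S : Subgroup G) M) ≤ centralizer (Wd (S : Subgroup G) : Set G) := by
  have x := zl_ex R hM hP QT off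
  obtain ⟨y, hy, hyV⟩ : ∃ y ∈ F, ¬ zl (S : Subgroup G) M ≤ centralizer (cj y (Wd (S : Subgroup G)) : Set G) := by
    by_contra hcon
    push Not at hcon
    exact hne (cl_le fun y hy => le_centralizer_iff.1 (hcon y hy))
  refine ⟨y, hy, exB _ (exCj _ x _ (F.inv_mem hy)), fun h1 => hyV ?_⟩
  have h2 := cj_mono y h1
  rwa [cj_cj_inv, cj_centralizer] at h2

/-- **(α) over the frame at `(Q, V*)`.** -/
theorem hUM {ι : Type*} {B Q X ZJ : Subgroup G} {L W Z C A : ι → Subgroup G}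
    (ml : MLK.{u, u}) (hK : IsKGroup M) (h4 : 4 ≤ Nat.card (zc (S : Subgroup G)))
    (fr : FrL B Q (Wd (S : Subgroup G)) X ZJ L W Z C A 2)
    (low : Wd (S : Subgroup G) ≤ o2 (CZ (S : Subgroup G)))
    (lowz : ∀ z ∈ zc (S : Subgroup G), z ≠ 1 → Wd (S : Subgroup G) ≤ o2 (centralizer ({z} : Set G)))
    (hF : F ≤ CZ (S : Subgroup G)) (hU2 : ∀ x ∈ cl (Wd (S : Subgroup G)) F, x * x = 1)
    (QT : (S : Subgroup G) ⊓ centralizer (Wd (S : Subgroup G) : Set G) ≤ T)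
    (exCj : ∀ A, Ex T (cl (Wd (S : Subgroup G)) F) A → ∀ y ∈ F, Ex T (cl (Wd (S : Subgroup G)) F) (cj y A))
    (exB : ∀ A, Ex T (cl (Wd (S : Subgroup G)) F) A → A ≤ B) : cl (Wd (S : Subgroup G)) F ≤ o2 M :=
  Alpha.U_le_o2 S R.ctx.char2 ml hM hK h4 fr hF low lowz hU2 (line R hM hP QT exCj exB)

end zm

section wr

open Cfsg.Agent.MinSimple.VModule (oddGen)
open Cfsg.Agent.Omega.NO1.BestOff (Best)

variable {Y : Subgroup G}

/-- `U` is elementary abelian -/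
theorem U_sq (h : WR S (MZ (S : Subgroup G)) T Y) : ∀ x ∈ cl (zl (S : Subgroup G) (MZ (S : Subgroup G))) Y, x * x = 1 := by
  intro x hx
  have h1 := (ChoiceBase.mem_zc.1 ((U_le h h.md_zl).trans h.zl_GR_le hx)).2.1
  rwa [sq] at h1

variable {ι : Type*} {Q X ZJ : Subgroup G} {L W Z C A : ι → Subgroup G}

/-- **The hypothesis `hUM` of `QWR.exists_best_odd`.** -/
theorem hUM_of (R : RB S) (ml : MLK.{u, u}) (h4 : 4 ≤ Nat.card (zc (S : Subgroup G)))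
    (fr : FrL (BB (S : Subgroup G) (MZ (S : Subgroup G))) Q (Wd (S : Subgroup G)) X ZJ L W Z C A 2)
    (lowz : ∀ z ∈ zc (S : Subgroup G), z ≠ 1 → Wd (S : Subgroup G) ≤ o2 (centralizer ({z} : Set G)))
    (h : WR S (MZ (S : Subgroup G)) T Y) (hY : Y ≤ CZ (S : Subgroup G))
    (hM : IsLoc (S : Subgroup G) M) (hP : MZ (S : Subgroup G) ≤ M)
    (neg : Neg T Y (cl (zl (S : Subgroup G) (MZ (S : Subgroup G))) Y)) :
    cl (zl (S : Subgroup G) (MZ (S : Subgroup G))) Y ≤ o2 M :=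
  hUM (F := Y) (T := T) R hM hP ml (ML.GNN.kgroup_of_isLoc R.ctx R.ctx.not_isPGroup hM) h4 fr h.rq.low lowz hY (U_sq h) h.QT
    (fun _ x _ hy => ex_cj h neg x hy) fun _ x => ex_le_BB h neg x

/-- **THEOREM QW**, `|Z| ≥ 4`, `q = 2`, `Y ≤ C_G(Z)`. -/
theorem exists_best (R : RB S) (ml : MLK.{u, u}) (h4 : 4 ≤ Nat.card (zc (S : Subgroup G)))
    (fr : FrL (BB (S : Subgroup G) (MZ (S : Subgroup G))) Q (Wd (S : Subgroup G)) X ZJ L W Z C A 2)
    (lowz : ∀ z ∈ zc (S : Subgroup G), z ≠ 1 → Wd (S : Subgroup G) ≤ o2 (centralizer ({z} : Set G)))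
    (h : WR S (MZ (S : Subgroup G)) T Y) (BT : BB (S : Subgroup G) (MZ (S : Subgroup G)) ≤ T)
    (hY : Y ≤ CZ (S : Subgroup G)) (hM : IsLoc (S : Subgroup G) M) (hP : MZ (S : Subgroup G) ≤ M)
    (hD : centralizer (ZZ (S : Subgroup G) (MZ (S : Subgroup G)) : Set G) ≤ M)
    (hYZ : ¬ oddGen Y ≤ centralizer (ZZ (S : Subgroup G) (MZ (S : Subgroup G)) : Set G)) :
    ∃ A ≤ T, Best (cl (zl (S : Subgroup G) (MZ (S : Subgroup G))) Y) A ∧
      ¬ A ≤ centralizer (cl (zl (S : Subgroup G) (MZ (S : Subgroup G))) Y : Set G) ∧ ¬ A ≤ o2 Y :=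
  exists_best_odd h BT hD hP hYZ (hUM_of R ml h4 fr lowz h hY hM hP)

end wr

end Cfsg.Agent.Omega.NOThreeL.QWR.AlphaOf
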