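import Cfsg.Agent.Omega.NOThreeL.RRed.BFr.Top

/-!
# NO-3L, box R, one class, the level `(Q, V*)`: the local group `M`

`Q = C_S(V*)`, `J = nxtX S V*`, `Z_J = C_{V*}(J)`, `B = C_S(Z_J)` (`BFr.ZJ`, `BFr.BB` at `X = V*`).

* `TopM S E M` : `M ≥ S` local, `C_G(Z_J), E b, MZ S, N_G(B) ≤ M`, and `⟨V*^F⟩ ≤ O₂(M)` for all `F ≤ C_G(Z)`.
-/

set_option autoImplicit false

namespace Cfsg.Agent.Omega.NOThreeL.QWR

open Subgroup Cfsg Cfsg.Agent.Omega.MinPar Cfsg.Agent.Omega.Frame Cfsg.Agent.Omega.FrameNOFF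
open Cfsg.Agent.ZN (o2 zc zl jj)
open Cfsg.Agent.Omega.NOThreeL.Merge (MZ)
open Cfsg.Agent.Omega.NOThreeL.RRed (Wd)
open Cfsg.Agent.Omega.NOThreeL.RRed.FourTree (nxtX)

universe u

variable {G : Type u} [Group G]

/-- `Z_J = C_{V*}(J)` -/
abbrev ZV (S : Subgroup G) : Subgroup G := RRed.BFr.ZJ (Wd S) (nxtX S (Wd S))

/-- `B = C_S(Z_J)` -/
abbrev BV (S : Subgroup G) : Subgroup G := RRed.BFr.BB S (Wd S) (nxtX S (Wd S))

/-- The local group at the level `(Q, V*)`. -/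
structure TopM [Finite G] (S : Sylow 2 G) {I : Type u} (E : I → Subgroup G) (M : Subgroup G) : Prop where
  loc : IsLoc (S : Subgroup G) M
  cz : centralizer (ZV (S : Subgroup G) : Set G) ≤ M
  E : ∀ b, E b ≤ M
  Y : MZ (S : Subgroup G) ≤ M
  nb : normalizer (BV (S : Subgroup G) : Set G) ≤ M
  U : ∀ F : Subgroup G, F ≤ CZ (S : Subgroup G) → NoFF.Basic.V (Wd (S : Subgroup G)) F ≤ o2 M

end Cfsg.Agent.Omega.NOThreeL.QWR
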