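import Cfsg.Agent.Omega.NOThreeL.QWR.Glue
import Cfsg.Agent.Omega.NOThreeL.QWR.LtVOf
import Cfsg.Agent.Omega.NOThreeL.RRed.BFr.LevTn

/-!
# NO-3L, box R, one class, `q = 2`: THEOREM S''T at the top level `(Q, V*)`, `Q = C_S(V*)`

* `uni_top` : UNI+ for `N_G(B)`;
* **`false_top`** : `RB S`, `R = 1`, `𝔽₂`-blocks, `V*` irreducible, `|Ω₁Z(S)| ≥ 4`, `Q` a weakly closed level with
  `Ω₁Z(Q) = V*`, `RQ S (MZ S)` : contradiction.
-/

set_option autoImplicit false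
set_option linter.unusedSectionVars false

namespace Cfsg.Agent.Omega.NOThreeL.QWR.Glue

open Subgroup Cfsg Cfsg.Agent.ZN.ChoiceBase Cfsg.Agent.ZN.ChoiceSit Cfsg.Agent.Omega.MinPar Cfsg.Agent.Omega.Frame
open Cfsg.Agent.ZN (jj zc zl o2)
open Cfsg.Agent.Omega.FrameNOFF (CZ)
open Cfsg.Agent.Omega.OM.SwapK (WL BK ZK)
open Cfsg.Agent.Omega.OM.Lev.Uni (FrL)
open Cfsg.Agent.Omega.NO3S.Level (nxt Lev)
open Cfsg.Agent.Omega.NOThreeL.Merge (MZ le_MZ S_le_MZ)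
open Cfsg.Agent.Omega.NOThreeL.RRed (Wd le_norm_Wd)
open Cfsg.Agent.Omega.NOThreeL.RTree (RB)
open Cfsg.Agent.Omega.NOThreeL.RZ (RR)
open Cfsg.Agent.Omega.NOThreeL.RRed.FourTree (Bks nxtX)
open Cfsg.Agent.Omega.NOThreeL.RRed.BFr (ZJ bd_of mvb_of all_blocks nxtX_Wd Lv fP ofFull MZ_le_sSup)
open Cfsg.Agent.Omega.Node.MultiOf (FBl)
open Cfsg.Agent.Omega.Node.MulX (uniTwoX)
open Cfsg.Agent.Omega.EDel (YL le_YL_of)
open Cfsg.Agent.Omega.NOThreeL.QWR.FrTop (QT zv_eq bv_eq)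

universe u

variable {G : Type u} [Group G] [Finite G] {S : Sylow 2 G}

/-- UNI+ for `N_G(B)` at the level `(Q, V*)` -/
theorem uni_top {ι : Type} [Finite ι] {L W Z C A : ι → Subgroup G} (wl : WL S (QT (S : Subgroup G)))
    (hz : zc (QT (S : Subgroup G)) = Wd (S : Subgroup G))
    (fr : FrL (BK (S : Subgroup G) (QT (S : Subgroup G))) (QT (S : Subgroup G)) (Wd (S : Subgroup G))
      (Wd (S : Subgroup G)) (ZK (S : Subgroup G) (QT (S : Subgroup G))) L W Z C A 2)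
    {g : G} (hg : g ∈ normalizer (BK (S : Subgroup G) (QT (S : Subgroup G)) : Set G)) (i : ι) :
    ∃ j, cj g (W i) = W j ∧ cj g (L i) ≤ YL (ZK (S : Subgroup G) (QT (S : Subgroup G))) L j := by
  have hX : g ∈ normalizer (Wd (S : Subgroup G) : Set G) := by
    rw [← hz]
    exact NO3S.Level.normalizer_le_zc _ (wl.norm_B hg)
  have hb : FBl (BK (S : Subgroup G) (QT (S : Subgroup G))) (L i) (W i) :=
    ⟨⟨_, _, fr.blk i⟩, (fr.blk i).toBlock (fr.cardZ i) wl.lb.Bp wl.lb.weakNormal⟩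
  obtain ⟨j, h1, h2⟩ := uniTwoX S wl.lev hz.symm rfl fr (L' := cj g (L i)) (V' := cj g (W i)) ⟨hb.conj hg, by
    rw [← cj_eq_of_mem_normalizer hX]
    exact cj_mono g ((fr.WV i).trans fr.VX)⟩
  exact ⟨j, h1, le_YL_of h2⟩

variable {I : Type u} [Fintype I] [DecidableEq I] {N E : I → Subgroup G} {Om : I → Type u}
  [∀ i, Fintype (Om i)] [∀ i, DecidableEq (Om i)] {phi : ∀ i, Finset (Om i) → G}

/-- **Box R, one class, `q = 2`, the top level `(Q, V*)`.** -/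
theorem false_top (hML : ML.Final.MLK.{u, u}) (B : RB S) (hr : RR (S : Subgroup G) = ⊥) (hB : Bks S N E ⊥ Om phi)
    (h4 : 4 ≤ Nat.card (zc (S : Subgroup G)))
    (irr : ∀ U : Subgroup G, U ≤ Wd (S : Subgroup G) → MZ (S : Subgroup G) ≤ normalizer (U : Set G) → U ≠ ⊥ →
      Wd (S : Subgroup G) ≤ U)
    (wl : WL S (QT (S : Subgroup G))) (hz : zc (QT (S : Subgroup G)) = Wd (S : Subgroup G))
    (rq : RQ S (MZ (S : Subgroup G)))
    (um : ∀ (ι : Type) (_ : Finite ι) (L W Z C A : ι → Subgroup G), (∀ i, L i ≤ MZ (S : Subgroup G)) →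
      FrL (BK (S : Subgroup G) (QT (S : Subgroup G))) (QT (S : Subgroup G)) (Wd (S : Subgroup G))
        (Wd (S : Subgroup G)) (ZK (S : Subgroup G) (QT (S : Subgroup G))) L W Z C A 2 →
      ∀ M : Subgroup G, IsLoc (S : Subgroup G) M →
        centralizer (ZK (S : Subgroup G) (QT (S : Subgroup G)) : Set G) ≤ M → MZ (S : Subgroup G) ≤ M → UM S M) :
    False := by
  have hG := B.ctx.char2
  have hbd := bd_of B hB
  have elX : IsElementaryAbelian 2 (Wd (S : Subgroup G)) := by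
    have h2 : IsElementaryAbelian 2 (zc (QT (S : Subgroup G))) := ZN.isElementaryAbelian_zc _
    rwa [hz] at h2
  have hXc : ∀ x ∈ Wd (S : Subgroup G), ∀ y ∈ Wd (S : Subgroup G), x * y = y * x := SQ1.Bau.elem_comm elX
  have hm := mvb_of hB ((RRed.HypJOf.nxtX_le _ _).trans (S_le_MZ B.ctx B.full))
    (all_blocks B hB irr hXc le_rfl le_norm_Wd (nxtX_Wd B hr))
  have hl := hbd.lvX elX le_rfl le_norm_Wd hm
  have hzq : Lv.ZcQ (S : Subgroup G) (Wd (S : Subgroup G)) :=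
    fun x h1 h2 h3 => hz.le (mem_zc.2 ⟨h1, h2, fun y hy => (h3 y hy).symm⟩)
  obtain ⟨Lb, A, h1, -, -, h2⟩ := hl.exists_frL hzq
  have hLM : ∀ i, Lb i ≤ MZ (S : Subgroup G) := fun i => (h1 i).trans (hl.XX_le_M i)
  have eZ : ZJ (Wd (S : Subgroup G)) (nxtX (S : Subgroup G) (Wd (S : Subgroup G))) =
      ZK (S : Subgroup G) (QT (S : Subgroup G)) := (zv_eq wl.lev hz).symm
  have eB : RRed.BFr.BB (S : Subgroup G) (Wd (S : Subgroup G)) (nxtX (S : Subgroup G) (Wd (S : Subgroup G))) =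
      BK (S : Subgroup G) (QT (S : Subgroup G)) := (bv_eq wl.lev hz).symm
  have h2' := h2
  rw [eB, eZ] at h2'
  obtain ⟨b⟩ := hB.nonempty
  have hPt : Nonempty (Fin (Fintype.card (Σ i, Om i))) := by
    have h3 := hB.toFull.three b
    obtain ⟨a⟩ : Nonempty (Om b) := Fintype.card_pos_iff.1 (by omega)
    exact ⟨(fP Om).symm ⟨b, a⟩⟩
  have hSZ : (S : Subgroup G) ≤ normalizer (ZK (S : Subgroup G) (QT (S : Subgroup G)) : Set G) :=
    (wl.lb.two_le S.isPGroup' wl.lb.BS).trans wl.lb.norm_B_le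
  refine hl.false_T h2 hML hG B.ctx.kproper ?_ ?_ ?_ ((ofFull hB.toFull).tr_of_irr irr) MZ_le_sSup ?_ h4
  · rw [eB, eZ]
    exact fun R hR hR2 hBR => ((OM.WOneG.syl_B S wl.lb.eqB hSZ).2.2 R hR hR2 hBR).le
  · rw [eB, eZ]
    exact fun g hg i => uni_top wl hz h2' hg i
  · rw [eZ]
    exact fun U hU hD hLU => nl_top B wl hz rq h2' hLM (um _ inferInstance _ _ _ _ _ hLM h2') hU hD hLU
  · rw [eZ]
    exact wl.lev.next.zc_le

end Cfsg.Agent.Omega.NOThreeL.QWR.Glue
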