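import Cfsg.Agent.Omega.KL.TwoS.Sn
import Cfsg.Agent.Omega.NO3S.V4.Avg

/-!
# THEOREM QW in box R (helper787 #27099, helper733 #27230): the last line (r2), pure

`u` moves only inside `V = V*` under `Γ = ⟨W_Φ^h⟩`; every `W_Φ^h` fixes a vector of the coset `u V`. Then one vector of
`u V` is fixed by all transpositions (by all root groups) in `Γ`.

* `exists_prod` : the blocks are treated one by one;
* `exists_even` : one block of letters: `[u, (x y)] = ε(x,y) {x,y}` with `ε(x,y) = χ(x) + χ(y)`, and `{χ = 1}` or its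
  complement is an even set;
-/

set_option autoImplicit false
set_option linter.unusedSectionVars false

namespace Cfsg.Agent.Omega.NOThreeL.QWR.Fix

open Subgroup
open Cfsg.Agent.Omega.KL.TwoS (Rel Lett)

universe u

variable {G : Type u} [Group G]

/-- The blocks are treated one by one. -/
theorem exists_prod {ι : Type*} [Finite ι] {V : Subgroup G} {N : ι → Subgroup G} {A : ι → Set G} {u : G}
    (Vc : ∀ x ∈ V, ∀ y ∈ V, x * y = y * x) (NV : ∀ b, N b ≤ V)
    (off : ∀ b c, b ≠ c → ∀ a ∈ A b, ∀ n ∈ N c, a * n = n * a)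
    (fx : ∀ b, ∃ n ∈ N b, ∀ a ∈ A b, a * (u * n) = u * n * a) :
    ∃ l ∈ V, ∀ b, ∀ a ∈ A b, a * (u * l) = u * l * a := by
  classical
  have : Fintype ι := Fintype.ofFinite ι
  choose n hn hna using fx
  suffices H : ∀ s : Finset ι, ∃ l ∈ V, (∀ b ∈ s, ∀ a ∈ A b, a * (u * l) = u * l * a) ∧
      ∀ b ∉ s, ∀ a ∈ A b, a * l = l * a by
    obtain ⟨l, hl, h1, -⟩ := H Finset.univ
    exact ⟨l, hl, fun b => h1 b (Finset.mem_univ b)⟩
  intro s
  induction s using Finset.induction_on with
  | empty => exact ⟨1, one_mem _, fun b hb => absurd hb (Finset.notMem_empty b), fun b _ a _ => by rw [mul_one, one_mul]⟩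
  | insert c s hc ih =>
    obtain ⟨l, hl, h1, h2⟩ := ih
    refine ⟨l * n c, mul_mem hl (NV c (hn c)), fun b hb a ha => ?_, fun b hb a ha => ?_⟩
    · rcases Finset.mem_insert.1 hb with rfl | hb'
      · have e1 := hna b a ha
        have e2 := h2 b hc a ha
        have e3 := Vc l hl (n b) (NV b (hn b))
        calc a * (u * (l * n b)) = a * (u * n b) * l := by rw [e3]; group
          _ = u * n b * (a * l) := by rw [e1]; group
          _ = u * n b * l * a := by rw [e2]; group
          _ = u * (l * n b) * a := by rw [e3]; group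
      · have hbc : b ≠ c := by rintro rfl; exact hc hb'
        have e1 := h1 b hb' a ha
        have e2 := off b c hbc a ha (n c) (hn c)
        calc a * (u * (l * n c)) = a * (u * l) * n c := by group
          _ = u * l * (a * n c) := by rw [e1]; group
          _ = u * (l * n c) * a := by rw [e2]; group
    · rw [Finset.mem_insert, not_or] at hb
      have e1 := h2 b hb.2 a ha
      have e2 := off b c hb.1 a ha (n c) (hn c)
      calc a * (l * n c) = (a * l) * n c := by group
        _ = l * (a * n c) := by rw [e1]; group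
        _ = l * n c * a := by rw [e2]; group

section one

variable {Ω : Type*} [Fintype Ω] [DecidableEq Ω] {N R : Subgroup G} {φ : Finset Ω → G}

theorem phi_comm (h : Lett N R φ) (s t : Finset Ω) : φ s * φ t = φ t * φ s := by
  rw [← h.mul, ← h.mul, symmDiff_comm]

/-- `φ {x, y} φ {y, w} = φ {x, w}` -/
theorem phi_tri (h : Lett N R φ) {x y w : Ω} (hxy : x ≠ y) (hyw : y ≠ w) (hxw : x ≠ w) :
    φ {x, y} * φ {y, w} = φ {x, w} := by
  rw [← h.mul]
  congr 1
  ext t
  simp only [Finset.mem_symmDiff, Finset.mem_insert, Finset.mem_singleton]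
  by_cases h1 : t = x
  · subst h1
    simp [hxy, hxw]
  · by_cases h2 : t = y
    · subst h2
      simp [hyw, h1]
    · simp [h1, h2]

/-- one block of letters -/
theorem exists_even (h : Lett N R φ) {Δ : Subgroup G} {u : G}
    (cK : ∀ g ∈ Δ, g ∈ centralizer (N : Set G) → g * u = u * g)
    (tr : ∀ x y : Ω, x ≠ y → ∃ a ∈ Δ, Rel φ a (Equiv.swap x y) ∧
      (a * u * a⁻¹ = u ∨ a * u * a⁻¹ = u * φ {x, y})) :
    ∃ n ∈ N, ∀ a ∈ Δ, (∃ x y : Ω, x ≠ y ∧ Rel φ a (Equiv.swap x y)) → a * (u * n) = u * n * a := by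
  classical
  -- the base letter
  have hne : Nonempty Ω := Fintype.card_pos_iff.1 h.odd.pos
  obtain ⟨o⟩ := hne
  -- well-defined
  have wd : ∀ a ∈ Δ, ∀ b ∈ Δ, ∀ σ : Equiv.Perm Ω, Rel φ a σ → Rel φ b σ → a * u * a⁻¹ = b * u * b⁻¹ := by
    intro a ha b hb σ h1 h2
    have h3 : Rel φ (b⁻¹ * a) 1 := by
      have := h2.inv.mul h1
      rwa [inv_mul_cancel] at this
    have h4 := cK _ (mul_mem (inv_mem hb) ha) (h.cent_of_one h3)
    calc a * u * a⁻¹ = b * ((b⁻¹ * a) * u) * a⁻¹ := by group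
      _ = b * (u * (b⁻¹ * a)) * a⁻¹ := by rw [h4]
      _ = b * u * b⁻¹ := by group
  set P : Ω → Ω → Prop := fun x y => ∃ a ∈ Δ, Rel φ a (Equiv.swap x y) ∧ a * u * a⁻¹ = u with hP
  set χ : Ω → Prop := fun x => x ≠ o ∧ ¬ P o x with hχ
  have evp : ∀ {x y : Ω}, x ≠ y → Even ({x, y} : Finset Ω).card := fun hxy => by
    rw [Finset.card_pair hxy]; exact even_two
  have pne : ∀ {x y : Ω}, x ≠ y → φ {x, y} ≠ 1 := fun {x y} hxy e => by
    have h1 := h.inj _ (evp hxy) e
    have h2 : x ∈ ({x, y} : Finset Ω) := by simp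
    rw [h1] at h2
    exact absurd h2 (Finset.notMem_empty x)
  -- the main identity
  have key : ∀ x y : Ω, x ≠ y → ∀ a ∈ Δ, Rel φ a (Equiv.swap x y) →
      a * u * a⁻¹ = if (χ x ↔ χ y) then u else u * φ {x, y} := by
    -- with `o`
    have k0 : ∀ y : Ω, y ≠ o → ∀ a ∈ Δ, Rel φ a (Equiv.swap o y) →
        a * u * a⁻¹ = if χ y then u * φ {o, y} else u := by
      intro y hy a ha h1
      obtain ⟨b, hb, h2, h3⟩ := tr o y (Ne.symm hy)
      rw [wd a ha b hb _ h1 h2]
      split_ifs with h4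
      · rcases h3 with h3 | h3
        · exact absurd ⟨b, hb, h2, h3⟩ h4.2
        · exact h3
      · rcases h3 with h3 | h3
        · exact h3
        · exfalso
          apply h4
          refine ⟨hy, ?_⟩
          rintro ⟨c, hc, h5, h6⟩
          have h7 := wd c hc b hb _ h5 h2
          rw [h6, h3] at h7
          exact pne (Ne.symm hy) (mul_eq_left.1 h7.symm)
    have hχo : ¬ χ o := fun h1 => h1.1 rfl
    intro x y hxy a ha h1
    by_cases hx : x = o
    · subst hx
      rw [k0 y (Ne.symm hxy) a ha h1]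
      by_cases hy : χ y
      · simp [hy, hχo]
      · simp [hy, hχo]
    by_cases hy : y = o
    · subst hy
      rw [Equiv.swap_comm] at h1
      rw [k0 x hx a ha h1, Finset.pair_comm x y]
      by_cases hx' : χ x
      · simp [hx', hχo]
      · simp [hx', hχo]
    -- `b = c d c⁻¹`, `c = (o x)`, `d = (o y)`
    obtain ⟨c, hc, hc1, -⟩ := tr o x (Ne.symm hx)
    obtain ⟨d, hd, hd1, -⟩ := tr o y (Ne.symm hy)
    have hb : c * d * c⁻¹ ∈ Δ := mul_mem (mul_mem hc hd) (inv_mem hc)
    have hbR : Rel φ (c * d * c⁻¹) (Equiv.swap x y) := by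
      have h2 := (hc1.mul hd1).mul hc1.inv
      have e : Equiv.swap o x * Equiv.swap o y * (Equiv.swap o x)⁻¹ = Equiv.swap x y := by
        have h3 := Equiv.swap_apply_apply (Equiv.swap o x) o y
        rw [Equiv.swap_apply_left, Equiv.swap_apply_of_ne_of_ne hy (Ne.symm hxy)] at h3
        exact h3.symm
      rwa [e] at h2
    rw [wd a ha _ hb _ h1 hbR]
    have e1 := k0 x hx c hc hc1
    have e2 := k0 y hy d hd hd1
    -- the action on the pairs
    have a1 : c * φ {o, x} * c⁻¹ = φ {o, x} := by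
      rw [h.pair hc1 (Ne.symm hx), Equiv.swap_apply_left, Equiv.swap_apply_right, Finset.pair_comm]
    have a2 : c * φ {o, y} * c⁻¹ = φ {x, y} := by
      rw [h.pair hc1 (Ne.symm hy), Equiv.swap_apply_left, Equiv.swap_apply_of_ne_of_ne hy (Ne.symm hxy)]
    have a3 : d * φ {o, x} * d⁻¹ = φ {y, x} := by
      rw [h.pair hd1 (Ne.symm hx), Equiv.swap_apply_left, Equiv.swap_apply_of_ne_of_ne hx hxy]
    have a4 : c * φ {y, x} * c⁻¹ = φ {y, o} := by
      rw [h.pair hc1 (Ne.symm hxy), Equiv.swap_apply_right, Equiv.swap_apply_of_ne_of_ne hy (Ne.symm hxy)]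
    have t1 : φ {o, x} * φ {y, o} = φ {x, y} := by
      rw [Finset.pair_comm o x, Finset.pair_comm y o, phi_tri h hx (Ne.symm hy) hxy]
    have t2 : φ {x, y} * φ {x, y} = 1 := h.phi_sq _
    -- `c⁻¹ u c`
    have b1 : c⁻¹ * u * c = if χ x then u * φ {o, x} else u := by
      by_cases hx' : χ x
      · simp only [hx', if_true] at e1 ⊢
        have e3 : c⁻¹ * φ {o, x} * c = φ {o, x} := by
          calc c⁻¹ * φ {o, x} * c = c⁻¹ * (c * φ {o, x} * c⁻¹) * c := by rw [a1]
            _ = φ {o, x} := by group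
        have e4 : u = (c⁻¹ * u * c) * (c⁻¹ * φ {o, x} * c) := by
          calc u = c⁻¹ * (c * u * c⁻¹) * c := by group
            _ = c⁻¹ * (u * φ {o, x}) * c := by rw [e1]
            _ = _ := by group
        rw [e3] at e4
        have e5 : ((c⁻¹ * u * c) * φ {o, x}) * φ {o, x} = c⁻¹ * u * c := by
          rw [mul_assoc (c⁻¹ * u * c), h.phi_sq, mul_one]
        rw [← e4] at e5
        exact e5.symm
      · simp only [hx', if_false] at e1 ⊢
        calc c⁻¹ * u * c = c⁻¹ * (c * u * c⁻¹) * c := by rw [e1]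
          _ = u := by group
    have b2 : c * d * c⁻¹ * u * (c * d * c⁻¹)⁻¹ = c * (d * (c⁻¹ * u * c) * d⁻¹) * c⁻¹ := by group
    rw [b2, b1]
    by_cases hx' : χ x <;> by_cases hy' : χ y
    · simp only [hx', hy', if_true, iff_self] at e1 e2 ⊢
      calc c * (d * (u * φ {o, x}) * d⁻¹) * c⁻¹ = c * ((d * u * d⁻¹) * (d * φ {o, x} * d⁻¹)) * c⁻¹ := by group
        _ = (c * u * c⁻¹) * (c * φ {o, y} * c⁻¹) * (c * φ {y, x} * c⁻¹) := by rw [e2, a3]; group
        _ = u * φ {o, x} * φ {x, y} * φ {y, o} := by rw [e1, a2, a4]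
        _ = u * (φ {o, x} * φ {y, o} * φ {x, y}) := by
          rw [mul_assoc (φ {o, x}), phi_comm h {y, o} {x, y}]; group
        _ = u := by rw [t1, t2, mul_one]
    · simp only [hx', hy', if_true, if_false] at e1 e2 ⊢
      calc c * (d * (u * φ {o, x}) * d⁻¹) * c⁻¹ = c * ((d * u * d⁻¹) * (d * φ {o, x} * d⁻¹)) * c⁻¹ := by group
        _ = (c * u * c⁻¹) * (c * φ {y, x} * c⁻¹) := by rw [e2, a3]; group
        _ = u * (φ {o, x} * φ {y, o}) := by rw [e1, a4]; group
        _ = _ := by rw [t1]; simp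
    · simp only [hx', hy', if_true, if_false] at e1 e2 ⊢
      calc c * (d * u * d⁻¹) * c⁻¹ = (c * u * c⁻¹) * (c * φ {o, y} * c⁻¹) := by rw [e2]; group
        _ = u * φ {x, y} := by rw [e1, a2]
        _ = _ := by simp
    · simp only [hx', hy', if_false, iff_self, if_true] at e1 e2 ⊢
      rw [e2, e1]
  -- the even set
  set s₀ : Finset Ω := Finset.univ.filter χ with hs₀
  obtain ⟨s, hs, hsχ⟩ : ∃ s : Finset Ω, Even s.card ∧ ∀ x y, ((x ∈ s ↔ y ∈ s) ↔ (χ x ↔ χ y)) := by
    rcases Nat.even_or_odd s₀.card with h1 | h1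
    · exact ⟨s₀, h1, fun x y => by simp [hs₀]⟩
    · refine ⟨s₀ᶜ, ?_, fun x y => by simp [hs₀, not_iff_not]⟩
      rw [Finset.card_compl]
      exact Nat.Odd.sub_odd h.odd h1
  refine ⟨φ s, (h.mem _).2 ⟨s, hs, rfl⟩, ?_⟩
  rintro a ha ⟨x, y, hxy, h1⟩
  have h2 := key x y hxy a ha h1
  have h3 := h1 s hs
  have h4 : s.map (Equiv.swap x y).toEmbedding = if (x ∈ s ↔ y ∈ s) then s else symmDiff s {x, y} := by
    ext t
    rw [Finset.mem_map_equiv, Equiv.symm_swap]
    by_cases hxs : x ∈ s <;> by_cases hys : y ∈ s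
    · rw [if_pos (by simp [hxs, hys])]
      by_cases t1 : t = x
      · subst t1; rw [Equiv.swap_apply_left]; simp [hxs, hys]
      · by_cases t2 : t = y
        · subst t2; rw [Equiv.swap_apply_right]; simp [hxs, hys]
        · rw [Equiv.swap_apply_of_ne_of_ne t1 t2]
    · rw [if_neg (by simp [hxs, hys])]
      by_cases t1 : t = x
      · subst t1; rw [Equiv.swap_apply_left]; simp [Finset.mem_symmDiff, hxs, hys]
      · by_cases t2 : t = y
        · subst t2; rw [Equiv.swap_apply_right]; simp [Finset.mem_symmDiff, hxs, hys]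
        · rw [Equiv.swap_apply_of_ne_of_ne t1 t2]; simp [Finset.mem_symmDiff, t1, t2]
    · rw [if_neg (by simp [hxs, hys])]
      by_cases t1 : t = x
      · subst t1; rw [Equiv.swap_apply_left]; simp [Finset.mem_symmDiff, hxs, hys]
      · by_cases t2 : t = y
        · subst t2; rw [Equiv.swap_apply_right]; simp [Finset.mem_symmDiff, hxs, hys]
        · rw [Equiv.swap_apply_of_ne_of_ne t1 t2]; simp [Finset.mem_symmDiff, t1, t2]
    · rw [if_pos (by simp [hxs, hys])]
      by_cases t1 : t = x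
      · subst t1; rw [Equiv.swap_apply_left]; simp [hxs, hys]
      · by_cases t2 : t = y
        · subst t2; rw [Equiv.swap_apply_right]; simp [hxs, hys]
        · rw [Equiv.swap_apply_of_ne_of_ne t1 t2]
  have h5 : a * (u * φ s) * a⁻¹ = u * φ s := by
    calc a * (u * φ s) * a⁻¹ = (a * u * a⁻¹) * (a * φ s * a⁻¹) := by group
      _ = u * φ s := by
        rw [h2, h3, h4]
        by_cases hc : (χ x ↔ χ y)
        · rw [if_pos hc, if_pos ((hsχ x y).2 hc)]
        · rw [if_neg hc, if_neg fun h6 => hc ((hsχ x y).1 h6), h.mul, phi_comm h s, mul_assoc,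
            ← mul_assoc (φ {x, y}), h.phi_sq, one_mul]
  exact mul_inv_eq_iff_eq_mul.1 h5

end one

end Cfsg.Agent.Omega.NOThreeL.QWR.Fix
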