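import Cfsg.Agent.Omega.NOThreeL.RRed.BFr.Top
import Cfsg.Agent.Omega.NOThreeL.RRed.BFr.VSup
import Cfsg.Agent.Omega.OM.SwapK.Blk

/-!
# NO-3L, box R, one class, top level `(Q, V*)`, `Q = C_S(V*)`: the frame

`Z_J = Ω₁Z(nxt S Q)` (`ZK S Q`), `B = C_S(Z_J)` (`BK S Q`).

* `nxtX_zc`, `zk_eq`, `bk_eq` : the bridge between `SwapK.{ZK, BK}` and helper947's `BFr.{ZJ, BB}`;
* **`frLM_top`** : the frame `FrL (BK S Q) Q V* V* (ZK S Q) L W Z C A 2` from the blocks, with `L i ≤ MZ S` and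
  `MZ S ∩ N(B)` transitive on the pairs;
* `hall` : `Q ≤ O₂(P)`, `P ∈ P*(S)`; `of_frL`, `wd_eq` : `V* = ⟨V_P⟩`; `low`, **`noff`** : the last fields of helper587's
  `LtV`.
-/

set_option autoImplicit false
set_option linter.unusedSectionVars false

namespace Cfsg.Agent.Omega.NOThreeL.QWR.FrTop

open Subgroup Cfsg Cfsg.Agent.Omega.MinPar Cfsg.Agent.Omega.Frame Cfsg.Agent.Omega.FrameNOFF
open Cfsg.Agent.ZN.ChoiceBase Cfsg.Agent.ZN.ChoiceSit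
open Cfsg.Agent.ZN (zc zl o2 zj bau jj)
open Cfsg.Agent.Omega.NO3S.Level (lev Lev nxt)
open Cfsg.Agent.Omega.OM.SwapK (ZK BK WL)
open Cfsg.Agent.Omega.OM.Uni (FB)
open Cfsg.Agent.Omega.OM.Lev.Uni (FrL)
open Cfsg.Agent.Omega.NOThreeL.RZ (RR)
open Cfsg.Agent.Omega.NOThreeL.RTree (RB)
open Cfsg.Agent.Omega.NOThreeL.Merge (MZ le_MZ S_le_MZ isLoc_MZ)
open Cfsg.Agent.Omega.NOThreeL.RRed (Wd zl_le_Wd wcomm le_norm_Wd)
open Cfsg.Agent.Omega.NOThreeL.RRed.FourTree (Bks nxtX)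
open Cfsg.Agent.Omega.NOThreeL.RRed.BFr (ZJ BB exists_frX nxtX_Wd Noff.comm_T Noff.low)
open Cfsg.Agent.Omega.NOThreeL.RRed.BFr.VSup (Fx)

universe u

variable {G : Type u} [Group G]

/-- `Q = C_S(V*)` -/
abbrev QT (S : Subgroup G) : Subgroup G := S ⊓ centralizer (Wd S : Set G)

theorem nxtX_zc (S K : Subgroup G) : nxtX S (zc K) = nxt S K := rfl

theorem zk_eq {S K V : Subgroup G} [Finite G] (h : Lev S K) (hz : zc K = V) : ZK S K = ZJ V (nxt S K) := by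
  have hKn : K ≤ nxt S K := NO3S.Level.le_nxt h.le
  apply le_antisymm
  · intro x hx
    have h1 : x ∈ zc (nxt S K) := hx
    refine ⟨hz.le (h.zc_le_zc hKn (NO3S.Level.nxt_le _ _) h1), mem_centralizer_iff.2 fun a ha => ?_⟩
    exact (mem_zc.1 h1).2.2 a ha
  · rintro x ⟨hx, hxA⟩
    have h1 := mem_zc.1 (hz.ge hx)
    exact mem_zc.2 ⟨hKn h1.1, h1.2.1, fun a ha => mem_centralizer_iff.1 hxA a ha⟩

theorem bk_eq {S K V : Subgroup G} [Finite G] (h : Lev S K) (hz : zc K = V) : BK S K = BB S V (nxt S K) := by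
  have h1 := zk_eq h hz
  unfold ZK at h1
  unfold BK BB
  rw [h1]

variable [Finite G] {S : Sylow 2 G}

section frame

variable {I : Type u} [Fintype I] [DecidableEq I] {N E : I → Subgroup G} {Om : I → Type u}
  [∀ i, Fintype (Om i)] [∀ i, DecidableEq (Om i)] {phi : ∀ i, Finset (Om i) → G}

/-- **THE FRAME AT `(Q, V*)`.** -/
theorem frLM_top (B : RB S) (hr : RR (S : Subgroup G) = ⊥) (hB : Bks S N E ⊥ Om phi)
    (irr : ∀ U : Subgroup G, U ≤ Wd (S : Subgroup G) → MZ (S : Subgroup G) ≤ normalizer (U : Set G) → U ≠ ⊥ →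
      Wd (S : Subgroup G) ≤ U) (hl : Lev (S : Subgroup G) (QT (S : Subgroup G)))
    (hz : zc (QT (S : Subgroup G)) = Wd (S : Subgroup G)) :
    ∃ (ι : Type) (_ : Finite ι) (L W Z C A : ι → Subgroup G), Nonempty ι ∧
      (∑ i, Fintype.card (Om i)) ≤ 2 * Nat.card ι + Fintype.card I ∧ (∀ i, L i ≤ MZ (S : Subgroup G)) ∧
      FrL (BK (S : Subgroup G) (QT (S : Subgroup G))) (QT (S : Subgroup G)) (Wd (S : Subgroup G)) (Wd (S : Subgroup G))
        (ZK (S : Subgroup G) (QT (S : Subgroup G))) L W Z C A 2 ∧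
      ∀ i j, ∃ g ∈ MZ (S : Subgroup G), g ∈ normalizer (BK (S : Subgroup G) (QT (S : Subgroup G)) : Set G) ∧
        cj g (W i) = W j := by
  have h1 : IsElementaryAbelian 2 (Wd (S : Subgroup G)) := by
    have h2 : IsElementaryAbelian 2 (zc (QT (S : Subgroup G))) := ZN.isElementaryAbelian_zc _
    rwa [hz] at h2
  obtain ⟨ι, i1, L, W, Z, C, A, h2, h3, h4, h5, h6⟩ := exists_frX B hB irr (X := Wd (S : Subgroup G)) h1 le_rfl
    le_norm_Wd (Or.inl hz.le) (nxtX_Wd B hr)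
  have h7 : nxtX (S : Subgroup G) (Wd (S : Subgroup G)) = nxt (S : Subgroup G) (QT (S : Subgroup G)) := by
    rw [← nxtX_zc, hz]
  rw [h7, ← zk_eq hl hz, ← bk_eq hl hz] at h5
  rw [h7, ← bk_eq hl hz] at h6
  exact ⟨ι, i1, L, W, Z, C, A, h2, h3, h4, h5, h6⟩

end frame

section noff

variable {Q : Subgroup G}

/-- `Q ≤ O₂(P)` for all `P ∈ P*(S)`, if `V* ≤ Ω₁Z(Q)` -/
theorem hall (hQ : Q ≤ (S : Subgroup G)) (hX : Wd (S : Subgroup G) ≤ zc Q) :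
    ∀ P : Subgroup G, IsParS (S : Subgroup G) P → Q ≤ o2 P := by
  intro P hP
  refine le_trans ?_ (OM.BlkGen.inf_cent (T := (S : Subgroup G)) (H := P)
    ⟨hP.le, S.isPGroup', fun Q _ hQ hle => S.is_maximal' hQ hle⟩ hP.toIsMinPar
    fun hc => hP.not_zc (hc.trans (centralizer_le_normalizer _)))
  refine le_inf hQ ?_
  rw [← le_centralizer_iff]
  intro v hv
  rw [mem_centralizer_iff]
  intro a ha
  exact (mem_zc.1 (hX (zl_le_Wd hP hv))).2.2 a ha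

theorem hblk (R : RB S) (wl : WL S Q) (hX : Wd (S : Subgroup G) ≤ zc Q) :
    ∀ Y : Subgroup G, IsParS (S : Subgroup G) Y → ¬ nxt (S : Subgroup G) Q ≤ o2 Y →
      ∃ L' V' Z' : Subgroup G, ∃ q' : ℕ, FB (BK (S : Subgroup G) Q) L' V' Z' q' ∧
        (∀ U : Subgroup G, U ≤ V' → L' ≤ normalizer (U : Set G) → U ≤ centralizer (L' : Set G) ∨ V' ≤ U) ∧
        L' ≤ Y ∧ Y ≤ (S : Subgroup G) ⊔ L' := by
  intro Y hY hn
  obtain ⟨L', V', h1, ⟨⟨Z', q', h2⟩, h3⟩, h4⟩ := wl.exists_fblk (T := (S : Subgroup G)) (H := Y)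
    ⟨hY.le, S.isPGroup', fun Q _ hQ hle => S.is_maximal' hQ hle⟩ wl.lb.BS hY.toIsMinPar
    (hY.isLoc.char2 S R.ctx.char2) (hall wl.lev.le hX Y hY) hn
    fun hc => hY.not_zc (hc.trans (centralizer_le_normalizer _))
  exact ⟨L', V', Z', q', h2, h3.irr, h1, h4⟩

variable {ι : Type} [Finite ι] {X : Subgroup G} {L W Z C A : ι → Subgroup G}

theorem of_frL (R : RB S) (wl : WL S Q)
    (fr : FrL (BK (S : Subgroup G) Q) Q (Wd (S : Subgroup G)) X (ZK (S : Subgroup G) Q) L W Z C A 2)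
    (hL : ∀ i, L i ≤ MZ (S : Subgroup G)) :
    Fx S (nxt (S : Subgroup G) Q) (BK (S : Subgroup G) Q) (Wd (S : Subgroup G)) (ZK (S : Subgroup G) Q)
      (MZ (S : Subgroup G)) L W Z C where
  SM := S_le_MZ R.ctx R.full
  MV := le_norm_Wd
  LM := hL
  lb := wl.lb
  wc := wl.wcB
  zcB := fr.zcB
  zcS := wl.lev.next.zc_le
  Vc := wcomm R
  blk := fr.blk
  cardZ := fr.cardZ
  ZJV := fr.ZJV
  Z_le := fr.Z_le
  WV := fr.WV
  CV := fr.CV
  dir := fr.dir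
  C0 := fr.C0
  WjC := fr.WjC
  split := fun i z hz => fr.split_ZJ i hz
  LC := fr.LC
  uni := fun L' V' Z' q' hFB hle => by
    obtain ⟨hq, i, hc, hle'⟩ := fr.uni hFB.toMd (hle.trans fr.VX)
    subst hq
    obtain ⟨hZ, hN⟩ := OM.Lev.UniPlus.nb_of fr hFB hc
    exact ⟨i, hZ, hN, hle'⟩

/-- **`V* = ⟨V_P : P ∈ P*(S)⟩`** -/
theorem wd_eq (R : RB S) (wl : WL S Q) (hX : Wd (S : Subgroup G) ≤ zc Q)
    (fr : FrL (BK (S : Subgroup G) Q) Q (Wd (S : Subgroup G)) X (ZK (S : Subgroup G) Q) L W Z C A 2)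
    (hL : ∀ i, L i ≤ MZ (S : Subgroup G)) :
    Wd (S : Subgroup G) = ⨆ P ∈ {P : Subgroup G | IsParS (S : Subgroup G) P}, zl (S : Subgroup G) P :=
  RRed.BFr.VSup.wd_eq fr.V_eq.le fun i => (of_frL R wl fr hL).exists_Y (isLoc_MZ R.ctx R.full R.data.noff)
    (fun Y hY _ hK => hblk R wl hX Y hY hK) i

/-- `V* ≤ O₂(C_G(Z))` -/
theorem low (R : RB S) (wl : WL S Q) (hX : Wd (S : Subgroup G) ≤ zc Q)
    (fr : FrL (BK (S : Subgroup G) Q) Q (Wd (S : Subgroup G)) X (ZK (S : Subgroup G) Q) L W Z C A 2)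
    (hL : ∀ i, L i ≤ MZ (S : Subgroup G)) : Wd (S : Subgroup G) ≤ o2 (centralizer (zc (S : Subgroup G) : Set G)) :=
  RRed.BFr.Noff.low (PP := {P : Subgroup G | IsParS (S : Subgroup G) P}) R.data.toLow (fun _ hP => hP)
    (wd_eq R wl hX fr hL)

/-- **`V*` commutes with `V*^f` if `V*^f ≤ T`, `V* ≤ T^f`.** -/
theorem noff (R : RB S) (wl : WL S Q) (hX : zc Q = Wd (S : Subgroup G))
    (fr : FrL (BK (S : Subgroup G) Q) Q (Wd (S : Subgroup G)) X (ZK (S : Subgroup G) Q) L W Z C A 2)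
    (hL : ∀ i, L i ≤ MZ (S : Subgroup G)) :
    ∀ T : Subgroup G, IsPGroup 2 T → BK (S : Subgroup G) Q ≤ T → ∀ f : G, cj f (Wd (S : Subgroup G)) ≤ T →
      Wd (S : Subgroup G) ≤ cj f T → ∀ x ∈ Wd (S : Subgroup G), ∀ y ∈ Wd (S : Subgroup G),
        x * (f * y * f⁻¹) = f * y * f⁻¹ * x := by
  intro T hT hB f h1 h2 x hx y hy
  have hN : normalizer (BK (S : Subgroup G) Q : Set G) ≤ normalizer (Wd (S : Subgroup G) : Set G) := by
    rw [← hX]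
    exact wl.norm_B.trans (NO3S.Level.normalizer_le_zc _)
  have h3 := RRed.BFr.Noff.comm_T (PP := {P : Subgroup G | IsParS (S : Subgroup G) P}) R.data.toLow (fun _ hP => hP)
    (wd_eq R wl hX.ge fr hL) wl.wcB wl.lb.BS hN hT hB h1 h2 hx
  exact (mem_centralizer_iff.1 h3 _ ⟨y, hy, rfl⟩).symm

end noff

end Cfsg.Agent.Omega.NOThreeL.QWR.FrTop
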