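import Cfsg.Agent.Omega.NO3S.CaseLW.QWc

/-!
# THEOREM QW in box R (t = 1): the frame (OMEGA #27099 (II), #24897)

`P` a local group over `S` which contains `P*(S)` (in the application `P = M₀ = ⟨P*(S)⟩`), `L = V_P = zl S P`,
`Q = QQ S P = C_S(L)` weakly closed in `S`, `Ω₁(Z(Q)) ≤ L`, `L` irreducible under `P` : `RQ S P`.

* `JJ S P = Q ⟨best offenders of S on L⟩`, `ZZ S P = C_L(JJ)`, `BB S P = C_S(ZZ)`;
* `WR S P T Y` : `Q ≤ T ≤ S`, `T` a Sylow 2-subgroup of the minimal parabolic `Y`, `O²(Y)` moves `L`, `Q ≰ O₂(Y)`,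
  `J(S) ≤ O₂(Y)`;
* `DR S P Y` : the largest weakly closed subgroup of `S` in `Q ∩ O₂(Y)`; `GR S P Y = N_G(DR)`;
* the port of `NO3S/WY/{Frame,Cut}.lean` (helper498): `lev`, `P_le`, `Y_le`, `cvQ`, `cs`, `prin`, `not_low`, `cut`.
-/

set_option autoImplicit false
set_option linter.unusedSectionVars false
set_option linter.dupNamespace false

namespace Cfsg.Agent.Omega.NOThreeL.QWR

open Subgroup Cfsg Cfsg.Agent.ZN Cfsg.Agent.ZN.ChoiceBase Cfsg.Agent.Omega.MinPar Cfsg.Agent.Omega.Frame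
open Cfsg.Agent.ZN.ChoiceSit (Syl)
open Cfsg.Agent.MinSimple.MinParabolic (IsMinPar)
open Cfsg.Agent.Omega.FrameNOFF (CZ)
open Cfsg.Agent.Omega.NO3b.Wc (WC cj_sSup)
open Cfsg.Agent.Omega.NO3b.EZero (cl cl_le le_cl oddGen_sup_syl)
open Cfsg.Agent.MinSimple.VModule (oddGen zc_le_zl)
open Cfsg.Agent.Omega.NO3S.Level
open Cfsg.Agent.Omega.NO3S.RedC (MaxMin exists_maxMin nff_of_noOff noOff_of)
open Cfsg.Agent.Omega.NOThreeL.MergeNF (NFRoot)
open Cfsg.Agent.Omega.NO1.BestOff (Best)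
open Cfsg.Agent.Omega.FFThm (OffM ElemM)
open scoped Pointwise

universe u

variable {G : Type u} [Group G]

/-- `Q = C_S(V_P)` -/
def QQ (S P : Subgroup G) : Subgroup G := S ⊓ centralizer (zl S P : Set G)

/-- `Q ⟨best offenders of S on V_P⟩` -/
def JJ (S P : Subgroup G) : Subgroup G := QQ S P ⊔ sSup {A | A ≤ S ∧ Best (zl S P) A}

/-- `Z_J` -/
def ZZ (S P : Subgroup G) : Subgroup G := zl S P ⊓ centralizer (JJ S P : Set G)

/-- `B = C_S(Z_J)` -/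
def BB (S P : Subgroup G) : Subgroup G := S ⊓ centralizer (ZZ S P : Set G)

/-- The largest weakly closed subgroup of `S` in `Q ∩ O₂(Y)`. -/
def DR (S P Y : Subgroup G) : Subgroup G := sSup {B | WC S B ∧ B ≤ QQ S P ∧ B ≤ o2 Y}

/-- `N_G(DR)` -/
def GR (S P Y : Subgroup G) : Subgroup G := normalizer (DR S P Y : Set G)

theorem QQ_le (S P : Subgroup G) : QQ S P ≤ S := inf_le_left

theorem QQ_cent (S P : Subgroup G) : QQ S P ≤ centralizer (zl S P : Set G) := inf_le_right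

theorem JJ_le (S P : Subgroup G) : JJ S P ≤ S := sup_le inf_le_left (sSup_le fun _ h => h.1)

theorem le_JJ {S P A : Subgroup G} (h1 : A ≤ S) (h2 : Best (zl S P) A) : A ≤ JJ S P :=
  (le_sSup (show A ∈ {A | A ≤ S ∧ Best (zl S P) A} from ⟨h1, h2⟩)).trans le_sup_right

theorem QQ_le_JJ (S P : Subgroup G) : QQ S P ≤ JJ S P := le_sup_left

theorem JJ_le_BB (S P : Subgroup G) : JJ S P ≤ BB S P := le_inf (JJ_le S P) (le_centralizer_iff.1 inf_le_right)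

theorem QQ_le_BB (S P : Subgroup G) : QQ S P ≤ BB S P := (QQ_le_JJ S P).trans (JJ_le_BB S P)

theorem ZZ_le (S P : Subgroup G) : ZZ S P ≤ zl S P := inf_le_left

theorem wc_DR (S P Y : Subgroup G) : WC S (DR S P Y) := WC.sSup fun _ hb => hb.1

theorem DR_le (S P Y : Subgroup G) : DR S P Y ≤ S := (wc_DR S P Y).le

theorem DR_le_Q (S P Y : Subgroup G) : DR S P Y ≤ QQ S P := sSup_le fun _ hb => hb.2.1

theorem DR_le_Y (S P Y : Subgroup G) : DR S P Y ≤ o2 Y := sSup_le fun _ hb => hb.2.2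

theorem le_DR {S P Y B : Subgroup G} (hB : WC S B) (h1 : B ≤ QQ S P) (h2 : B ≤ o2 Y) : B ≤ DR S P Y :=
  le_sSup ⟨hB, h1, h2⟩

variable [Finite G]

theorem mem_GR {S P Y : Subgroup G} {g : G} (hg : cj g (DR S P Y) ≤ S) : g ∈ GR S P Y :=
  WC.mem_norm (wc_DR S P Y) hg

theorem norm_le_GR {S P Y T : Subgroup G} (h1 : DR S P Y ≤ T) (h2 : T ≤ S) : normalizer (T : Set G) ≤ GR S P Y :=
  WC.norm_le (wc_DR S P Y) h1 h2

theorem S_le_GR (S P Y : Subgroup G) : S ≤ GR S P Y := le_normalizer.trans (norm_le_GR (DR_le S P Y) le_rfl)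

theorem GR_norm (S P Y : Subgroup G) : GR S P Y ≤ normalizer (zc (DR S P Y) : Set G) := normalizer_le_zc _

/-- **(P_Y)** -/
theorem principle {S P Y : Subgroup G} {F : Set (Subgroup G)} (hF : ∀ A ∈ F, ∀ n ∈ GR S P Y, cj n A ∈ F)
    {A : Subgroup G} (hA : A ∈ F) (hAS : A ≤ S) (hAD : ¬ A ≤ DR S P Y) :
    ∃ B ∈ F, B ≤ S ∧ (¬ B ≤ QQ S P ∨ ¬ B ≤ o2 Y) := by
  by_contra hcon
  have hcon' : ∀ B ∈ F, B ≤ S → B ≤ QQ S P ∧ B ≤ o2 Y := by
    intro B hB hBS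
    by_contra h1
    exact hcon ⟨B, hB, hBS, not_and_or.1 h1⟩
  set K : Subgroup G := DR S P Y ⊔ sSup {B | B ∈ F ∧ B ≤ S} with hK
  have hKS : K ≤ S := sup_le (DR_le _ _ _) (sSup_le fun B hB => hB.2)
  have hKW : K ≤ DR S P Y := by
    refine le_DR ⟨hKS, fun g hg => ?_⟩ (sup_le (DR_le_Q _ _ _) (sSup_le fun B hB => (hcon' B hB.1 hB.2).1))
      (sup_le (DR_le_Y _ _ _) (sSup_le fun B hB => (hcon' B hB.1 hB.2).2))
    have h2 : g ∈ GR S P Y := mem_GR ((cj_mono g le_sup_left).trans hg)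
    have h4 : cj g K ≤ K := by
      change Subgroup.map _ _ ≤ _
      rw [hK, Subgroup.map_sup]
      refine sup_le_sup (cj_eq_of_mem_normalizer h2).le ?_
      change cj g (sSup {B | B ∈ F ∧ B ≤ S}) ≤ _
      rw [cj_sSup]
      refine iSup_le fun B => ?_
      have h5 : cj g (B : Subgroup G) ≤ S := (cj_mono g ((le_sSup B.2).trans le_sup_right)).trans hg
      exact le_sSup (a := cj g (B : Subgroup G)) ⟨hF _ B.2.1 g h2, h5⟩
    exact Subgroup.eq_of_le_of_card_ge h4 (card_cj _ _).ge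
  have h6 : A ≤ K := (le_sSup (s := {B | B ∈ F ∧ B ≤ S}) ⟨hA, hAS⟩).trans le_sup_right
  exact hAD (h6.trans hKW)

/-- A 2-group containing `DR` lies in `GR`. -/
theorem pgroup_le {S : Sylow 2 G} {P Y T : Subgroup G} (hT : IsPGroup 2 T) (h1 : DR (S : Subgroup G) P Y ≤ T) :
    T ≤ GR (S : Subgroup G) P Y := by
  obtain ⟨S', hS'⟩ := hT.exists_le_sylow
  obtain ⟨l, hl⟩ := MulAction.exists_smul_eq G S S'
  have hl2 : (S' : Subgroup G) = cj l (S : Subgroup G) := by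
    rw [← hl, Sylow.coe_subgroup_smul]; rfl
  rw [hl2] at hS'
  have h2 : cj l⁻¹ (DR (S : Subgroup G) P Y) ≤ (S : Subgroup G) := by
    have h3 := cj_mono l⁻¹ (h1.trans hS')
    rwa [cj_inv_cj] at h3
  have h3 : l ∈ GR (S : Subgroup G) P Y := by
    have := inv_mem (mem_GR h2 : l⁻¹ ∈ GR (S : Subgroup G) P Y)
    rwa [inv_inv] at this
  refine hS'.trans ?_
  have h4 := cj_mono l (S_le_GR (S : Subgroup G) P Y)
  rwa [cj_eq_of_mem_normalizer (Subgroup.le_normalizer h3)] at h4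

/-- `O₂(H) ≤ GR` for every `H ≥ DR`. -/
theorem o2_le_GR {S : Sylow 2 G} {P Y H : Subgroup G} (hY : DR (S : Subgroup G) P Y ≤ H) :
    o2 H ≤ GR (S : Subgroup G) P Y := by
  obtain ⟨T, hT, h1⟩ := ChoiceSit.exists_syl (S.isPGroup'.to_le (DR_le (S : Subgroup G) P Y)) hY
  exact (ChoiceSit.o2_le_syl hT).trans (pgroup_le hT.2.1 h1)

/-- **The frame**: `P ∈ L(S)` contains `P*(S)`, `L = V_P`. -/
structure RQ (S : Sylow 2 G) (P : Subgroup G) : Prop where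
  c2 : IsCharacteristicTwoType G
  zne : zc (S : Subgroup G) ≠ ⊥
  loc : IsLoc (S : Subgroup G) P
  nonloc : NonLoc P (CZ (S : Subgroup G))
  wc : WC (S : Subgroup G) (QQ (S : Subgroup G) P)
  jQ : jj (S : Subgroup G) ≤ QQ (S : Subgroup G) P
  PQ : P ≤ normalizer (QQ (S : Subgroup G) P : Set G)
  zQ : zc (QQ (S : Subgroup G) P) ≤ zl (S : Subgroup G) P
  low : zl (S : Subgroup G) P ≤ o2 (CZ (S : Subgroup G))
  no : ∀ A : Subgroup G, A ≤ (S : Subgroup G) → ElemM (zl (S : Subgroup G) P) A →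
    ¬ A ≤ centralizer (zl (S : Subgroup G) P : Set G) →
    Nat.card A * Nat.card ↥(zl (S : Subgroup G) P ⊓ centralizer (A : Set G)) ≤
      Nat.card (zl (S : Subgroup G) P) * Nat.card ↥(A ⊓ centralizer (zl (S : Subgroup G) P : Set G))
  irr : ∀ W : Subgroup G, W ≤ zl (S : Subgroup G) P → P ≤ normalizer (W : Set G) → W ≠ ⊥ → zl (S : Subgroup G) P ≤ W
  nr : ∀ R : Subgroup G, ¬ NFRoot (S : Subgroup G) R

/-- **The situation**: `Y` weird. -/
structure WR (S : Sylow 2 G) (P T Y : Subgroup G) : Prop where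
  rq : RQ S P
  TS : T ≤ (S : Subgroup G)
  QT : QQ (S : Subgroup G) P ≤ T
  syl : Syl T Y
  min : IsMinPar T Y
  c2 : Y ⊓ centralizer (o2 Y : Set G) ≤ o2 Y
  mvL : ¬ oddGen Y ≤ centralizer (zl (S : Subgroup G) P : Set G)
  nQ : ¬ QQ (S : Subgroup G) P ≤ o2 Y
  jY : jj (S : Subgroup G) ≤ o2 Y

/-- The module: `⟨Z^GR⟩ ≤ V ≤ Ω₁(Z(DR))`, normal in `GR`. -/
structure Md (S : Sylow 2 G) (P Y V : Subgroup G) : Prop where
  ge : zl (S : Subgroup G) (GR (S : Subgroup G) P Y) ≤ V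
  le : V ≤ zc (DR (S : Subgroup G) P Y)
  norm : GR (S : Subgroup G) P Y ≤ normalizer (V : Set G)

namespace WR

variable {S : Sylow 2 G} {P T Y : Subgroup G} (h : WR S P T Y)
include h

theorem hG : IsCharacteristicTwoType G := h.rq.c2

theorem L_zc : zl (S : Subgroup G) P ≤ zc (o2 P) := h.rq.loc.zl_le S h.hG

theorem o2P_le : o2 P ≤ (S : Subgroup G) := h.rq.loc.o2_le S

theorem L_le_S : zl (S : Subgroup G) P ≤ (S : Subgroup G) := (h.L_zc.trans (ZN.zc_le _)).trans h.o2P_le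

theorem L_sq : ∀ x ∈ zl (S : Subgroup G) P, x ^ 2 = 1 := fun _ hx => (ChoiceBase.mem_zc.1 (h.L_zc hx)).2.1

theorem SP : (S : Subgroup G) ≤ P := h.rq.loc.le

theorem T_Y : T ≤ Y := h.syl.1

theorem T2 : IsPGroup 2 T := h.syl.2.1

theorem o2Y_T : o2 Y ≤ T := ChoiceSit.o2_le_syl h.syl

theorem o2Y_le : o2 Y ≤ (S : Subgroup G) := h.o2Y_T.trans h.TS

theorem jD : jj (S : Subgroup G) ≤ DR (S : Subgroup G) P Y := le_DR (wc_jj S) h.rq.jQ h.jY

/-- `DR` is a level. -/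
theorem lev : Lev (S : Subgroup G) (DR (S : Subgroup G) P Y) where
  le := DR_le _ _ _
  jjle := h.jD
  norm := fun _ h1 h2 => norm_le_GR h1 h2

theorem cjQ {p : G} (hp : p ∈ P) : cj p (QQ (S : Subgroup G) P) = QQ (S : Subgroup G) P :=
  cj_eq_of_mem_normalizer (h.rq.PQ hp)

theorem P_le : P ≤ GR (S : Subgroup G) P Y := fun p hp =>
  mem_GR ((cj_mono p (DR_le_Q _ _ _)).trans ((h.cjQ hp).le.trans (QQ_le _ _)))

theorem Y_le : Y ≤ GR (S : Subgroup G) P Y := h.lev.le_norm_of_o2 (DR_le_Y _ _ _) h.o2Y_le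

theorem S_le : (S : Subgroup G) ≤ GR (S : Subgroup G) P Y := S_le_GR _ _ _

theorem DR_T : DR (S : Subgroup G) P Y ≤ T := (DR_le_Y _ _ _).trans h.o2Y_T

/-- `V_P ≤ Ω₁(Z(DR))` -/
theorem L_le : zl (S : Subgroup G) P ≤ zc (DR (S : Subgroup G) P Y) := fun x hx =>
  h.lev.mem_of_comm (h.L_le_S hx) (h.L_sq x hx) fun y hy =>
    (mem_centralizer_iff.1 (QQ_cent _ _ (DR_le_Q _ _ _ hy)) x hx).symm

theorem Z_le : zc (S : Subgroup G) ≤ zc (DR (S : Subgroup G) P Y) := h.lev.zc_le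

theorem D_cent : DR (S : Subgroup G) P Y ≤ centralizer (zc (DR (S : Subgroup G) P Y) : Set G) :=
  NO3S.Level.le_centralizer_zc _

theorem V_le_D : zc (DR (S : Subgroup G) P Y) ≤ DR (S : Subgroup G) P Y := ZN.zc_le _

theorem V_le_S : zc (DR (S : Subgroup G) P Y) ≤ (S : Subgroup G) := (ZN.zc_le _).trans (DR_le _ _ _)

theorem V_sq : ∀ v ∈ zc (DR (S : Subgroup G) P Y), v ^ 2 = 1 := fun _ hv => (ChoiceBase.mem_zc.1 hv).2.1

theorem V_comm : zc (DR (S : Subgroup G) P Y) ≤ centralizer (zc (DR (S : Subgroup G) P Y) : Set G) := fun _ hx =>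
  mem_centralizer_iff.2 fun _ hy => Lev.zc_comm hy hx

/-- `C_V(Q) ≤ V_P` -/
theorem cvQ : zc (DR (S : Subgroup G) P Y) ⊓ centralizer (QQ (S : Subgroup G) P : Set G) ≤ zl (S : Subgroup G) P := by
  refine le_trans ?_ h.rq.zQ
  rintro v ⟨hv, hvQ⟩
  exact ChoiceBase.mem_zc.2 ⟨DR_le_Q _ _ _ (ZN.zc_le _ hv), h.V_sq v hv, fun q hq => mem_centralizer_iff.1 hvQ q hq⟩

/-- `Y` moves `V_P`. -/
theorem not_norm_L : ¬ Y ≤ normalizer (zl (S : Subgroup G) P : Set G) := by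
  intro hYL
  have hYY : Y ≤ normalizer ((Y ⊓ centralizer (zl (S : Subgroup G) P : Set G) : Subgroup G) : Set G) :=
    NO3b.EZero.le_normalizer_inf_cent hYL
  rcases NO3b.K0.min_or h.syl h.min (K := Y ⊓ centralizer (zl (S : Subgroup G) P : Set G)) inf_le_left hYY with h2 | h2
  · exact h.mvL (h2.trans inf_le_right)
  · apply h.nQ
    exact (le_inf h.QT (le_inf (h.QT.trans h.T_Y) (QQ_cent _ _))).trans h2

/-- `C_S(V) ≤ O₂(Y)` for `V_P ≤ V`, `V` normal in `Y` -/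
theorem cs_le_Y {V : Subgroup G} (hV : Y ≤ normalizer (V : Set G)) (h1 : zl (S : Subgroup G) P ≤ V) :
    (S : Subgroup G) ⊓ centralizer (V : Set G) ≤ o2 Y := by
  have hT : (S : Subgroup G) ⊓ centralizer (V : Set G) ≤ T :=
    le_trans (inf_le_inf_left _ (centralizer_le h1)) h.QT
  have hYY : Y ≤ normalizer ((Y ⊓ centralizer (V : Set G) : Subgroup G) : Set G) :=
    NO3b.EZero.le_normalizer_inf_cent hV
  rcases NO3b.K0.min_or h.syl h.min (K := Y ⊓ centralizer (V : Set G)) inf_le_left hYY with h2 | h2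
  · exact absurd ((h2.trans inf_le_right).trans (centralizer_le h1)) h.mvL
  · exact (le_inf hT (le_inf (hT.trans h.T_Y) inf_le_right)).trans h2

/-- `C_S(V) = DR` for `V_P ≤ V ≤ Ω₁(Z(DR))`, `V` normal in `GR`. -/
theorem cs {V : Subgroup G} (h1 : zl (S : Subgroup G) P ≤ V) (h2 : V ≤ zc (DR (S : Subgroup G) P Y))
    (h3 : GR (S : Subgroup G) P Y ≤ normalizer (V : Set G)) :
    (S : Subgroup G) ⊓ centralizer (V : Set G) = DR (S : Subgroup G) P Y := by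
  have hK : DR (S : Subgroup G) P Y ≤ (S : Subgroup G) ⊓ centralizer (V : Set G) :=
    le_inf (DR_le _ _ _) (h.D_cent.trans (centralizer_le h2))
  refine le_antisymm (le_DR ⟨inf_le_left, fun g hg => ?_⟩ ?_ ?_) hK
  · have h4 : g ∈ GR (S : Subgroup G) P Y := mem_GR ((cj_mono g hK).trans hg)
    have h5 : cj g V = V := cj_eq_of_mem_normalizer (h3 h4)
    have h6 : cj g ((S : Subgroup G) ⊓ centralizer (V : Set G)) ≤ (S : Subgroup G) ⊓ centralizer (V : Set G) := by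
      refine le_inf hg ?_
      rw [cj_inf, cj_centralizer, h5]
      exact inf_le_right
    exact Subgroup.eq_of_le_of_card_ge h6 (card_cj _ _).ge
  · exact inf_le_inf_left _ (centralizer_le h1)
  · exact h.cs_le_Y (h.Y_le.trans h3) h1

/-- `⟨Z^GR⟩ ≤ Ω₁(Z(DR))`, `V_P ≤ ⟨Z^GR⟩` -/
theorem zl_GR_le : zl (S : Subgroup G) (GR (S : Subgroup G) P Y) ≤ zc (DR (S : Subgroup G) P Y) :=
  ZN.zl_le h.Z_le (GR_norm _ _ _)

theorem L_le_zl : zl (S : Subgroup G) P ≤ zl (S : Subgroup G) (GR (S : Subgroup G) P Y) :=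
  ZN.zl_le ZN.zc_le_zl (h.P_le.trans (ZN.le_normalizer_zl _ _))

theorem cs_zl : (S : Subgroup G) ⊓ centralizer (zl (S : Subgroup G) (GR (S : Subgroup G) P Y) : Set G) =
    DR (S : Subgroup G) P Y := h.cs h.L_le_zl h.zl_GR_le (ZN.le_normalizer_zl _ _)

/-- **(P_Y)** for 2-subgroups of `GR` which move `V`: a closed family has a member in `S` which is not in `Q`, or
all members in `S` lie in `Q`, and one of them is not in `O₂(Y)`. -/
theorem prin {V : Subgroup G} (h2 : V ≤ zc (DR (S : Subgroup G) P Y)) {B : Subgroup G}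
    (hB : B ≤ GR (S : Subgroup G) P Y) (hB2 : IsPGroup 2 B) (hne : ¬ B ≤ centralizer (V : Set G))
    {𝓕 : Set (Subgroup G)} (h𝓕 : ∀ A ∈ 𝓕, ∀ n ∈ GR (S : Subgroup G) P Y, cj n A ∈ 𝓕) (hB𝓕 : B ∈ 𝓕) :
    (∃ A ∈ 𝓕, A ≤ (S : Subgroup G) ∧ ¬ A ≤ QQ (S : Subgroup G) P) ∨
      ((∀ A ∈ 𝓕, A ≤ (S : Subgroup G) → A ≤ QQ (S : Subgroup G) P) ∧ ∃ A ∈ 𝓕, A ≤ QQ (S : Subgroup G) P ∧ ¬ A ≤ o2 Y) := by
  obtain ⟨n, hn, hnS⟩ := FFThm.exists_conj_le S h.S_le hB2 hB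
  by_cases hP : ∃ A ∈ 𝓕, A ≤ (S : Subgroup G) ∧ ¬ A ≤ QQ (S : Subgroup G) P
  · exact Or.inl hP
  · right
    push Not at hP
    have hnD : ¬ cj n B ≤ DR (S : Subgroup G) P Y := fun h1 => by
      have h3 := cj_mono n⁻¹ h1
      have hn' : n⁻¹ ∈ GR (S : Subgroup G) P Y := inv_mem hn
      have h4 : cj n⁻¹ (DR (S : Subgroup G) P Y) = DR (S : Subgroup G) P Y := cj_eq_of_mem_normalizer hn'
      rw [cj_inv_cj, h4] at h3
      exact hne (h3.trans (h.D_cent.trans (centralizer_le h2)))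
    obtain ⟨A, hA, hAS, hor⟩ := principle (S := (S : Subgroup G)) (P := P) (Y := Y) (F := 𝓕) h𝓕
      (A := cj n B) (h𝓕 B hB𝓕 n hn) hnS hnD
    exact ⟨hP, A, hA, hP A hA hAS, hor.resolve_left (not_not.2 (hP A hA hAS))⟩

theorem DR_ne : DR (S : Subgroup G) P Y ≠ ⊥ := by
  intro h1
  apply h.rq.zne
  have h2 : zc (S : Subgroup G) ≤ DR (S : Subgroup G) P Y := h.Z_le.trans (ZN.zc_le _)
  rw [h1] at h2
  exact le_bot_iff.1 h2

theorem DR_le_o2 : DR (S : Subgroup G) P Y ≤ o2 (GR (S : Subgroup G) P Y) :=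
  MinSimple.VModule.le_o2 le_normalizer (S.isPGroup'.to_le (DR_le _ _ _)) le_rfl

theorem isLoc_GR : IsLoc (S : Subgroup G) (GR (S : Subgroup G) P Y) := by
  refine ⟨S_le_GR _ _ _, fun h1 => h.DR_ne ?_⟩
  have h2 := h.DR_le_o2
  rw [h1] at h2
  exact le_bot_iff.1 h2

/-- If `⟨Z^GR⟩` is not FF, it is not in `O₂(C_G(Z))`. -/
theorem not_low (hn : NO3b.EZero.NotFF (zl (S : Subgroup G) (GR (S : Subgroup G) P Y))) :
    ¬ zl (S : Subgroup G) (GR (S : Subgroup G) P Y) ≤ o2 (CZ (S : Subgroup G)) := fun hlow =>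
  h.rq.nr _
    { loc := h.isLoc_GR
      cs := by
        rw [h.cs_zl]
        exact h.DR_le_o2
      low := hlow
      nff := hn
      nonloc := fun U hU h1 h2 => h.rq.nonloc U hU (h.P_le.trans h1) h2 }

variable {V : Subgroup G}

theorem md_zl : Md S P Y (zl (S : Subgroup G) (GR (S : Subgroup G) P Y)) :=
  ⟨le_rfl, h.zl_GR_le, ZN.le_normalizer_zl _ _⟩

theorem L_le_V (hV : Md S P Y V) : zl (S : Subgroup G) P ≤ V := h.L_le_zl.trans hV.ge

theorem Z_le_V (hV : Md S P Y V) : zc (S : Subgroup G) ≤ V := ZN.zc_le_zl.trans (h.L_le_V hV)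

theorem Vc (hV : Md S P Y V) : V ≤ centralizer (V : Set G) := hV.le.trans (h.V_comm.trans (centralizer_le hV.le))

theorem Vsq (hV : Md S P Y V) : ∀ x ∈ V, x ^ 2 = 1 := fun x hx => h.V_sq x (hV.le hx)

/-- If `⟨Z^GR⟩` is not FF, `Z` is bad in `V`. -/
theorem bad_Z (hV : Md S P Y V) (hn : NO3b.EZero.NotFF (zl (S : Subgroup G) (GR (S : Subgroup G) P Y))) :
    NOne.Flat.Bad V (zc (S : Subgroup G)) :=
  ⟨h.rq.zne, (MinSimple.VModule.zc_le_zl _ _).trans hV.ge, fun h1 => h.not_low hn (hV.ge.trans h1)⟩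

theorem exists_hyp (hV : Md S P Y V) (hn : NO3b.EZero.NotFF V) {F₀ : Subgroup G} (h0 : NOne.Flat.Bad V F₀) :
    ∃ F₁, F₀ ≤ F₁ ∧ NOne.Flat.Hyp V F₁ := by
  refine NOne.Flat.exists_hyp (h.Vc hV) (h.Vsq hV)
    (fun D _ hD => ?_) (fun _ hA => noOff_of hn hA) (fun D hne hD => ?_) h0
  · exact (o2_le_GR (h.D_cent.trans (centralizer_le (hD.trans hV.le)))).trans hV.norm
  · have hD2 : IsPGroup 2 D := S.isPGroup'.to_le (hD.trans (hV.le.trans h.V_le_S))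
    exact NOne.LemmaT.char2_of_normal (MinSimple.Basic.char2_normalizer h.hG hD2 hne)
      (centralizer_le_normalizer _)
      (normalizer_le_of_cj (F := fun T => centralizer (T : Set G)) (fun g T => (cj_centralizer g T).symm) D)

theorem W_le_GR (hV : Md S P Y V) {F : Subgroup G} (hF : NOne.Flat.Hyp V F) :
    NOne.Flat.WW V F ≤ GR (S : Subgroup G) P Y :=
  NOne.Flat.Hyp.W_le_R.trans (o2_le_GR (h.D_cent.trans (centralizer_le (hF.F_le_V.trans hV.le))))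

end WR

end Cfsg.Agent.Omega.NOThreeL.QWR
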