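import Cfsg.Agent.Omega.FrameNOFF
import Cfsg.Agent.Omega.NoFF.Basic
import Cfsg.Agent.MinSimple.LemXPerm

/-!
# The front of the local case at the top level `(Q, V*)` (box R, one class; helper940 #27703, helper982 #27679)

`L` local, `C_G(Z) ≤ L`, `V ≤ ⟨Z^L⟩`; `J ≤ S` weakly closed in `S` under `N_G(V)`, `Z ≤ Z_J := C_V(J)`,
`X₁ := ⟨J^n : n ∈ N_G(V)⟩ ≤ L`. Put `G₀ := ⟨C_G(Z_J)^n : n ∈ N_G(V)⟩`.

* `exists_conj` : `J^n = J^x` with `x ∈ X₁` (Sylow / Frattini in `N_G(V)`);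
* `GG_le` : `G₀ ≤ L`;  `o2_le_GG` : `O₂(L) ≤ O₂(G₀)`;
* **`front`** : `M := N_G(O₂(G₀))` is local, contains `N_G(V)`, `C_G(Z_J)`, and `⟨V^F⟩ ≤ O₂(M)` for all `F ≤ C_G(Z)`;
* `front'` : some `F ∈ P(C_G(Z), S)` is not in `M`, so `C_S(V) ≰ O₂(F)` if `C_S(V)` is weakly closed in `S`.
-/

set_option autoImplicit false
set_option linter.unusedSectionVars false

namespace Cfsg.Agent.Omega.NOThreeL.QWR.FrontV

open Subgroup Cfsg Cfsg.Agent.Omega.MinPar Cfsg.Agent.Omega.Frame Cfsg.Agent.Omega.FrameNOFF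
open Cfsg.Agent.ZN (o2 zc zl)
open Cfsg.Agent.Omega.NoFF.Basic (conj_conj conj_le_iff conj_self mem_conj)
open Cfsg.Agent.MinSimple.VModule (zc_le le_normalizer_o2 le_normalizer_zl zc_le_zl zl_le o2_isPGroup
  o2_le le_o2 zc_sq mem_zc)
open scoped Pointwise

universe u

variable {G : Type u} [Group G]

/-- `G₀ = ⟨C_G(Z_J)^n : n ∈ N_G(V)⟩` -/
def GG (V ZJ : Subgroup G) : Subgroup G :=
  ⨆ n : normalizer (V : Set G), MulAut.conj (n : G) • centralizer (ZJ : Set G)

/-- `X₁ = ⟨J^n : n ∈ N_G(V)⟩` -/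
def X1 (V J : Subgroup G) : Subgroup G :=
  ⨆ n : normalizer (V : Set G), MulAut.conj (n : G) • J

theorem conj_iSup_le {V A : Subgroup G} {x : G} (hx : x ∈ normalizer (V : Set G)) :
    MulAut.conj x • (⨆ n : normalizer (V : Set G), MulAut.conj (n : G) • A) ≤
      ⨆ n : normalizer (V : Set G), MulAut.conj (n : G) • A := by
  have h1 : (⨆ n : normalizer (V : Set G), MulAut.conj (n : G) • A) ≤
      MulAut.conj x⁻¹ • (⨆ n : normalizer (V : Set G), MulAut.conj (n : G) • A) := by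
    refine iSup_le fun n => ?_
    have h2 : MulAut.conj (x * (n : G)) • A ≤
        ⨆ n : normalizer (V : Set G), MulAut.conj (n : G) • A :=
      le_iSup (fun n : normalizer (V : Set G) => MulAut.conj (n : G) • A) ⟨x * n, mul_mem hx n.2⟩
    have h3 : MulAut.conj x⁻¹ • (MulAut.conj (x * (n : G)) • A) = MulAut.conj (n : G) • A := by
      rw [conj_conj]
      congr 2
      group
    rw [← h3]
    exact conj_le_iff.2 h2
  have h4 : MulAut.conj x • (⨆ n : normalizer (V : Set G), MulAut.conj (n : G) • A) ≤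
      MulAut.conj x • (MulAut.conj x⁻¹ • (⨆ n : normalizer (V : Set G), MulAut.conj (n : G) • A)) :=
    conj_le_iff.2 h1
  rwa [conj_conj, mul_inv_cancel, map_one, one_smul] at h4

theorem le_norm_iSup {V A : Subgroup G} : normalizer (V : Set G) ≤
    normalizer ((⨆ n : normalizer (V : Set G), MulAut.conj (n : G) • A : Subgroup G) : Set G) := by
  intro x hx
  rw [mem_normalizer_iff]
  intro y
  constructor
  · intro hy
    have h1 := conj_iSup_le (A := A) hx
    refine h1 ?_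
    rw [mem_conj]
    have e : x⁻¹ * (x * y * x⁻¹) * x = y := by group
    rwa [e]
  · intro hy
    have h1 := conj_iSup_le (A := A) (inv_mem hx)
    refine h1 ?_
    rw [mem_conj, inv_inv]
    exact hy

theorem norm_le_norm_GG (V ZJ : Subgroup G) :
    normalizer (V : Set G) ≤ normalizer (GG V ZJ : Set G) := le_norm_iSup

theorem norm_le_norm_X1 (V J : Subgroup G) :
    normalizer (V : Set G) ≤ normalizer (X1 V J : Set G) := le_norm_iSup

theorem le_X1 (V J : Subgroup G) : J ≤ X1 V J := by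
  have h : MulAut.conj ((1 : normalizer (V : Set G)) : G) • J ≤ X1 V J :=
    le_iSup (fun n : normalizer (V : Set G) => MulAut.conj (n : G) • J) 1
  rwa [OneMemClass.coe_one, map_one, one_smul] at h

theorem cent_le_GG (V ZJ : Subgroup G) : centralizer (ZJ : Set G) ≤ GG V ZJ := by
  have h : MulAut.conj ((1 : normalizer (V : Set G)) : G) • centralizer (ZJ : Set G) ≤ GG V ZJ :=
    le_iSup (fun n : normalizer (V : Set G) => MulAut.conj (n : G) • centralizer (ZJ : Set G)) 1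
  rwa [OneMemClass.coe_one, map_one, one_smul] at h

theorem conj_centralizer (g : G) (H : Subgroup G) :
    MulAut.conj g • centralizer (H : Set G) = centralizer ((MulAut.conj g • H : Subgroup G) : Set G) := by
  ext x
  rw [mem_conj, mem_centralizer_iff, mem_centralizer_iff]
  constructor
  · intro h y hy
    have hy' : g⁻¹ * y * g ∈ H := mem_conj.1 hy
    have h1 := h _ hy'
    have e1 : y * x = g * (g⁻¹ * y * g * (g⁻¹ * x * g)) * g⁻¹ := by group
    have e2 : x * y = g * (g⁻¹ * x * g * (g⁻¹ * y * g)) * g⁻¹ := by group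
    rw [e1, e2, h1]
  · intro h y hy
    have hy' : g * y * g⁻¹ ∈ (MulAut.conj g • H : Subgroup G) := by
      rw [mem_conj]
      have e : g⁻¹ * (g * y * g⁻¹) * g = y := by group
      rwa [e]
    have h1 := h _ hy'
    have e1 : y * (g⁻¹ * x * g) = g⁻¹ * (g * y * g⁻¹ * x) * g := by group
    have e2 : g⁻¹ * x * g * y = g⁻¹ * (x * (g * y * g⁻¹)) * g := by group
    rw [e1, e2, h1]

/-- a subgroup normalised by `g` is fixed by conjugation with `g` -/
theorem conj_of_norm {g : G} {U : Subgroup G} (hg : g ∈ normalizer (U : Set G)) :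
    MulAut.conj g • U = U := by
  ext x
  rw [mem_conj]
  have h := mem_normalizer_iff.mp hg (g⁻¹ * x * g)
  rw [h]
  simp [mul_assoc]

theorem conj_inf (g : G) (A B : Subgroup G) :
    MulAut.conj g • (A ⊓ B) = MulAut.conj g • A ⊓ MulAut.conj g • B := by
  ext x
  simp only [mem_conj, mem_inf]

section fin

variable [Finite G] {S : Sylow 2 G} {V J L : Subgroup G}

/-- `J^n = J^x`, `x ∈ X₁` -/
theorem exists_conj (SV : (S : Subgroup G) ≤ normalizer (V : Set G)) (JS : J ≤ S)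
    (wc : ∀ n ∈ normalizer (V : Set G), MulAut.conj n • J ≤ S → MulAut.conj n • J = J)
    {n : G} (hn : n ∈ normalizer (V : Set G)) : ∃ x ∈ X1 V J, MulAut.conj n • J = MulAut.conj x • J := by
  obtain ⟨l, hl, m, hm, rfl⟩ := MinSimple.LemXPerm.exists_frattini SV S.isPGroup'
    (MinSimple.Basic.not_dvd_relIndex S SV) (norm_le_norm_X1 V J) hn
  refine ⟨l, hl, ?_⟩
  have h1 : J ≤ (S : Subgroup G) ⊓ X1 V J := le_inf JS (le_X1 V J)
  have h2 : MulAut.conj m • J ≤ (S : Subgroup G) ⊓ X1 V J := by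
    have h3 : MulAut.conj m • ((S : Subgroup G) ⊓ X1 V J) = (S : Subgroup G) ⊓ X1 V J :=
      conj_of_norm hm.2
    rw [← h3]
    exact conj_le_iff.2 h1
  rw [← conj_conj, wc m hm.1 (h2.trans inf_le_left)]

/-- `Z_J^n = Z_J^x`, `x ∈ X₁` -/
theorem exists_conj_ZJ (SV : (S : Subgroup G) ≤ normalizer (V : Set G)) (JS : J ≤ S)
    (wc : ∀ n ∈ normalizer (V : Set G), MulAut.conj n • J ≤ S → MulAut.conj n • J = J)
    {n : G} (hn : n ∈ normalizer (V : Set G)) : ∃ x ∈ X1 V J,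
      MulAut.conj n • (V ⊓ centralizer (J : Set G)) = MulAut.conj x • (V ⊓ centralizer (J : Set G)) := by
  obtain ⟨x, hx, h⟩ := exists_conj SV JS wc hn
  have hxV : x ∈ normalizer (V : Set G) := by
    refine (iSup_le fun n => ?_ : X1 V J ≤ normalizer (V : Set G)) hx
    have h1 : MulAut.conj (n : G) • J ≤ MulAut.conj (n : G) • normalizer (V : Set G) :=
      conj_le_iff.2 (JS.trans SV)
    rwa [conj_self n.2] at h1
  refine ⟨x, hx, ?_⟩
  rw [conj_inf, conj_inf, conj_centralizer, conj_centralizer, conj_of_norm hn, conj_of_norm hxV, h]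

/-- `G₀ ≤ L` -/
theorem GG_le (SV : (S : Subgroup G) ≤ normalizer (V : Set G)) (JS : J ≤ S)
    (wc : ∀ n ∈ normalizer (V : Set G), MulAut.conj n • J ≤ S → MulAut.conj n • J = J)
    (hJ : ∀ n ∈ normalizer (V : Set G), MulAut.conj n • J ≤ L)
    (hZ : centralizer ((V ⊓ centralizer (J : Set G) : Subgroup G) : Set G) ≤ L) :
    GG V (V ⊓ centralizer (J : Set G)) ≤ L := by
  refine iSup_le fun n => ?_
  obtain ⟨x, hx, h⟩ := exists_conj_ZJ SV JS wc n.2
  have hxL : x ∈ L := (iSup_le fun n => hJ n n.2 : X1 V J ≤ L) hx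
  rw [conj_centralizer, h, ← conj_centralizer]
  have h1 := conj_le_iff (g := x).2 hZ
  rwa [conj_self hxL] at h1

variable (hG : IsCharacteristicTwoType G) (hL : IsLoc (S : Subgroup G) L) (hC : CZ (S : Subgroup G) ≤ L)
  (hV : V ≤ zl (S : Subgroup G) L) (SV : (S : Subgroup G) ≤ normalizer (V : Set G))
  (zV : zc (S : Subgroup G) ≤ V) (JS : J ≤ S)
  (wc : ∀ n ∈ normalizer (V : Set G), MulAut.conj n • J ≤ S → MulAut.conj n • J = J)
  (hJ : ∀ n ∈ normalizer (V : Set G), MulAut.conj n • J ≤ L)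

include zV JS in
/-- `Z ≤ Z_J` -/
theorem zc_le_ZJ : zc (S : Subgroup G) ≤ V ⊓ centralizer (J : Set G) :=
  le_inf zV ((MinSimple.VModule.zc_le_centralizer _).trans (centralizer_le (fun _ h => JS h)))

include hG hL hC hV SV zV JS wc hJ in
/-- `O₂(L) ≤ O₂(G₀)` -/
theorem o2_le_GG : o2 L ≤ o2 (GG V (V ⊓ centralizer (J : Set G))) := by
  have hcL : centralizer ((V ⊓ centralizer (J : Set G) : Subgroup G) : Set G) ≤ L :=
    (centralizer_le (fun _ h => zc_le_ZJ zV JS h)).trans hC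
  have h1 : GG V (V ⊓ centralizer (J : Set G)) ≤ L := GG_le SV JS wc hJ hcL
  have h2 : o2 L ≤ centralizer (zl (S : Subgroup G) L : Set G) :=
    MinSimple.VModule.o2_le_centralizer_zl hL.le S.isPGroup' (MinSimple.Basic.not_dvd_relIndex S hL.le)
      (hL.char2 S hG)
  have h3 : o2 L ≤ centralizer ((V ⊓ centralizer (J : Set G) : Subgroup G) : Set G) :=
    h2.trans (centralizer_le fun _ h => hV h.1)
  exact le_o2 (h3.trans (cent_le_GG V _)) (o2_isPGroup L) (h1.trans (le_normalizer_o2 L))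

include hG hL hC hV SV zV JS wc hJ in
/-- **The front**: `M = N_G(O₂(G₀))`. -/
theorem front : ∃ M : Subgroup G, IsLoc (S : Subgroup G) M ∧ normalizer (V : Set G) ≤ M ∧
    centralizer ((V ⊓ centralizer (J : Set G) : Subgroup G) : Set G) ≤ M ∧
    ∀ F ≤ CZ (S : Subgroup G), NoFF.Basic.V V F ≤ o2 M := by
  have h0 := o2_le_GG hG hL hC hV SV zV JS wc hJ
  set G0 := GG V (V ⊓ centralizer (J : Set G)) with hG0
  have hVM : normalizer (V : Set G) ≤ normalizer (o2 G0 : Set G) :=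
    (norm_le_norm_GG V _).trans (normalizer_le_normalizer_o2' G0)
  have hne : o2 G0 ≠ ⊥ := fun h => hL.o2_ne (le_bot_iff.1 (h ▸ h0))
  refine ⟨normalizer (o2 G0 : Set G), isLoc_normalizer S (o2_isPGroup G0) hne (SV.trans hVM), hVM,
    (cent_le_GG V _).trans (le_normalizer_o2 G0), fun F hF => ?_⟩
  have h1 : o2 G0 ≤ o2 (normalizer (o2 G0 : Set G)) :=
    le_o2 le_normalizer (o2_isPGroup G0) le_rfl
  refine (NoFF.Basic.V_le fun f hf => ?_).trans (h0.trans h1)
  have h2 : zl (S : Subgroup G) L ≤ o2 L := (hL.zl_le S hG).trans (zc_le _)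
  have h3 : MulAut.conj f • V ≤ MulAut.conj f • zl (S : Subgroup G) L := conj_le_iff.2 hV
  have h4 : f ∈ normalizer (zl (S : Subgroup G) L : Set G) := le_normalizer_zl _ L (hC (hF hf))
  rw [conj_of_norm h4] at h3
  exact h3.trans h2

include hG hL hC hV SV zV JS wc hJ in
/-- **The front, with `F`**: `Y ≤ N_G(V)`, `⟨Y, C_G(Z)⟩` nonlocal, `N_G(S) ≤ N_G(V)`. -/
theorem front_par {Y : Subgroup G} (hY : Y ≤ normalizer (V : Set G)) (nl : NonLoc Y (CZ (S : Subgroup G)))
    (nS : normalizer ((S : Subgroup G) : Set G) ≤ normalizer (V : Set G)) (hS : (S : Subgroup G) ≠ ⊥) :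
    ∃ M F : Subgroup G, IsLoc (S : Subgroup G) M ∧ normalizer (V : Set G) ≤ M ∧
      centralizer ((V ⊓ centralizer (J : Set G) : Subgroup G) : Set G) ≤ M ∧
      (∀ F' ≤ CZ (S : Subgroup G), NoFF.Basic.V V F' ≤ o2 M) ∧
      IsPar (S : Subgroup G) F ∧ F ≤ CZ (S : Subgroup G) ∧ ¬ F ≤ M := by
  obtain ⟨M, h1, h2, h3, h4⟩ := front hG hL hC hV SV zV JS wc hJ
  have h5 : ¬ CZ (S : Subgroup G) ≤ M := fun h =>
    h1.o2_ne (nl _ (o2_isPGroup M) ((hY.trans h2).trans (le_normalizer_o2 M)) (h.trans (le_normalizer_o2 M)))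
  obtain ⟨F, hF, hFC, hFM⟩ := (isLoc_centralizer_zc S hS).exists_not_le S
    ((inf_le_right.trans nS).trans h2) h5
  exact ⟨M, F, h1, h2, h3, h4, hF, hFC, hFM⟩

/-- `C_S(V) ≤ O₂(F)` implies `F ≤ N_G(V)`, if `C_S(V)` is weakly closed and `N_G(C_S(V)) ≤ N_G(V)` -/
theorem le_norm_of_Q_le {Q F : Subgroup G} (hF : IsLoc (S : Subgroup G) F)
    (wcQ : ∀ g : G, MulAut.conj g • Q ≤ S → MulAut.conj g • Q = Q)
    (nQ : normalizer (Q : Set G) ≤ normalizer (V : Set G)) (h : Q ≤ o2 F) : F ≤ normalizer (V : Set G) := by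
  refine le_trans (fun f hf => ?_) nQ
  have h1 : MulAut.conj f • Q ≤ MulAut.conj f • o2 F := conj_le_iff.2 h
  rw [conj_of_norm (le_normalizer_o2 F hf)] at h1
  have h2 := wcQ f (h1.trans (hF.o2_le S))
  rw [mem_normalizer_iff]
  intro x
  constructor
  · intro hx
    rw [← h2, mem_conj]
    have e : f⁻¹ * (f * x * f⁻¹) * f = x := by group
    rwa [e]
  · intro hx
    rw [← h2, mem_conj] at hx
    have e : f⁻¹ * (f * x * f⁻¹) * f = x := by group
    rwa [e] at hx

end fin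

end Cfsg.Agent.Omega.NOThreeL.QWR.FrontV
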