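import Cfsg.Agent.Omega.OM.SwapV.Q.KQ
import Cfsg.Agent.Omega.NOThreeL.QWR.FrontV
import Cfsg.Agent.Omega.NOThreeL.QWR.FrTop
import Cfsg.Agent.Omega.NOThreeL.RRed.QFr.Top

/-!
# The front of the local case at the top level `(Q, V*)`, `(K)`-form (box R, one class, `q ≥ 4`; helper192 #27884 (2))

`K_0 := KQ S Q = ⟨C_G(Z_J), the FF-blocks over B in N_G(Q)⟩` (helper381). `L` local, `C_G(Z) ≤ L`, `V ≤ ⟨Z^L⟩`,
`K_0 ≤ L`: then `O₂(L) ≤ O₂(K_0)`, and `M := N_G(O₂(K_0))` is local, contains `K_0`, `N_G(B)`, `MZ S`, and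
`⟨V^F⟩ ≤ O₂(M)` for all `F ≤ C_G(Z)`. No statement about `N_G(V)`.

* `frontK` : over `WL S K₀`, any module `V`; `MZ_le` : `MZ S ≤ M`;
* `exists_topK` : the instance `V = V*`, `K₀ = Q = C_S(V*)` over helper461's `TopQ`, from
  `(∀ i, C_G(Z_J ∩ C i) ≤ L) ∨ (8 ≤ q ∧ ∀ i, L i ≤ L)`.
-/

set_option autoImplicit false
set_option linter.unusedSectionVars false

namespace Cfsg.Agent.Omega.NOThreeL.QWR.FrontK

open scoped Pointwise
open Subgroup Cfsg Cfsg.Agent.Omega.MinPar Cfsg.Agent.Omega.Frame Cfsg.Agent.Omega.FrameNOFF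
open Cfsg.Agent.ZN.ChoiceBase Cfsg.Agent.ZN.ChoiceSit
open Cfsg.Agent.ZN (o2 zc zl jj)
open Cfsg.Agent.Omega.NO3S.Level (nxt Lev)
open Cfsg.Agent.Omega.OM.SwapK (WL BK ZK)
open Cfsg.Agent.Omega.OM.Lev.Uni (FrL)
open Cfsg.Agent.Omega.OM.SwapV.Q.UniK (KQ FQ)
open Cfsg.Agent.Omega.NOThreeL.Merge (MZ)
open Cfsg.Agent.Omega.NOThreeL.RRed (Wd)
open Cfsg.Agent.Omega.NOThreeL.RTree (RB)
open Cfsg.Agent.Omega.NOThreeL.RRed.QFr.Top (Qv TopH TopQ)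
open Cfsg.Agent.Omega.NoFF.Basic (conj_le_iff)

universe u

variable {G : Type u} [Group G] [Finite G] {ι : Type} [Finite ι] {S : Sylow 2 G} {K₀ Q V L : Subgroup G}
  {Lb W Z C A : ι → Subgroup G} {q : ℕ}

/-- `O₂(L) ≤ O₂(K_0)` -/
theorem o2_le (hG : IsCharacteristicTwoType G) (hL : IsLoc (S : Subgroup G) L) (hV : V ≤ zl (S : Subgroup G) L)
    (hZ : ZK (S : Subgroup G) K₀ ≤ V) (hK : KQ (S : Subgroup G) K₀ ≤ L) :
    o2 L ≤ o2 (KQ (S : Subgroup G) K₀) := by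
  have h2 : o2 L ≤ centralizer (zl (S : Subgroup G) L : Set G) :=
    MinSimple.VModule.o2_le_centralizer_zl hL.le S.isPGroup' (MinSimple.Basic.not_dvd_relIndex S hL.le)
      (hL.char2 S hG)
  exact OM.SwapV.Q.UniK.o2_le_KQ hK (h2.trans (centralizer_le fun _ h => hV (hZ h)))

/-- **The front in `(K)`-form.** -/
theorem frontK (hG : IsCharacteristicTwoType G) (wl : WL S K₀)
    (fr : FrL (BK (S : Subgroup G) K₀) Q V (zc K₀) (ZK (S : Subgroup G) K₀) Lb W Z C A q)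
    (hn : ∀ i, Lb i ≤ normalizer (K₀ : Set G))
    (hL : IsLoc (S : Subgroup G) L) (hC : CZ (S : Subgroup G) ≤ L) (hV : V ≤ zl (S : Subgroup G) L)
    (hK : KQ (S : Subgroup G) K₀ ≤ L) :
    IsLoc (S : Subgroup G) (normalizer (o2 (KQ (S : Subgroup G) K₀) : Set G)) ∧
      KQ (S : Subgroup G) K₀ ≤ normalizer (o2 (KQ (S : Subgroup G) K₀) : Set G) ∧
      normalizer (BK (S : Subgroup G) K₀ : Set G) ≤ normalizer (o2 (KQ (S : Subgroup G) K₀) : Set G) ∧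
      ∀ F ≤ CZ (S : Subgroup G), NoFF.Basic.V V F ≤ o2 (normalizer (o2 (KQ (S : Subgroup G) K₀) : Set G)) := by
  have hZ : ZK (S : Subgroup G) K₀ ≤ V := fr.ZJV
  have h0 := o2_le hG hL hV hZ hK
  have hne : o2 (KQ (S : Subgroup G) K₀) ≠ ⊥ := fun h => hL.o2_ne (le_bot_iff.1 (h ▸ h0))
  obtain ⟨-, -, h1⟩ := OM.SwapV.Q.UniK.dich wl fr hn (isPGroup_o2 L) hL.o2_ne
    (hK.trans (ZN.ChoiceSit.le_normalizer_o2 L))
  have hB := le_sup_right.trans h1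
  have hS : (S : Subgroup G) ≤ normalizer (BK (S : Subgroup G) K₀ : Set G) :=
    wl.lb.two_le S.isPGroup' wl.lb.BS
  refine ⟨isLoc_normalizer S (isPGroup_o2 _) hne (hS.trans hB), le_sup_left.trans h1, hB, fun F hF => ?_⟩
  have h2 : o2 (KQ (S : Subgroup G) K₀) ≤ o2 (normalizer (o2 (KQ (S : Subgroup G) K₀) : Set G)) :=
    ZN.ChoiceSit.le_o2 (isPGroup_o2 _) le_normalizer le_rfl
  refine (NoFF.Basic.V_le fun f hf => ?_).trans (h0.trans h2)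
  have h3 : zl (S : Subgroup G) L ≤ o2 L := (hL.zl_le S hG).trans (ZN.zc_le _)
  have h4 : MulAut.conj f • V ≤ MulAut.conj f • zl (S : Subgroup G) L := conj_le_iff.2 hV
  have h5 : f ∈ normalizer (zl (S : Subgroup G) L : Set G) :=
    MinSimple.VModule.le_normalizer_zl _ L (hC (hF hf))
  rw [FrontV.conj_of_norm h5] at h4
  exact h4.trans h3

/-- `MZ S ≤ M`, if `M ≥ K_0, N_G(B)` -/
theorem MZ_le (hG : IsCharacteristicTwoType G) (wl : WL S K₀) (hX : Wd (S : Subgroup G) ≤ zc K₀) {M : Subgroup G}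
    (hK : KQ (S : Subgroup G) K₀ ≤ M) (hN : normalizer (BK (S : Subgroup G) K₀ : Set G) ≤ M) :
    MZ (S : Subgroup G) ≤ M := by
  refine sSup_le fun P hP => ?_
  have hP' : IsParS (S : Subgroup G) P := hP
  have hT : Syl (S : Subgroup G) P := ⟨hP'.le, S.isPGroup', fun Q _ hQ hle => S.is_maximal' hQ hle⟩
  exact (OM.SwapV.Q.UniK.par_le wl hT wl.lb.BS hP'.toIsMinPar (hP'.isLoc.char2 S hG)
    (FrTop.hall wl.lev.le hX P hP') fun hc => hP'.not_zc (hc.trans (centralizer_le_normalizer _))).trans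
    (sup_le hK hN)

/-- `C_G(Z_J) ≤ C_G(Z)` -/
theorem zc_le_ZK (wl : WL S K₀) (hX : Wd (S : Subgroup G) ≤ zc K₀) :
    zc (S : Subgroup G) ≤ ZK (S : Subgroup G) K₀ := by
  intro z hz
  have h1 : z ∈ zc K₀ := hX (MinSimple.VModule.zc_le_zl _ _ hz)
  have h2 := ZN.ChoiceBase.mem_zc.1 hz
  exact ZN.ChoiceBase.mem_zc.2 ⟨NO3S.Level.le_nxt wl.lev.le (ZN.zc_le _ h1), h2.2.1, fun y hy =>
    h2.2.2 y (NO3S.Level.nxt_le _ _ hy)⟩

/-- **`M` at the top level `(Q, V*)`.** -/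
theorem exists_topK [Nonempty ι] (hG : IsCharacteristicTwoType G) (wl : WL S (Qv S)) (th : TopH S)
    (tq : TopQ S Lb W Z C A q) (hL : IsLoc (S : Subgroup G) L) (hC : CZ (S : Subgroup G) ≤ L)
    (hV : Wd (S : Subgroup G) ≤ zl (S : Subgroup G) L)
    (h : (∀ i, centralizer ((ZK (S : Subgroup G) (Qv S) ⊓ C i : Subgroup G) : Set G) ≤ L) ∨ (8 ≤ q ∧ ∀ i, Lb i ≤ L)) :
    ∃ M : Subgroup G, IsLoc (S : Subgroup G) M ∧ KQ (S : Subgroup G) (Qv S) ≤ M ∧ MZ (S : Subgroup G) ≤ M ∧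
      normalizer (BK (S : Subgroup G) (Qv S) : Set G) ≤ M ∧
      ∀ F ≤ CZ (S : Subgroup G), NoFF.Basic.V (Wd (S : Subgroup G)) F ≤ o2 M := by
  have fr : FrL (BK (S : Subgroup G) (Qv S)) (Qv S) (Wd (S : Subgroup G)) (zc (Qv S)) (ZK (S : Subgroup G) (Qv S))
      Lb W Z C A q := by
    rw [th.zc]; exact tq.fr
  have hn : ∀ i, Lb i ≤ normalizer (Qv S : Set G) := fun i =>
    (tq.LM i).trans RRed.BFr.StageQ.M_norm
  have hcZ : centralizer (ZK (S : Subgroup G) (Qv S) : Set G) ≤ L :=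
    (centralizer_le fun _ h => zc_le_ZK wl th.zc.ge h).trans hC
  have hK : KQ (S : Subgroup G) (Qv S) ≤ L := by
    rcases h with h | ⟨h8, h⟩
    · exact OM.SwapV.Q.UniK.KQ_le wl fr h
    · exact OM.SwapV.Q.UniK.KQ_le8 wl fr tq.co h8 hcZ h
  obtain ⟨h1, h2, h3, h4⟩ := frontK hG wl fr hn hL hC hV hK
  exact ⟨_, h1, h2, MZ_le hG wl th.zc.ge h2 h3, h3, h4⟩

end Cfsg.Agent.Omega.NOThreeL.QWR.FrontK
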