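import Cfsg.Agent.Omega.NOThreeL.RRed.QFr.TopBlk
import Cfsg.Agent.Omega.NOThreeL.QWR.FrontV

/-!
# NO-3L, box R, one class, natural blocks, `q ≥ 4`, level `(Q, V*)`: the front in the `(K)`-form

`K = KQ S Q = ⟨C_G(Z_J), the FF-blocks over B which normalise Q⟩`, `M = N_G(O₂(K))`.

* `o2_le_KL` : `O₂(L) ≤ O₂(K)` for a local `L ≥ C_G(Z), K` with `V* ≤ ⟨Z^L⟩`;
* **`exists_ML`** : then `M` is local, `K, MZ S, N_G(B) ≤ M` and `⟨V*^F⟩ ≤ O₂(M)` for all `F ≤ C_G(Z)`.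
-/

set_option autoImplicit false
set_option linter.unusedSectionVars false

namespace Cfsg.Agent.Omega.NOThreeL.QWR.FrontKL

open Subgroup Cfsg Cfsg.Agent.Omega.MinPar Cfsg.Agent.Omega.Frame Cfsg.Agent.Omega.FrameNOFF
open Cfsg.Agent.ZN (jj zc zl o2)
open Cfsg.Agent.Omega.NoFF.Basic (conj_conj conj_le_iff conj_self mem_conj)
open Cfsg.Agent.MinSimple.VModule (zc_le le_normalizer_o2 le_normalizer_zl zc_le_zl zl_le o2_isPGroup
  o2_le le_o2)
open Cfsg.Agent.Omega.OM.SwapK (WL BK ZK)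
open Cfsg.Agent.Omega.OM.SwapV.Q.UniK (KQ)
open Cfsg.Agent.Omega.NOThreeL.RTree (RB)
open Cfsg.Agent.Omega.NOThreeL.Merge (MZ)
open Cfsg.Agent.Omega.NOThreeL.RRed (Wd)
open Cfsg.Agent.Omega.NOThreeL.RRed.QFr.Top (Qv TopH TopQ)
open scoped Pointwise

universe u

variable {G : Type u} [Group G] [Finite G] {ι : Type} [Finite ι] {S : Sylow 2 G}
  {N l C A Lb : ι → Subgroup G} {q : ℕ} {L : Subgroup G}

/-- `Z_J ≤ V*` -/
theorem zk_le (t : TopQ S Lb N l C A q) (h : TopH S) : ZK (S : Subgroup G) (Qv S) ≤ Wd (S : Subgroup G) :=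
  fun z hz => (((t.frK h).mem_ZJ z).1 hz).1

/-- `O₂(L) ≤ O₂(K)` -/
theorem o2_le_KL (B : RB S) (h : TopH S) (t : TopQ S Lb N l C A q)
    (hL : IsLoc (S : Subgroup G) L) (hK : KQ (S : Subgroup G) (Qv S) ≤ L)
    (hV : Wd (S : Subgroup G) ≤ zl (S : Subgroup G) L) : o2 L ≤ o2 (KQ (S : Subgroup G) (Qv S)) := by
  refine OM.SwapV.Q.UniK.o2_le_KQ hK ?_
  have h2 : o2 L ≤ centralizer (zl (S : Subgroup G) L : Set G) :=
    MinSimple.VModule.o2_le_centralizer_zl hL.le S.isPGroup' (MinSimple.Basic.not_dvd_relIndex S hL.le)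
      (hL.char2 S B.ctx.char2)
  exact h2.trans (centralizer_le fun _ hx => hV (zk_le t h hx))

/-- **The front**: `M = N_G(O₂(K))`. -/
theorem exists_ML (B : RB S) (h : TopH S) (wl : WL S (Qv S)) (t : TopQ S Lb N l C A q)
    (hL : IsLoc (S : Subgroup G) L) (hC : CZ (S : Subgroup G) ≤ L) (hK : KQ (S : Subgroup G) (Qv S) ≤ L)
    (hV : Wd (S : Subgroup G) ≤ zl (S : Subgroup G) L) :
    ∃ M : Subgroup G, IsLoc (S : Subgroup G) M ∧ KQ (S : Subgroup G) (Qv S) ≤ M ∧ MZ (S : Subgroup G) ≤ M ∧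
      normalizer (BK (S : Subgroup G) (Qv S) : Set G) ≤ M ∧
      centralizer (ZK (S : Subgroup G) (Qv S) : Set G) ≤ M ∧
      ∀ F ≤ CZ (S : Subgroup G), NoFF.Basic.V (Wd (S : Subgroup G)) F ≤ o2 M := by
  have hG := B.ctx.char2
  have h0 := o2_le_KL B h t hL hK hV
  set K := KQ (S : Subgroup G) (Qv S) with hKd
  have hKM : K ≤ normalizer (o2 K : Set G) := le_normalizer_o2 K
  have hBM : normalizer (BK (S : Subgroup G) (Qv S) : Set G) ≤ normalizer (o2 K : Set G) :=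
    (t.norm_KQ h wl).trans (normalizer_le_normalizer_o2' K)
  have hne : o2 K ≠ ⊥ := fun e => hL.o2_ne (le_bot_iff.1 (e ▸ h0))
  have hYM : MZ (S : Subgroup G) ≤ normalizer (o2 K : Set G) :=
    (RRed.QFr.Top.mz_le B wl).trans (sup_le hKM hBM)
  have hSM : (S : Subgroup G) ≤ normalizer (o2 K : Set G) :=
    (NOThreeL.Merge.S_le_MZ B.ctx B.full).trans hYM
  refine ⟨normalizer (o2 K : Set G), isLoc_normalizer S (o2_isPGroup K) hne hSM, hKM, hYM, hBM,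
    OM.SwapV.Q.UniK.cent_le_KQ.trans hKM, fun F hF => ?_⟩
  have h1 : o2 K ≤ o2 (normalizer (o2 K : Set G)) :=
    le_o2 le_normalizer (o2_isPGroup K) le_rfl
  refine (NoFF.Basic.V_le fun f hf => ?_).trans (h0.trans h1)
  have h2 : zl (S : Subgroup G) L ≤ o2 L := (hL.zl_le S hG).trans (zc_le _)
  have h3 : MulAut.conj f • Wd (S : Subgroup G) ≤ MulAut.conj f • zl (S : Subgroup G) L := conj_le_iff.2 hV
  have h4 : f ∈ normalizer (zl (S : Subgroup G) L : Set G) := le_normalizer_zl _ L (hC (hF hf))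
  rw [FrontV.conj_of_norm h4] at h3
  exact h3.trans h2

end Cfsg.Agent.Omega.NOThreeL.QWR.FrontKL
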