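import Cfsg.Agent.Omega.NOThreeL.QWR.LowT
import Cfsg.Agent.Omega.OM.SwapT.QuietL
import Cfsg.Agent.Omega.OM.SwapV.MainN
import Cfsg.Agent.Omega.OM.SwapK.Blk
import Cfsg.Agent.Omega.OM.Lev.UniPlus
import Cfsg.Agent.Omega.OM.Lev.Low.Line

/-!
# NO-3L, box R: the sockets `BMH` of THEOREM SW at `(Q, V*)` (input of `SwapV.CrA.le_of_char2N`, `cz_leN`, `noOmN`)

`WL S Q`, `FrL (BK S Q) Q V X₀ (ZK S Q) L W Z C A 2`, `Ω₁Z(Q) = V`, `c ∈ Ω₁Z(S)` of full support;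
`OffM S V Q M` : (THEOREM QW at `(Q, V*)`) a minimal parabolic `F ≤ C_G(Z)` over `T`, `B ≤ T ≤ S`, with `J(S) ≤ O₂(F)`,
`Q ≰ O₂(F)`, `F ≰ M`, has a best offender of `T` on `⟨V^F⟩` outside `O₂(F)`.

* `exists_norm_cz` : a 2-group `T ≥ B` in `C_G(Z^g)`, `g ∈ N_G(B)`, lies in `S^k`, `k ∈ N_G(B)`, `Z^k = Z^g`;
* `bm_base` : minimal parabolics of `C_G(Z)` over `T`, `B ≤ T ≤ S`, which move `Ω₁Z(T)`, `nxt S Q ≰ O₂`, lie in `M`;
* **`bmh_of`** : `BMH` inside `C_G(Z^g)`, `g ∈ N_G(B)`;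
* `blk_le` : (UNI) the FF-blocks over `B` with module in `Ω₁Z(Q)` lie in `⟨C_G(Z_J), L i⟩`; **`bmh_top`** : `bmh_of` for
  `M ≥ C_G(Z_J), L i, N_G(B)`;
* `exists_fullS` : an element of `Ω₁Z(S)` of full support; **`bmh_all`** : `bmh_top` without `c`.
-/

set_option autoImplicit false
set_option linter.unusedSectionVars false

namespace Cfsg.Agent.Omega.NOThreeL.QWR.LowM

open Subgroup Cfsg Cfsg.Agent.ZN.ChoiceBase Cfsg.Agent.ZN.ChoiceSit
open Cfsg.Agent.ZN (jj zj bau zc zl o2)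
open Cfsg.Agent.MinSimple.MinParabolic (IsMinPar)
open Cfsg.Agent.MinSimple.VModule (oddGen oddGen_le)
open Cfsg.Agent.Omega.OM
open Cfsg.Agent.Omega.OM.Lev.Uni (FrL)
open Cfsg.Agent.Omega.OM.LevB (FBlk)
open Cfsg.Agent.Omega.OM.LevD (LB K0)
open Cfsg.Agent.Omega.NO1.BestOff (Best)
open Cfsg.Agent.Omega.NO3S.Level
open Cfsg.Agent.Omega.OM.SwapK (WL BK ZK)
open Cfsg.Agent.Omega.OM.SwapV (BMH)
open Cfsg.Agent.Omega.OM.SwapT.QuietL (isMinPar_cj best_cj)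
open Cfsg.Agent.Omega.NOThreeL.QWR.LowT (UY)

universe u

variable {G : Type u} [Group G] [Finite G]

/-- **THEOREM QW at `(Q, V)`**, its conclusion, for the `F ≰ M`. -/
def OffM (S : Sylow 2 G) (V Q M : Subgroup G) : Prop :=
  ∀ T F : Subgroup G, Syl T F → BK (S : Subgroup G) Q ≤ T → T ≤ (S : Subgroup G) → IsMinPar T F →
    F ⊓ centralizer (o2 F : Set G) ≤ o2 F → F ≤ centralizer (zc (S : Subgroup G) : Set G) →
    jj (S : Subgroup G) ≤ o2 F → ¬ Q ≤ o2 F → ¬ oddGen F ≤ centralizer (ZK (S : Subgroup G) Q : Set G) → ¬ F ≤ M →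
    ∃ A, A ≤ T ∧ Best (NoFF.Basic.V V F) A ∧ ¬ A ≤ o2 F

variable {S : Sylow 2 G} {Q V : Subgroup G} {ι : Type}
  {X₀ : Subgroup G} {L W Z C A : ι → Subgroup G} {q : ℕ} {T Y M : Subgroup G}

section conj

variable (h : WL S Q)
include h

/-- A 2-group `T ≥ B` inside `C_G(Z^g)`, `g ∈ N_G(B)`, lies in `S^k`, `k ∈ N_G(B)`, `Z^k = Z^g`. -/
theorem exists_norm_cz {g : G} (hT : IsPGroup 2 T)
    (hB : BK (S : Subgroup G) Q ≤ T) (hTc : T ≤ centralizer (cj g (zc (S : Subgroup G)) : Set G)) :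
    ∃ k ∈ normalizer (BK (S : Subgroup G) Q : Set G), T ≤ cj k (S : Subgroup G) ∧
      cj k (zc (S : Subgroup G)) = cj g (zc (S : Subgroup G)) := by
  set H : Subgroup G := centralizer (cj g (zc (S : Subgroup G)) : Set G) with hH
  have hSH : cj g (S : Subgroup G) ≤ H := by
    rw [hH, ← cj_centralizer]
    exact cj_mono g (le_centralizer_zc _)
  have hSs : Syl (cj g (S : Subgroup G)) H := by
    have hS : ((g • S : Sylow 2 G) : Subgroup G) = cj g (S : Subgroup G) := by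
      rw [Sylow.coe_subgroup_smul]; rfl
    rw [← hS] at hSH ⊢
    exact ⟨hSH, (g • S : Sylow 2 G).isPGroup', fun R _ hR hle => (g • S : Sylow 2 G).is_maximal' hR hle⟩
  obtain ⟨T₁, hT₁, hTT⟩ := exists_syl hT hTc
  obtain ⟨x, hx, hxT⟩ := syl_conj hSs hT₁
  have e1 : cj (x * g) (S : Subgroup G) = T₁ := by rw [← hxT, cj_cj]
  have h1 : cj (x * g)⁻¹ (BK (S : Subgroup G) Q) ≤ (S : Subgroup G) := by
    have := cj_mono (x * g)⁻¹ ((hB.trans hTT).trans e1.ge)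
    rwa [cj_inv_cj] at this
  have h2 := h.wcB _ S.isPGroup' h.lb.BS _ h1
  have h3 := inv_mem (mem_normalizer_iff_cj.2 h2)
  rw [inv_inv] at h3
  refine ⟨x * g, h3, hTT.trans e1.ge, ?_⟩
  rw [← cj_cj]
  exact cj_eq_of_mem_normalizer (centralizer_le_normalizer _ hx)

end conj

section base

variable [Finite ι] (h : WL S Q)
  (fr : FrL (BK (S : Subgroup G) Q) Q V X₀ (ZK (S : Subgroup G) Q) L W Z C A 2) (zcQ : zc Q = V)
include h fr zcQ

/-- minimal parabolics of `C_G(Z)` over `T`, `B ≤ T ≤ S` -/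
theorem bm_base (ho : OffM S V Q M) {c : G} (hc : c ∈ zc (S : Subgroup G)) (hcf : ∀ i, c ∉ C i)
    (hM : ∀ L' V' : Subgroup G, FBlk (BK (S : Subgroup G) Q) L' V' → V' ≤ zc Q → L' ≤ M)
    (hN : normalizer (BK (S : Subgroup G) Q : Set G) ≤ M)
    (hT : Syl T Y) (hB : BK (S : Subgroup G) Q ≤ T) (hTS : T ≤ (S : Subgroup G)) (hP : IsMinPar T Y)
    (hYZ : Y ≤ centralizer (zc (S : Subgroup G) : Set G)) (hch : Y ⊓ centralizer (o2 Y : Set G) ≤ o2 Y)
    (hK : ¬ nxt (S : Subgroup G) Q ≤ o2 Y) (hZ : ¬ Y ≤ centralizer (zc T : Set G)) : Y ≤ M := by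
  by_contra hYM
  have hcJ : c ∈ ZK (S : Subgroup G) Q := h.lev.next.zc_le hc
  have hYc : Y ≤ centralizer ({c} : Set G) := fun y hy => mem_centralizer_singleton_iff.2
    (mem_centralizer_iff.1 (hYZ hy) c hc).symm
  by_cases hQ : Q ≤ o2 Y
  · obtain ⟨L', V', hLY, hF, hVQ, hsup⟩ := SwapT.exists_fblk h.wc h.lev hT hB hP hch hQ hK hZ
    exact hYM (hsup.trans (sup_le ((h.lb.two_le hT.2.1 hB).trans hN) (hM _ _ hF hVQ)))
  by_cases hj : jj (S : Subgroup G) ≤ o2 Y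
  · have hmv : ¬ oddGen Y ≤ centralizer (ZK (S : Subgroup G) Q : Set G) := by
      intro hcon
      apply hZ
      rw [← Dich.oddGen_sup_syl hT]
      exact sup_le (hcon.trans (centralizer_le (by exact_mod_cast LowT.zc_T_le h hT.2.1 hB))) (le_centralizer_zc T)
    obtain ⟨A', hA', hb, hn⟩ := ho T Y hT hB hTS hP hch hYZ hj hQ hmv hYM
    exact hZ (LowT.low_off h fr zcQ hcJ hcf hT hB hP hYc hch hj ⟨A', hA', hb, hn⟩)
  · exact hZ (LowT.low_lev h fr zcQ hcJ hcf hT hB hP hYc hch (n := 0) h.lev.jjle hj)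

/-- **The socket `BMH` inside `C_G(Z^g)`, `g ∈ N_G(B)`.** -/
theorem bmh_of (ho : OffM S V Q M) {c : G} (hc : c ∈ zc (S : Subgroup G)) (hcf : ∀ i, c ∉ C i)
    (hM : ∀ L' V' : Subgroup G, FBlk (BK (S : Subgroup G) Q) L' V' → V' ≤ zc Q → L' ≤ M)
    (hN : normalizer (BK (S : Subgroup G) Q : Set G) ≤ M) :
    ∀ g ∈ normalizer (BK (S : Subgroup G) Q : Set G),
      BMH (nxt (S : Subgroup G) Q) (BK (S : Subgroup G) Q) M (centralizer (cj g (zc (S : Subgroup G)) : Set G)) := by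
  intro g hg T Y hT hB hP hYZ hch hK hZ
  obtain ⟨k, hk, hTk, hkZ⟩ := exists_norm_cz h hT.2.1 hB (hT.1.trans hYZ)
  have hki : k⁻¹ ∈ normalizer (BK (S : Subgroup G) Q : Set G) := inv_mem hk
  have hkB : cj k⁻¹ (BK (S : Subgroup G) Q) = BK (S : Subgroup G) Q := mem_normalizer_iff_cj.1 hki
  have hkK : cj k⁻¹ (nxt (S : Subgroup G) Q) = nxt (S : Subgroup G) Q :=
    LevD.norm_of_wc (wc_nxt h.wc) h.lb.Bp h.lb.KB hki
  have ho2 : o2 (cj k⁻¹ Y) = cj k⁻¹ (o2 Y) := o2_cj _ _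
  have hY' : cj k⁻¹ Y ≤ M := by
    refine bm_base h fr zcQ ho hc hcf hM hN (NO1.JMin.syl_cj hT k⁻¹) ?_ ?_ (isMinPar_cj k⁻¹ hP) ?_ ?_ ?_ ?_
    · have := cj_mono k⁻¹ hB
      rwa [hkB] at this
    · have := cj_mono k⁻¹ hTk
      rwa [cj_inv_cj] at this
    · have h1 := cj_mono k⁻¹ hYZ
      rwa [cj_centralizer, ← hkZ, cj_inv_cj] at h1
    · rw [ho2]
      have := cj_mono k⁻¹ hch
      rwa [cj_inf, cj_centralizer] at this
    · intro hcon
      apply hK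
      rw [ho2] at hcon
      have := cj_mono k hcon
      rw [cj_cj_inv] at this
      refine le_trans (le_of_eq ?_) this
      rw [← hkK, cj_cj_inv, hkK]
    · intro hcon
      apply hZ
      have := cj_mono k hcon
      rwa [cj_centralizer, NO3S.Level.zc_cj, cj_cj_inv, cj_cj_inv] at this
  have h2 := cj_mono k hY'
  rw [cj_cj_inv] at h2
  exact h2.trans (cj_eq_of_mem_normalizer (le_normalizer (hN hk))).le

end base

section top

variable [Finite ι] (h : WL S Q)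
  (fr : FrL (BK (S : Subgroup G) Q) Q V V (ZK (S : Subgroup G) Q) L W Z C A 2) (zcQ : zc Q = V)
include h fr zcQ

/-- **(UNI)** FF-blocks over `B` with module in `Ω₁Z(Q)` lie in `⟨C_G(Z_J), L i⟩`. -/
theorem blk_le {L' V' : Subgroup G} (hF : FBlk (BK (S : Subgroup G) Q) L' V')
    (hV : V' ≤ zc Q) : L' ≤ centralizer (ZK (S : Subgroup G) Q : Set G) ⊔ ⨆ i, L i := by
  obtain ⟨⟨Z', q', hb⟩, -⟩ := hF
  have hp : ∀ g ∈ normalizer (BK (S : Subgroup G) Q : Set G), ∀ j, ∃ k, cj g (Z j) = Z k := by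
    intro g hg j
    have hgV : g ∈ normalizer (V : Set G) := by
      rw [← zcQ]
      exact normalizer_le_zc _ (h.norm_B hg)
    obtain ⟨k, hk, -⟩ := (fr.norm_of hg hgV).2 j
    exact ⟨k, hk⟩
  obtain ⟨-, i, -, -, -, -, h2⟩ := OM.Lev.UniPlus.uniPlusX fr h.lb.Bp h.wcB hp hb (hV.trans zcQ.le)
  refine (h2 rfl).2.trans (sup_le (le_sup_of_le_right (le_iSup L i)) (le_sup_of_le_left (centralizer_le ?_)))
  exact_mod_cast (le_sup_right : ZK (S : Subgroup G) Q ≤ W i ⊔ ZK (S : Subgroup G) Q)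

/-- **The socket `BMH`** for a group `M ≥ C_G(Z_J), L i, N_G(B)`. -/
theorem bmh_top (ho : OffM S V Q M) {c : G} (hc : c ∈ zc (S : Subgroup G)) (hcf : ∀ i, c ∉ C i)
    (hD : centralizer (ZK (S : Subgroup G) Q : Set G) ≤ M) (hL : ∀ i, L i ≤ M)
    (hN : normalizer (BK (S : Subgroup G) Q : Set G) ≤ M) :
    ∀ g ∈ normalizer (BK (S : Subgroup G) Q : Set G),
      BMH (nxt (S : Subgroup G) Q) (BK (S : Subgroup G) Q) M (centralizer (cj g (zc (S : Subgroup G)) : Set G)) :=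
  bmh_of h fr zcQ ho hc hcf (fun _ _ h1 h2 => (blk_le h fr zcQ h1 h2).trans (sup_le hD (iSup_le hL))) hN

/-- `g c g⁻¹`, `g ∈ N_G(B)`, is of full support if `c` is -/
theorem full_norm {c g : G} (hc : c ∈ ZK (S : Subgroup G) Q) (hcf : ∀ i, c ∉ C i)
    (hg : g ∈ normalizer (BK (S : Subgroup G) Q : Set G)) (j : ι) : g * c * g⁻¹ ∉ C j := by
  intro hcon
  have hgV : ∀ {g : G}, g ∈ normalizer (BK (S : Subgroup G) Q : Set G) → g ∈ normalizer (V : Set G) := by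
    intro g hg
    rw [← zcQ]
    exact normalizer_le_zc _ (h.norm_B hg)
  have hgi := inv_mem hg
  have hgJ : g * c * g⁻¹ ∈ ZK (S : Subgroup G) Q := (mem_normalizer_iff.1 (h.lb.norm_B_le hg) c).1 hc
  obtain ⟨i, hi, -⟩ := (fr.norm_of hgi (hgV hgi)).2 j
  have h1 : g * c * g⁻¹ ∈ ⨆ m : {m : ι // m ≠ j}, Z m.1 :=
    OM.Lev.Low.Line.ZJ_C_le fr (N := ⨆ m : {m : ι // m ≠ j}, Z m.1)
      (fun m hm => le_iSup (fun m : {m : ι // m ≠ j} => Z m.1) ⟨m, hm⟩) hgJ hcon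
  have h2 : (⨆ m : {m : ι // m ≠ j}, Z m.1) ≤ cj g (C i) := by
    refine iSup_le ?_
    rintro ⟨m, hm⟩
    obtain ⟨k, hk, -⟩ := (fr.norm_of hgi (hgV hgi)).2 m
    have hki : k ≠ i := by
      rintro rfl
      apply hm
      have e : Z m = Z j := by
        have h3 := congrArg (cj g) (hk.trans hi.symm)
        rwa [cj_cj_inv, cj_cj_inv] at h3
      by_contra hmj
      obtain ⟨z, hz, hz1⟩ := OM.Lev.Low.Line.exists_z fr m
      exact hz1 (OM.Lev.Low.Line.one_of fr (OM.Lev.Low.Line.ZW fr m hz)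
        (fr.WjC m j (fun e => hmj e) (OM.Lev.Low.Line.ZW fr j (e.le hz))))
    have h3 : cj g⁻¹ (Z m) ≤ C i := by
      rw [hk]
      exact (OM.Lev.Low.Line.ZW fr k).trans (fr.WjC i k hki.symm)
    have h4 := cj_mono g h3
    rwa [cj_cj_inv] at h4
  have h5 := mem_cj.1 (h2 h1)
  have e : g⁻¹ * (g * c * g⁻¹) * g = c := by group
  rw [e] at h5
  exact hcf i h5

/-- **An element of `Ω₁Z(S)` of full support.** -/
theorem exists_fullS : ∃ c ∈ zc (S : Subgroup G), ∀ i, c ∉ C i := by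
  obtain ⟨c, hc, hcf⟩ := OM.Lev.Low.Line.exists_full fr
  have uniq : ∀ c' ∈ ZK (S : Subgroup G) Q, (∀ i, c' ∉ C i) → c' = c := by
    intro c' hc' hcf'
    have h1 : c⁻¹ * c' = 1 := by
      refine fr.C0 _ (mul_mem (inv_mem (fr.ZJV hc)) (fr.ZJV hc')) fun i => ?_
      obtain ⟨w, hw, x, hx, -, e⟩ := fr.split_ZJ i hc
      obtain ⟨w', hw', x', hx', -, e'⟩ := fr.split_ZJ i hc'
      have hw1 : w ≠ 1 := by
        rintro rfl
        rw [one_mul] at e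
        exact hcf i (e ▸ hx)
      have hw1' : w' ≠ 1 := by
        rintro rfl
        rw [one_mul] at e'
        exact hcf' i (e' ▸ hx')
      have e2 := OM.Lev.Low.Line.Z_two fr hw hw1 hw' hw1'
      rw [e, e', e2]
      have e3 : (w' * x)⁻¹ * (w' * x') = x⁻¹ * x' := by group
      rw [e3]
      exact mul_mem (inv_mem hx) hx'
    exact (inv_mul_eq_one.1 h1).symm
  refine ⟨c, mem_zc.2 ⟨?_, ?_, fun s hs => ?_⟩, hcf⟩
  · exact h.lb.BS (h.lb.ZB hc)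
  · exact h.lb.sq c hc
  · have hsN : s ∈ normalizer (BK (S : Subgroup G) Q : Set G) := h.lb.two_le S.isPGroup' h.lb.BS hs
    have h1 := uniq _ ((mem_normalizer_iff.1 (h.lb.norm_B_le hsN) c).1 hc) (full_norm h fr zcQ hc hcf hsN)
    have h2 : s * c = c * s := by
      calc s * c = s * c * s⁻¹ * s := by group
        _ = c * s := by rw [h1]
    exact h2

/-- **The socket `BMH`**, without `c`. -/
theorem bmh_all (ho : OffM S V Q M) (hD : centralizer (ZK (S : Subgroup G) Q : Set G) ≤ M) (hL : ∀ i, L i ≤ M)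
    (hN : normalizer (BK (S : Subgroup G) Q : Set G) ≤ M) :
    ∀ g ∈ normalizer (BK (S : Subgroup G) Q : Set G),
      BMH (nxt (S : Subgroup G) Q) (BK (S : Subgroup G) Q) M (centralizer (cj g (zc (S : Subgroup G)) : Set G)) := by
  obtain ⟨c, hc, hcf⟩ := exists_fullS h fr zcQ
  exact bmh_top h fr zcQ ho hc hcf hD hL hN

end top

end Cfsg.Agent.Omega.NOThreeL.QWR.LowM
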