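import Cfsg.Agent.Omega.OM.SwapT.Plug
import Cfsg.Agent.Omega.OM.Lev.UniPlus
import Cfsg.Agent.Omega.OM.Lev.Low.FrFour
import Cfsg.Agent.Omega.NOThreeL.RTree

/-!
# NO-3L, box R: `⟨C_G(Z_J), L i⟩` over a general weakly closed level `K₀`

`K₀` weakly closed in `S`, `B = BT S K₀ = C_S(Z_J)`, `Z_J = ZT S K₀ = Ω₁Z(nxt S K₀)`, the frame
`FrL B Q V (Ω₁Z(K₀)) Z_J L W Z C A 2` (any `S`-orbits of blocks), `K₀ ≤ O₂(P)` for all `P ∈ P*(S)`.

* `FamK B K₀` : the FF-blocks over `B` with module in `Ω₁Z(K₀)`; `famK`; `K0_le` : they lie in `⟨C_G(Z_J), L i⟩`;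
* **`exists_M`** : if a 2-group `≠ 1` is normalised by `C_G(Z_J)` and all `L i`, then some local group `M ≥ S` contains
  `C_G(Z_J)`, `L i`, `N_G(B)`, `N_G(Z_J)`, `M₀ = MZ S` and all FF-blocks over `B` with module in `Ω₁Z(K₀)`;
* **`nl_of`** : if every such `M` contains `C_G(Z)` (THEOREM SW), then no 2-group `≠ 1` is normalised by `C_G(Z_J)` and
  all `L i`.
-/

set_option autoImplicit false
set_option linter.unusedSectionVars false

namespace Cfsg.Agent.Omega.NOThreeL.QWR.NlTop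

open Subgroup Cfsg Cfsg.Agent.Omega.MinPar Cfsg.Agent.Omega.Frame Cfsg.Agent.ZN.ChoiceBase Cfsg.Agent.ZN.ChoiceSit
open Cfsg.Agent.ZN (zc o2)
open Cfsg.Agent.Omega.NO3S.Level (lev Lev nxt)
open Cfsg.Agent.Omega.OM
open Cfsg.Agent.Omega.OM.LevD (LB K0 Fam)
open Cfsg.Agent.Omega.OM.LevB (FBlk)
open Cfsg.Agent.Omega.OM.Lev.Uni (FrL)
open Cfsg.Agent.Omega.OM.SwapT (ZT BT lb norm_K exists_fblk)
open Cfsg.Agent.Omega.NOThreeL.RTree (RB)
open Cfsg.Agent.Omega.NOThreeL.Merge (MZ)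
open Cfsg.Agent.Omega.FrameNOFF (CZ)

universe u

variable {G : Type u} [Group G] [Finite G]

/-- The FF-blocks over `B` with module in `Ω₁Z(K₀)`. -/
def FamK (B K₀ L V : Subgroup G) : Prop := FBlk B L V ∧ V ≤ zc K₀

section

variable {ι : Type} [Finite ι] {S : Sylow 2 G} {K₀ V Q : Subgroup G} {L W Z C A : ι → Subgroup G}

theorem fblk (hw : NO3b.Wc.WC (S : Subgroup G) K₀)
    (fr : FrL (BT (S : Subgroup G) K₀) Q V (zc K₀) (ZT (S : Subgroup G) K₀) L W Z C A 2) (i : ι) :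
    FamK (BT (S : Subgroup G) K₀) K₀ (L i) (W i) :=
  ⟨⟨⟨_, _, fr.blk i⟩, (fr.blk i).toBlock (fr.cardZ i) (lb hw).Bp (lb hw).weakNormal⟩, (fr.WV i).trans fr.VX⟩

theorem famK (hw : NO3b.Wc.WC (S : Subgroup G) K₀)
    (fr : FrL (BT (S : Subgroup G) K₀) Q V (zc K₀) (ZT (S : Subgroup G) K₀) L W Z C A 2) :
    Fam (BT (S : Subgroup G) K₀) (ZT (S : Subgroup G) K₀) (FamK (BT (S : Subgroup G) K₀) K₀) where
  blk := fun _ _ h => h.1.blk
  conj := fun g hg L' V' h => ⟨h.1.conj hg, by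
    have h1 := cj_mono g h.2
    rwa [cj_eq_of_mem_normalizer (NO3S.Level.normalizer_le_zc _ (norm_K hw hg))] at h1⟩
  zj_le := (OM.Lev.Low.zj_le fr fun i => (fr.blk i).ZV.trans (le_iSup W i)).trans (iSup_le fun i =>
    le_iSup (fun i : {x : Subgroup G × Subgroup G // FamK (BT (S : Subgroup G) K₀) K₀ x.1 x.2} => i.1.2)
      ⟨(L i, W i), fblk hw fr i⟩)

/-- **`K0 = ⟨C_G(Z_J), L i⟩`** -/
theorem K0_eq (hw : NO3b.Wc.WC (S : Subgroup G) K₀)
    (fr : FrL (BT (S : Subgroup G) K₀) Q V (zc K₀) (ZT (S : Subgroup G) K₀) L W Z C A 2) :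
    K0 (ZT (S : Subgroup G) K₀) (FamK (BT (S : Subgroup G) K₀) K₀) =
      centralizer (ZT (S : Subgroup G) K₀ : Set G) ⊔ ⨆ i, L i := by
  apply le_antisymm
  · refine sup_le le_sup_left (iSup_le ?_)
    rintro ⟨⟨L', V'⟩, ⟨⟨⟨Z', q', hF⟩, hb⟩, hX⟩⟩
    have hp : ∀ g ∈ normalizer (BT (S : Subgroup G) K₀ : Set G), ∀ j, ∃ k, cj g (Z j) = Z k := by
      intro g hg j
      obtain ⟨k, hk, -⟩ := (fr.norm_of hg (NO3S.Level.normalizer_le_zc _ (norm_K hw hg))).2 j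
      exact ⟨k, hk⟩
    obtain ⟨-, i, -, -, -, -, h2⟩ := OM.Lev.UniPlus.uniPlusX fr (lb hw).Bp (SwapT.wc hw) hp hF hX
    refine (h2 rfl).2.trans (sup_le (le_sup_of_le_right (le_iSup L i)) (le_sup_of_le_left (centralizer_le ?_)))
    exact_mod_cast (le_sup_right : ZT (S : Subgroup G) K₀ ≤ W i ⊔ ZT (S : Subgroup G) K₀)
  · exact sup_le LevD.cent_le_K0 (iSup_le fun i => LevD.blk_le_K0 (fblk hw fr i))

/-- **(Om) over `K₀`.** -/
theorem exists_M (B : RB S) (hw : NO3b.Wc.WC (S : Subgroup G) K₀) (hL : Lev (S : Subgroup G) K₀)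
    (fr : FrL (BT (S : Subgroup G) K₀) Q V (zc K₀) (ZT (S : Subgroup G) K₀) L W Z C A 2)
    (hall : ∀ P : Subgroup G, IsParS (S : Subgroup G) P → K₀ ≤ o2 P)
    {R : Subgroup G} (hR : IsPGroup 2 R) (hR1 : R ≠ ⊥)
    (hD : centralizer (ZT (S : Subgroup G) K₀ : Set G) ≤ normalizer (R : Set G))
    (hLR : ∀ i, L i ≤ normalizer (R : Set G)) :
    ∃ M O : Subgroup G, M = normalizer (O : Set G) ∧ IsPGroup 2 O ∧ O ≠ ⊥ ∧ O ≤ BT (S : Subgroup G) K₀ ∧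
      O = o2 (centralizer (ZT (S : Subgroup G) K₀ : Set G) ⊔ ⨆ i, L i) ∧ IsLoc (S : Subgroup G) M ∧
      centralizer (ZT (S : Subgroup G) K₀ : Set G) ≤ M ∧ (∀ i, L i ≤ M) ∧
      normalizer (BT (S : Subgroup G) K₀ : Set G) ≤ M ∧ normalizer (ZT (S : Subgroup G) K₀ : Set G) ≤ M ∧
      MZ (S : Subgroup G) ≤ M ∧
      (∀ L' V' : Subgroup G, FBlk (BT (S : Subgroup G) K₀) L' V' → V' ≤ zc K₀ → L' ≤ M) := by
  have hb := lb hw
  obtain ⟨ho, hoB, hle⟩ := (famK hw fr).dich hb hR hR1 (by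
    rw [K0_eq hw fr]
    exact sup_le hD (iSup_le hLR))
  set O : Subgroup G := o2 (K0 (ZT (S : Subgroup G) K₀) (FamK (BT (S : Subgroup G) K₀) K₀)) with hO
  have hK : K0 (ZT (S : Subgroup G) K₀) (FamK (BT (S : Subgroup G) K₀) K₀) ≤ normalizer (O : Set G) :=
    le_sup_left.trans hle
  have hN : normalizer (BT (S : Subgroup G) K₀ : Set G) ≤ normalizer (O : Set G) := le_sup_right.trans hle
  have hLM : ∀ i, L i ≤ normalizer (O : Set G) := fun i => (LevD.blk_le_K0 (fblk hw fr i)).trans hK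
  have hDM := LevD.cent_le_K0.trans hK
  have hZM : normalizer (ZT (S : Subgroup G) K₀ : Set G) ≤ normalizer (O : Set G) :=
    hb.norm_zj_le.trans (sup_le hDM hN)
  have hSM : (S : Subgroup G) ≤ normalizer (O : Set G) := (hb.two_le S.isPGroup' hb.BS).trans hN
  have hF : ∀ L' V' : Subgroup G, FBlk (BT (S : Subgroup G) K₀) L' V' → V' ≤ zc K₀ → L' ≤ normalizer (O : Set G) :=
    fun L' V' h1 h2 => (LevD.blk_le_K0 (⟨h1, h2⟩ : FamK (BT (S : Subgroup G) K₀) K₀ L' V')).trans hK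
  have hG := B.ctx.char2
  have hP : MZ (S : Subgroup G) ≤ normalizer (O : Set G) := by
    refine sSup_le fun P hP => ?_
    have hP' : IsParS (S : Subgroup G) P := hP
    by_cases h1 : nxt (S : Subgroup G) K₀ ≤ o2 P
    · exact ((le_normalizer_o2 P).trans (hb.nrm _ (isPGroup_o2 P) h1)).trans hZM
    · obtain ⟨L', V', -, h3, h4, h5⟩ := exists_fblk hw hL
        ⟨hP'.le, S.isPGroup', fun Q _ hQ hle => S.is_maximal' hQ hle⟩ hb.BS hP'.toIsMinPar (hP'.isLoc.char2 S hG)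
        (hall P hP') h1 (fun hc => hP'.not_zc (hc.trans (centralizer_le_normalizer _)))
      exact h5.trans (sup_le hSM (hF L' V' h3 h4))
  have hoM : o2 (normalizer (O : Set G)) ≠ ⊥ := by
    intro e
    apply ho
    have h1 : O ≤ o2 (normalizer (O : Set G)) := le_o2 (isPGroup_o2 _) le_normalizer le_rfl
    rw [e] at h1
    exact le_bot_iff.1 h1
  refine ⟨normalizer (O : Set G), O, rfl, isPGroup_o2 _, ho, hoB, ?_, ⟨hSM, hoM⟩, hDM, hLM, hN, hZM, hP, hF⟩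
  rw [hO, K0_eq hw fr]

/-- **The box-R end of THEOREM SW over `K₀`.** -/
theorem nl_of (B : RB S) (hw : NO3b.Wc.WC (S : Subgroup G) K₀) (hL : Lev (S : Subgroup G) K₀)
    (fr : FrL (BT (S : Subgroup G) K₀) Q V (zc K₀) (ZT (S : Subgroup G) K₀) L W Z C A 2)
    (hall : ∀ P : Subgroup G, IsParS (S : Subgroup G) P → K₀ ≤ o2 P)
    (cz : ∀ M : Subgroup G, IsLoc (S : Subgroup G) M → centralizer (ZT (S : Subgroup G) K₀ : Set G) ≤ M →
      (∀ i, L i ≤ M) → normalizer (BT (S : Subgroup G) K₀ : Set G) ≤ M → MZ (S : Subgroup G) ≤ M →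
      (∀ L' V' : Subgroup G, FBlk (BT (S : Subgroup G) K₀) L' V' → V' ≤ zc K₀ → L' ≤ M) →
      CZ (S : Subgroup G) ≤ M)
    {R : Subgroup G} (hR : IsPGroup 2 R)
    (hD : centralizer (ZT (S : Subgroup G) K₀ : Set G) ≤ normalizer (R : Set G))
    (hLR : ∀ i, L i ≤ normalizer (R : Set G)) : R = ⊥ := by
  by_contra hR1
  obtain ⟨M, O, rfl, hO2, hO1, -, -, h1, h2, h3, h4, -, h6, h7⟩ := exists_M B hw hL fr hall hR hR1 hD hLR
  exact hO1 (FrameNOFF.eq_bot_of_norm B.ctx S B.full hO2 (fun P hP => (le_sSup hP).trans h6)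
    (cz _ h1 h2 h3 h4 h6 h7))

end

end Cfsg.Agent.Omega.NOThreeL.QWR.NlTop
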