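import Cfsg.Agent.Omega.NOThreeL.QWR.OffOf
import Cfsg.Agent.Omega.NOThreeL.QWR.LowM
import Cfsg.Agent.Omega.NOThreeL.QWR.NlTop
import Cfsg.Agent.Omega.NOThreeL.QWR.FrTop
import Cfsg.Agent.Omega.NOThreeL.QWR.Sw.Two
import Cfsg.Agent.Omega.NOThreeL.QWR.TopM

/-!
# NO-3L, box R, one class, `q = 2`: the top half at the level `(Q, V*)`, `Q = C_S(V*)`

* `ltV_of` : helper587's level `LtV S V* Q`;
* `cz_top` : `C_G(Z) ≤ M` for every local `M ≥ C_G(Z_J), L i, N_G(B), MZ S` and the FF-blocks over `B` with module in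
  `Ω₁Z(Q)` (THEOREM QW = `offR_of`, THEOREM SW = `CrA.cz_leN`);
* **`nl_top`** : no 2-group `≠ 1` is normalised by `C_G(Z_J)` and all `L i`.
-/

set_option autoImplicit false
set_option linter.unusedSectionVars false

namespace Cfsg.Agent.Omega.NOThreeL.QWR.Glue

open Subgroup Cfsg Cfsg.Agent.ZN.ChoiceBase Cfsg.Agent.ZN.ChoiceSit Cfsg.Agent.Omega.MinPar Cfsg.Agent.Omega.Frame
open Cfsg.Agent.ZN (jj zc zl o2)
open Cfsg.Agent.Omega.FrameNOFF (CZ)
open Cfsg.Agent.MinSimple.VModule (oddGen)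
open Cfsg.Agent.Omega.NO3b.EZero (cl)
open Cfsg.Agent.Omega.NO3S.CaseLW.QWc (Neg)
open Cfsg.Agent.Omega.OM
open Cfsg.Agent.Omega.OM.SwapK (WL BK ZK)
open Cfsg.Agent.Omega.OM.SwapT (BT ZT)
open Cfsg.Agent.Omega.OM.LevB (FBlk)
open Cfsg.Agent.Omega.OM.Lev.Uni (FrL)
open Cfsg.Agent.Omega.NO3S.Level (nxt Lev)
open Cfsg.Agent.Omega.NOThreeL.Merge (MZ)
open Cfsg.Agent.Omega.NOThreeL.RRed (Wd)
open Cfsg.Agent.Omega.NOThreeL.RTree (RB)
open Cfsg.Agent.Omega.NOThreeL.QWR.FrTop (QT)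

universe u

variable {G : Type u} [Group G] [Finite G] {S : Sylow 2 G}

/-- The hypothesis `hUM` of `offR_of` for `M`. -/
def UM (S : Sylow 2 G) (M : Subgroup G) : Prop :=
  ∀ T F : Subgroup G, WR S (MZ (S : Subgroup G)) T F → BB (S : Subgroup G) (MZ (S : Subgroup G)) ≤ T →
    F ≤ CZ (S : Subgroup G) → ¬ oddGen F ≤ centralizer (ZZ (S : Subgroup G) (MZ (S : Subgroup G)) : Set G) →
    Neg T F (cl (Wd (S : Subgroup G)) F) → cl (Wd (S : Subgroup G)) F ≤ o2 M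

variable {ι : Type} [Finite ι] {L W Z C A : ι → Subgroup G} {X : Subgroup G}

theorem ltV_of (B : RB S) (wl : WL S (QT (S : Subgroup G))) (hz : zc (QT (S : Subgroup G)) = Wd (S : Subgroup G))
    (fr : FrL (BK (S : Subgroup G) (QT (S : Subgroup G))) (QT (S : Subgroup G)) (Wd (S : Subgroup G)) X
      (ZK (S : Subgroup G) (QT (S : Subgroup G))) L W Z C A 2)
    (hL : ∀ i, L i ≤ MZ (S : Subgroup G)) : Sw.LtV S (Wd (S : Subgroup G)) (QT (S : Subgroup G)) where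
  wl := wl
  zcQ := hz
  char2 := B.ctx.char2
  low := FrTop.low B wl hz.ge fr hL
  noff := FrTop.noff B wl hz fr hL

/-- **THEOREM QW + THEOREM SW at the top**: `C_G(Z) ≤ M`. -/
theorem cz_top (B : RB S) (wl : WL S (QT (S : Subgroup G))) (hz : zc (QT (S : Subgroup G)) = Wd (S : Subgroup G))
    (rq : RQ S (MZ (S : Subgroup G)))
    (fr : FrL (BK (S : Subgroup G) (QT (S : Subgroup G))) (QT (S : Subgroup G)) (Wd (S : Subgroup G))
      (Wd (S : Subgroup G)) (ZK (S : Subgroup G) (QT (S : Subgroup G))) L W Z C A 2)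
    (hL : ∀ i, L i ≤ MZ (S : Subgroup G)) {M : Subgroup G} (um : UM S M)
    (hD : centralizer (ZK (S : Subgroup G) (QT (S : Subgroup G)) : Set G) ≤ M) (hLM : ∀ i, L i ≤ M)
    (hN : normalizer (BK (S : Subgroup G) (QT (S : Subgroup G)) : Set G) ≤ M) (hP : MZ (S : Subgroup G) ≤ M)
    (hF : ∀ L' V' : Subgroup G, FBlk (BK (S : Subgroup G) (QT (S : Subgroup G))) L' V' →
      V' ≤ zc (QT (S : Subgroup G)) → L' ≤ M) : CZ (S : Subgroup G) ≤ M := by
  have ho := offR_of rq wl.lev hz hD hP um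
  have hA := (ltV_of B wl hz fr hL).crA fr ho
  obtain ⟨c, hc, hcf⟩ := hA.exists_full
  have hcS := hA.full_mem hc hcf
  have hS : (S : Subgroup G) ≠ ⊥ := fun e => rq.zne (by
    rw [e]
    exact le_bot_iff.1 (MinSimple.VModule.zc_le _))
  exact hA.cz_leN (LowM.bmh_of wl fr hz (fun T F h1 h2 h3 h4 h5 h6 h7 h8 h9 _ => ho T F h1 h2 h3 h4 h5 h6 h7 h8 h9)
    hcS hcf hF hN) hLM hD hN hS

/-- **The top half of NL1**: no 2-group `≠ 1` is normalised by `C_G(Z_J)` and all `L i`. -/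
theorem nl_top (B : RB S) (wl : WL S (QT (S : Subgroup G))) (hz : zc (QT (S : Subgroup G)) = Wd (S : Subgroup G))
    (rq : RQ S (MZ (S : Subgroup G)))
    (fr : FrL (BK (S : Subgroup G) (QT (S : Subgroup G))) (QT (S : Subgroup G)) (Wd (S : Subgroup G))
      (Wd (S : Subgroup G)) (ZK (S : Subgroup G) (QT (S : Subgroup G))) L W Z C A 2)
    (hL : ∀ i, L i ≤ MZ (S : Subgroup G))
    (um : ∀ M : Subgroup G, IsLoc (S : Subgroup G) M →
      centralizer (ZK (S : Subgroup G) (QT (S : Subgroup G)) : Set G) ≤ M → MZ (S : Subgroup G) ≤ M → UM S M)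
    {R : Subgroup G} (hR : IsPGroup 2 R)
    (hD : centralizer (ZK (S : Subgroup G) (QT (S : Subgroup G)) : Set G) ≤ normalizer (R : Set G))
    (hLR : ∀ i, L i ≤ normalizer (R : Set G)) : R = ⊥ := by
  have fr' : FrL (BT (S : Subgroup G) (QT (S : Subgroup G))) (QT (S : Subgroup G)) (Wd (S : Subgroup G))
      (zc (QT (S : Subgroup G))) (ZT (S : Subgroup G) (QT (S : Subgroup G))) L W Z C A 2 := by
    rw [hz]
    exact fr
  exact NlTop.nl_of B wl.wc wl.lev fr' (FrTop.hall wl.lev.le hz.ge)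
    (fun M h1 h2 h3 h4 h5 h6 => cz_top B wl hz rq fr hL (um M h1 h2 h5) h2 h3 h4 h5 h6) hR hD hLR

end Cfsg.Agent.Omega.NOThreeL.QWR.Glue
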