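import Cfsg.Agent.Omega.NOThreeL.QWR.LowQ
import Cfsg.Agent.Omega.NOThreeL.QWR.Sw.Base
import Cfsg.Agent.Omega.OM.SWT.LowLev
import Cfsg.Agent.Omega.OM.SwapT.QuietL
import Cfsg.Agent.Omega.NO3S.CaseLW.LamQ.Frm
import Cfsg.Agent.Omega.OM.SwapV.Core
import Cfsg.Agent.Omega.OM.Dich

/-!
# THEOREM LAMBDA for `q ≥ 4` at the top level `(Q, V)`: the end

`Q = C_S(V)` weakly closed, `J(S) ≤ Q`, `Ω₁Z(Q) ≤ V`, blocks over `B`, `N_G(B) ≤ N_G(V)`.

* `TQ S B Q V ZJ L W Z C A q` : the inputs; `OffQ S B Q V ZJ` : the output of QWR (best offenders on `⟨V^Y⟩`), for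
  `B ≤ T ≤ S`, `Y ≤ C_G(Z)`, `J(S) ≤ O₂(Y)`, `Q ≰ O₂(Y)`;
* `TQ.low_neg` : `J(S) ≰ O₂(Y)`; `TQ.low_S` : `T ≤ S`; **`TQ.low`** : `Y ≤ C_G(Z^g)`, `g ∈ N_G(B)`, `Q ≰ O₂(Y)` ⟹
  `Y` centralises `Ω₁Z(T)`;
* **`TQ.bmh`** : `BMH K B M (C_G(Z^g))` for all `g ∈ N_G(B)`, if `N_G(Q) ≤ M`.
-/

set_option autoImplicit false
set_option linter.unusedSectionVars false

namespace Cfsg.Agent.Omega.NOThreeL.QWR.LowQEnd

open Subgroup Cfsg Cfsg.Agent.ZN.ChoiceBase Cfsg.Agent.ZN.ChoiceSit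
open Cfsg.Agent.ZN (jj zj bau zc zl o2)
open Cfsg.Agent.MinSimple.MinParabolic (IsMinPar)
open Cfsg.Agent.MinSimple.VModule (oddGen oddGen_le)
open Cfsg.Agent.Omega.OM.Lev.Uni (FrL)
open Cfsg.Agent.Omega.NO1.BestOff (Best)
open Cfsg.Agent.Omega.NO3S.Level (lev Lev lev_isLev)
open Cfsg.Agent.Omega.OM.Lev.Low (exists_ybj no_low)
open Cfsg.Agent.Omega.OM.SwapK (best_of_le)
open Cfsg.Agent.Omega.SQ1.Bau (elem_comm elem_sq)

universe u

variable {G : Type u} [Group G] [Finite G]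

/-- The top level `(Q, V)`. -/
structure TQ {ι : Type} (S : Sylow 2 G) (B Q V ZJ : Subgroup G) (L W Z C A : ι → Subgroup G) (q : ℕ) : Prop where
  fr : FrL B Q V V ZJ L W Z C A q
  BS : B ≤ (S : Subgroup G)
  wcB : OM.WeakCl.WC B
  wcQ : NO3b.Wc.WC (S : Subgroup G) Q
  jQ : jj (S : Subgroup G) ≤ Q
  cQ : (S : Subgroup G) ⊓ centralizer (V : Set G) ≤ Q
  NV : normalizer (B : Set G) ≤ normalizer (V : Set G)
  bestB : ∀ A ≤ (S : Subgroup G), Best V A → A ≤ B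

/-- **QWR, its output** (for the `Y ≰ M`). -/
def OffQ (S : Sylow 2 G) (B Q V ZJ M : Subgroup G) : Prop :=
  ∀ T Y : Subgroup G, Syl T Y → B ≤ T → T ≤ (S : Subgroup G) → IsMinPar T Y →
    Y ⊓ centralizer (o2 Y : Set G) ≤ o2 Y → Y ≤ centralizer (zc (S : Subgroup G) : Set G) →
      jj (S : Subgroup G) ≤ o2 Y → ¬ Q ≤ o2 Y → ¬ oddGen Y ≤ centralizer (ZJ : Set G) →
        ¬ Y ≤ centralizer (zc T : Set G) → ¬ Y ≤ M → ∃ A, A ≤ T ∧ Best (NoFF.Basic.V V Y) A ∧ ¬ A ≤ o2 Y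

omit [Finite G] in
theorem norm_of_wcB {B T : Subgroup G} (h : OM.WeakCl.WC B) (hT : IsPGroup 2 T) (hB : B ≤ T) :
    T ≤ normalizer (B : Set G) := fun t ht =>
  mem_normalizer_iff_cj.2 (h T hT hB t ((cj_mono t hB).trans (cj_eq_of_mem_normalizer (le_normalizer ht)).le))

namespace TQ

variable {ι : Type} [Finite ι] {S : Sylow 2 G} {B Q V ZJ T Y M K : Subgroup G} {L W Z C A : ι → Subgroup G} {q : ℕ}

theorem Bp (h : TQ S B Q V ZJ L W Z C A q) : IsPGroup 2 B := S.isPGroup'.to_le h.BS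

theorem VS (h : TQ S B Q V ZJ L W Z C A q) : V ≤ (S : Subgroup G) := (h.fr.VQ.trans h.fr.QB).trans h.BS

theorem NQ (h : TQ S B Q V ZJ L W Z C A q) : normalizer (B : Set G) ≤ normalizer (Q : Set G) := fun _ hg =>
  mem_normalizer_iff_cj.2 (OM.LevD.norm_of_wc h.wcQ h.Bp h.fr.QB hg)

theorem SN (h : TQ S B Q V ZJ L W Z C A q) : (S : Subgroup G) ≤ normalizer (B : Set G) :=
  norm_of_wcB h.wcB S.isPGroup' h.BS

/-- elements of `S` centralising `Q` -/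
theorem mem_V (h : TQ S B Q V ZJ L W Z C A q) {x : G} (hx : x ∈ (S : Subgroup G)) (h2 : x ^ 2 = 1)
    (hc : ∀ y ∈ Q, y * x = x * y) : x ∈ V := by
  have h1 : x ∈ Q := h.cQ ⟨hx, mem_centralizer_iff.2 fun v hv => hc v (h.fr.VQ hv)⟩
  exact h.fr.zcQ x h1 h2 fun y hy => (hc y hy).symm

/-- `Ω₁Z(T) ≤ Z_J`, `B ≤ T ≤ S` -/
theorem zcT (h : TQ S B Q V ZJ L W Z C A q) (hB : B ≤ T) (hTS : T ≤ (S : Subgroup G)) : zc T ≤ ZJ := by
  intro z hz
  obtain ⟨h1, h2, h3⟩ := mem_zc.1 hz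
  exact (h.fr.mem_ZJ z).2 ⟨h.mem_V (hTS h1) h2 fun y hy => h3 y (hB (h.fr.QB hy)), fun b hb => h3 b (hB hb)⟩

/-- `V ≤ Ω₁Z(J(S))` -/
theorem V_le_zc (h : TQ S B Q V ZJ L W Z C A q) : V ≤ zc (lev (S : Subgroup G) 0) := fun v hv =>
  (lev_isLev (S : Subgroup G) 0).mem_of_comm (h.VS hv) (elem_sq h.fr.elX v hv) fun y hy => h.fr.cQ (h.jQ hy) hv

theorem qv (h : TQ S B Q V ZJ L W Z C A q) (hT : IsPGroup 2 T) (hB : B ≤ T) :
    OM.Lev.Low.YB.QV T (zc (lev (S : Subgroup G) 0)) Q V where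
  QT := h.fr.QB.trans hB
  TQ := (norm_of_wcB h.wcB hT hB).trans h.NQ
  mem := by
    intro x
    constructor
    · exact fun hx => ⟨h.V_le_zc hx, fun q hq => h.fr.cQ hq hx⟩
    · rintro ⟨hx, hxQ⟩
      exact h.mem_V ((lev_isLev (S : Subgroup G) 0).le (mem_zc.1 hx).1) (mem_zc.1 hx).2.1 hxQ
  two := hT

/-- **Stage `J(S)`.** -/
theorem low_neg (h : TQ S B Q V ZJ L W Z C A q) (hq : 2 < q) (hT : Syl T Y) (hB : B ≤ T)
    (hTS : T ≤ (S : Subgroup G)) (hP : IsMinPar T Y) (hc : Y ⊓ centralizer (o2 Y : Set G) ≤ o2 Y)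
    (hn : ¬ jj (S : Subgroup G) ≤ o2 Y) : Y ≤ centralizer (zc T : Set G) := by
  by_contra hZ
  have hB0 : OM.LevB.BL (S : Subgroup G) 0 ≤ T := by
    rintro x ⟨hx, hxc⟩
    refine hB (h.fr.QB (h.cQ ⟨hx, centralizer_le ?_ hxc⟩))
    exact_mod_cast h.V_le_zc
  obtain ⟨Λ, _, N, c, hy, l, hl⟩ := exists_ybj S hT hB0 hP hc (j := 0) (fun i hi => absurd hi (Nat.not_lt_zero i)) hn hZ
  have h1 := no_low h.fr hq hy (h.qv hT.2.1 hB) hB l
  exact hl ((h.zcT hB hTS).trans h1)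

/-- an element of full support in `Ω₁Z(S)` -/
theorem exists_full (h : TQ S B Q V ZJ L W Z C A q) :
    ∃ c ∈ ZJ, (∀ i, c ∉ C i) ∧ c ∈ zc (S : Subgroup G) := by
  obtain ⟨c, hc, hcf, hcS⟩ := NO3S.CaseLW.LamQ.exists_full_fix h.fr (R := (S : Subgroup G)) S.isPGroup' fun s hs i => by
    obtain ⟨j, hj, -⟩ := (h.fr.norm_of (h.SN hs) (h.NV (h.SN hs))).2 i
    exact ⟨j, hj⟩
  have hcV := h.fr.ZJV hc
  exact ⟨c, hc, hcf, mem_zc.2 ⟨h.VS hcV, elem_sq h.fr.elX c hcV, fun s hs => hcS s hs⟩⟩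

/-- **LAMBDA, `T ≤ S`, `Y ≤ C_G(Z)`.** -/
theorem low_S (h : TQ S B Q V ZJ L W Z C A q) (hq : 4 ≤ q) (ho : OffQ S B Q V ZJ M) (hT : Syl T Y) (hB : B ≤ T)
    (hTS : T ≤ (S : Subgroup G)) (hP : IsMinPar T Y) (hch : Y ⊓ centralizer (o2 Y : Set G) ≤ o2 Y)
    (hY : Y ≤ centralizer (zc (S : Subgroup G) : Set G)) (hn : ¬ Q ≤ o2 Y) (hYM : ¬ Y ≤ M) :
    Y ≤ centralizer (zc T : Set G) := by
  by_cases hJ : jj (S : Subgroup G) ≤ o2 Y
  swap
  · exact h.low_neg (by omega) hT hB hTS hP hch hJ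
  by_contra hZ
  have hzT := h.zcT hB hTS
  have hmv : ¬ oddGen Y ≤ centralizer (ZJ : Set G) := by
    intro hcon
    apply hZ
    rw [← OM.Dich.oddGen_sup_syl hT]
    exact sup_le (hcon.trans (centralizer_le (by exact_mod_cast hzT))) (NO3S.Level.le_centralizer_zc T)
  obtain ⟨A', hAT, hA, hAO⟩ := ho T Y hT hB hTS hP hch hY hJ hn hmv hZ hYM
  obtain ⟨c, hc, hcf, hcS⟩ := h.exists_full
  -- `U = ⟨V^Y⟩ ≤ Ω₁Z(J(S))`
  have hYJ : Y ≤ normalizer (zc (lev (S : Subgroup G) 0) : Set G) :=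
    (le_normalizer_o2 Y).trans ((OM.LevD.LB.lev S 0).nrm _ (isPGroup_o2 Y) hJ)
  have hUz : NoFF.Basic.V V Y ≤ zc (lev (S : Subgroup G) 0) := NoFF.Basic.V_le fun f hf => by
    have h1 := cj_mono f h.V_le_zc
    rwa [cj_eq_of_mem_normalizer (hYJ hf)] at h1
  have hVU : V ≤ NoFF.Basic.V V Y := by
    have h1 := NoFF.Basic.Z_le_V (Z := V) (one_mem Y)
    rwa [map_one, one_smul] at h1
  have hel : IsElementaryAbelian 2 (NoFF.Basic.V V Y) :=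
    ⟨⟨⟨fun a b => Subtype.ext (Lev.zc_comm (hUz a.2) (hUz b.2))⟩⟩, fun a ha => (mem_zc.1 (hUz ha)).2.1⟩
  have hUT : NoFF.Basic.V V Y ≤ T := hUz.trans ((zc_le _).trans (h.jQ.trans (h.fr.QB.trans hB)))
  refine hZ (LowQ.low_off h.fr hq hc hcf hT hB hP (hY.trans (centralizer_le (Set.singleton_subset_iff.2 hcS))) hch hel
    OmThm.XD.X_le_normalizer_W hVU hUT ((norm_of_wcB h.wcB hT.2.1 hB).trans h.NQ) (fun x hx hxQ => ?_) hzT
    (fun E hE hb => h.bestB E (hE.trans hTS) (best_of_le (elem_comm hel) hb hVU)) ⟨A', hAT, hA, hAO⟩)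
  exact h.mem_V (hTS (hUT hx)) (elem_sq hel x hx) hxQ

/-- **LAMBDA inside `C_G(Z^g)`.** -/
theorem low (h : TQ S B Q V ZJ L W Z C A q) (hq : 4 ≤ q) (ho : OffQ S B Q V ZJ M) {g : G}
    (hg : g ∈ normalizer (B : Set G)) (hNM : normalizer (B : Set G) ≤ M) (hT : Syl T Y) (hB : B ≤ T) (hP : IsMinPar T Y)
    (hch : Y ⊓ centralizer (o2 Y : Set G) ≤ o2 Y)
    (hY : Y ≤ centralizer (cj g (zc (S : Subgroup G)) : Set G)) (hn : ¬ Q ≤ o2 Y) (hYM : ¬ Y ≤ M) :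
    Y ≤ centralizer (zc T : Set G) := by
  set H : Subgroup G := normalizer (B : Set G) ⊓ centralizer (cj g (zc (S : Subgroup G)) : Set G) with hH
  have hgS : Syl (cj g (S : Subgroup G)) H := by
    refine ⟨le_inf ?_ ?_, isPGroup_cj g S.isPGroup', fun R _ hR hle => ?_⟩
    · have h1 := cj_mono g h.SN
      rwa [cj_eq_of_mem_normalizer (le_normalizer hg)] at h1
    · have h1 := cj_mono g (NO3S.Level.le_centralizer_zc (S : Subgroup G))
      rwa [cj_centralizer] at h1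
    · have h1 : (S : Subgroup G) ≤ cj g⁻¹ R := by
        have := cj_mono g⁻¹ hle
        rwa [cj_inv_cj] at this
      have h2 := S.is_maximal' (isPGroup_cj g⁻¹ hR) h1
      have h3 := congrArg (cj g) h2
      rwa [cj_cj_inv] at h3
  have hTH : T ≤ H := le_inf (norm_of_wcB h.wcB hT.2.1 hB) (hT.1.trans hY)
  obtain ⟨T', hT', hTT'⟩ := exists_syl hT.2.1 hTH
  obtain ⟨x, hx, rfl⟩ := syl_conj hgS hT'
  have hn' : x * g ∈ normalizer (B : Set G) := mul_mem hx.1 hg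
  have hni : (x * g)⁻¹ ∈ normalizer (B : Set G) := inv_mem hn'
  have hzz : cj (x * g) (zc (S : Subgroup G)) = cj g (zc (S : Subgroup G)) := by
    rw [← cj_cj]
    ext y
    constructor
    · intro hy
      rw [mem_cj] at hy
      have h1 := mem_centralizer_iff.1 hx.2 _ hy
      have e : x⁻¹ * y * x = y := by
        have h2 : (x⁻¹ * y * x) * x = x * (x⁻¹ * y * x) := h1
        have h3 : (x⁻¹ * y * x) * x = y * x := by rw [h2]; group
        exact mul_right_cancel h3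
      rwa [e] at hy
    · intro hy
      have h1 := mem_centralizer_iff.1 hx.2 _ hy
      rw [mem_cj]
      have e : x⁻¹ * y * x = y := by rw [mul_assoc, h1]; group
      rwa [e]
  rw [cj_cj] at hTT'
  set n := x * g with hndef
  have hQn : cj n⁻¹ Q = Q := mem_normalizer_iff_cj.1 (h.NQ hni)
  have hBn : cj n⁻¹ B = B := mem_normalizer_iff_cj.1 hni
  have ho2 : o2 (cj n⁻¹ Y) = cj n⁻¹ (o2 Y) := o2_cj _ _
  have key := h.low_S hq ho (T := cj n⁻¹ T) (Y := cj n⁻¹ Y) (NO1.JMin.syl_cj hT n⁻¹)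
    (by
      have := cj_mono n⁻¹ hB
      rwa [hBn] at this)
    (by
      have := cj_mono n⁻¹ hTT'
      rwa [cj_inv_cj] at this)
    (OM.SwapT.QuietL.isMinPar_cj n⁻¹ hP)
    (by
      rw [ho2]
      have := cj_mono n⁻¹ hch
      rwa [cj_inf, cj_centralizer] at this)
    (by
      rw [← hzz] at hY
      have := cj_mono n⁻¹ hY
      rwa [cj_centralizer, cj_inv_cj] at this)
    (by
      intro hcon
      apply hn
      rw [ho2] at hcon
      have := cj_mono n hcon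
      rw [cj_cj_inv] at this
      refine le_trans (le_of_eq ?_) this
      rw [← hQn, cj_cj_inv, hQn])
    (by
      intro hcon
      apply hYM
      have := cj_mono n hcon
      rw [cj_cj_inv] at this
      exact this.trans (cj_eq_of_mem_normalizer (le_normalizer (hNM hn'))).le)
  have h1 := cj_mono n key
  rwa [cj_cj_inv, cj_centralizer, ← NO3S.Level.zc_cj, cj_cj_inv] at h1

/-- **`BMH` inside `C_G(Z^g)`**, from the minimal parabolics with `Q ≤ O₂(Y)`. -/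
theorem bmh_of (h : TQ S B Q V ZJ L W Z C A q) (hq : 4 ≤ q) (hNM : normalizer (B : Set G) ≤ M)
    (ho : OffQ S B Q V ZJ M)
    (hQ : ∀ T Y : Subgroup G, Syl T Y → B ≤ T → IsMinPar T Y → Y ⊓ centralizer (o2 Y : Set G) ≤ o2 Y → Q ≤ o2 Y →
      ¬ K ≤ o2 Y → ¬ Y ≤ centralizer (zc T : Set G) → Y ≤ M) :
    ∀ g ∈ normalizer (B : Set G), OM.SwapV.BMH K B M (centralizer (cj g (zc (S : Subgroup G)) : Set G)) := by
  intro g hg T Y hT hB hP hY hch hK hZ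
  by_cases hn : Q ≤ o2 Y
  · exact hQ T Y hT hB hP hch hn hK hZ
  · by_contra hYM
    exact hZ (h.low hq ho hg hNM hT hB hP hch hY hn hYM)

/-- **`BMH` inside `C_G(Z^g)`**, `N_G(Q) ≤ M`. -/
theorem bmh (h : TQ S B Q V ZJ L W Z C A q) (hq : 4 ≤ q) (hM : normalizer (Q : Set G) ≤ M)
    (ho : OffQ S B Q V ZJ M) :
    ∀ g ∈ normalizer (B : Set G), OM.SwapV.BMH K B M (centralizer (cj g (zc (S : Subgroup G)) : Set G)) :=
  h.bmh_of hq (h.NQ.trans hM) ho fun _ Y _ _ _ _ hn _ _ =>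
    ((le_normalizer_o2 Y).trans fun _ hy => mem_normalizer_iff_cj.2 (OM.LevD.norm_of_wc h.wcQ (isPGroup_o2 Y) hn hy)).trans hM

end TQ

/-! ### Over 587's level `LtV` -/

section ltv

open Cfsg.Agent.Omega.OM.SwapK (BK ZK)
open Cfsg.Agent.Omega.NO3S.Level (nxt)

variable {ι : Type} [Finite ι] {S : Sylow 2 G} {Q V M : Subgroup G} {L W Z C A : ι → Subgroup G} {q : ℕ}

/-- The inputs from `LtV S V Q`. -/
theorem TQ.of_ltv (h : Sw.LtV S V Q)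
    (fr : FrL (BK (S : Subgroup G) Q) Q V V (ZK (S : Subgroup G) Q) L W Z C A q) :
    TQ S (BK (S : Subgroup G) Q) Q V (ZK (S : Subgroup G) Q) L W Z C A q where
  fr := fr
  BS := h.wl.lb.BS
  wcB := h.wl.wcB
  wcQ := h.wl.wc
  jQ := h.wl.lev.jjle
  cQ := by
    rintro x ⟨hx, hxc⟩
    have hxB : x ∈ BK (S : Subgroup G) Q := ⟨hx, centralizer_le (by exact_mod_cast fr.ZJV) hxc⟩
    exact (fr.mem_Q x hxB).2 fun v hv => (mem_centralizer_iff.1 hxc v hv).symm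
  NV := by
    rw [← h.zcQ]
    exact h.wl.norm_B.trans (NO3S.Level.normalizer_le_zc _)
  bestB := by
    intro E hE hb
    rw [← h.zcQ] at hb
    exact (h.wl.le_nxt_of_best S.isPGroup' (NO3S.Level.nxt_le _ _) hE hb).trans h.wl.lb.KB

/-- QWR for `B ≤ T ≤ S`. -/
theorem offQ_of (ho : Sw.OffR S V Q) : OffQ S (BK (S : Subgroup G) Q) Q V (ZK (S : Subgroup G) Q) M :=
  fun T Y hT hB hTS hP hch hY hJ hn hmv _ _ => by
    obtain ⟨A, h1, h2⟩ := ho T Y hT hB hTS hP hch hY hJ hn hmv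
    exact ⟨A, h1, h2⟩

/-- **`BMH` inside `C_G(Z^g)` at the level `(Q, V)`, `q ≥ 4`.** -/
theorem bmh_ltv (h : Sw.LtV S V Q)
    (fr : FrL (BK (S : Subgroup G) Q) Q V V (ZK (S : Subgroup G) Q) L W Z C A q) (hq : 4 ≤ q)
    (ho : Sw.OffR S V Q) (hM : normalizer (Q : Set G) ≤ M) :
    ∀ g ∈ normalizer (BK (S : Subgroup G) Q : Set G), OM.SwapV.BMH (nxt (S : Subgroup G) Q) (BK (S : Subgroup G) Q) M
      (centralizer (cj g (zc (S : Subgroup G)) : Set G)) :=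
  (TQ.of_ltv h fr).bmh hq hM (offQ_of ho)

/-- **`BMH` inside `C_G(Z^g)` at the level `(Q, V)`, `q ≥ 4`**: `M` contains `N_G(B)` and the FF-blocks over `B` which
normalise `Q`; QWR is needed for the `F ≰ M` only. -/
theorem bmh_ltvF (h : Sw.LtV S V Q)
    (fr : FrL (BK (S : Subgroup G) Q) Q V V (ZK (S : Subgroup G) Q) L W Z C A q) (hq : 4 ≤ q)
    (ho : OffQ S (BK (S : Subgroup G) Q) Q V (ZK (S : Subgroup G) Q) M)
    (hN : normalizer (BK (S : Subgroup G) Q : Set G) ≤ M)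
    (hF : ∀ L' V' : Subgroup G, OM.LevB.FBlk (BK (S : Subgroup G) Q) L' V' → L' ≤ normalizer (Q : Set G) → L' ≤ M) :
    ∀ g ∈ normalizer (BK (S : Subgroup G) Q : Set G), OM.SwapV.BMH (nxt (S : Subgroup G) Q) (BK (S : Subgroup G) Q) M
      (centralizer (cj g (zc (S : Subgroup G)) : Set G)) :=
  (TQ.of_ltv h fr).bmh_of hq hN ho fun T Y hT hB hP hch hn hK' hZ => by
    obtain ⟨L', V', hL, hb, hle⟩ := h.wl.exists_fblk hT hB hP hch hn hK' hZ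
    have hYQ : Y ≤ normalizer (Q : Set G) := (le_normalizer_o2 Y).trans fun _ hy =>
      mem_normalizer_iff_cj.2 (OM.LevD.norm_of_wc h.wl.wc (isPGroup_o2 Y) hn hy)
    exact hle.trans (sup_le ((norm_of_wcB h.wl.wcB hT.2.1 hB).trans hN) (hF L' V' hb (hL.trans hYQ)))

/-- **`BMH` inside `C_G(Z^g)` at the level `(Q, V)`, `q ≥ 4`, the (K)-form**: `M` contains `C_G(Z_J)` and all
FF-blocks over `B` (`K0 ≤ M`) and `N_G(B)`; QWR is needed for the `F ≰ M` only. -/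
theorem bmh_ltvK (h : Sw.LtV S V Q)
    (fr : FrL (BK (S : Subgroup G) Q) Q V V (ZK (S : Subgroup G) Q) L W Z C A q) (hq : 4 ≤ q)
    (ho : OffQ S (BK (S : Subgroup G) Q) Q V (ZK (S : Subgroup G) Q) M)
    (hN : normalizer (BK (S : Subgroup G) Q : Set G) ≤ M)
    (hK : OM.LevD.K0 (ZK (S : Subgroup G) Q) (OM.LevB.FBlk (BK (S : Subgroup G) Q)) ≤ M) :
    ∀ g ∈ normalizer (BK (S : Subgroup G) Q : Set G), OM.SwapV.BMH (nxt (S : Subgroup G) Q) (BK (S : Subgroup G) Q) M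
      (centralizer (cj g (zc (S : Subgroup G)) : Set G)) :=
  (TQ.of_ltv h fr).bmh_of hq hN ho fun _ _ hT hB hP hch hn hK' hZ =>
    (h.wl.blkGen hT hB hP hch hn hK' hZ).trans
      (sup_le hK ((norm_of_wcB h.wl.wcB hT.2.1 hB).trans hN))

end ltv

end Cfsg.Agent.Omega.NOThreeL.QWR.LowQEnd
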