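import Cfsg.Agent.Omega.NOThreeL.QWR.Main
import Cfsg.Agent.Omega.NOThreeL.QWR.FrTop
import Cfsg.Agent.Omega.NOThreeL.QWR.Sw.Base

/-!
# THEOREM QW at the top level `(Q, V*)` in the form `OffR` (box R, one class, any `q`)

* `zz_eq`, `bb_eq` : the bridge between `QWR.{ZZ, BB}` and `SwapK.{ZK, BK}`;
* **`offR_of`** : `Sw.OffR S V* Q` from THEOREM QW, for one group `M ≥ C_G(Z_J), MZ S` with `⟨V*^F⟩ ≤ O₂(M)` for the pairs
  under `(neg)`.
-/

set_option autoImplicit false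
set_option linter.unusedSectionVars false

namespace Cfsg.Agent.Omega.NOThreeL.QWR

open Subgroup Cfsg Cfsg.Agent.ZN.ChoiceBase Cfsg.Agent.ZN.ChoiceSit Cfsg.Agent.Omega.MinPar Cfsg.Agent.Omega.Frame
open Cfsg.Agent.ZN (jj zc zl o2)
open Cfsg.Agent.Omega.FrameNOFF (CZ)
open Cfsg.Agent.MinSimple.MinParabolic (IsMinPar)
open Cfsg.Agent.MinSimple.VModule (oddGen)
open Cfsg.Agent.Omega.NO1.BestOff (Best)
open Cfsg.Agent.Omega.NO3b.EZero (cl)
open Cfsg.Agent.Omega.NO3S.CaseLW.QWc (Neg)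
open Cfsg.Agent.Omega.OM.SwapK (WL BK ZK)
open Cfsg.Agent.Omega.NO3S.Level (nxt Lev)
open Cfsg.Agent.Omega.NOThreeL.Merge (MZ)
open Cfsg.Agent.Omega.NOThreeL.RRed (Wd)
open Cfsg.Agent.Omega.NOThreeL.QWR.FrTop (QT)

universe u

variable {G : Type u} [Group G] [Finite G] {S : Sylow 2 G}

/-- `ZZ = ZK` at the level `(Q, V*)` -/
theorem zz_eq (hl : Lev (S : Subgroup G) (QT (S : Subgroup G))) (hz : zc (QT (S : Subgroup G)) = Wd (S : Subgroup G)) :
    ZZ (S : Subgroup G) (MZ (S : Subgroup G)) = ZK (S : Subgroup G) (QT (S : Subgroup G)) := by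
  rw [FrTop.zk_eq hl hz, ← FrTop.nxtX_zc, hz]
  rfl

/-- `BB = BK` at the level `(Q, V*)` -/
theorem bb_eq (hl : Lev (S : Subgroup G) (QT (S : Subgroup G))) (hz : zc (QT (S : Subgroup G)) = Wd (S : Subgroup G)) :
    BB (S : Subgroup G) (MZ (S : Subgroup G)) = BK (S : Subgroup G) (QT (S : Subgroup G)) := by
  unfold BB
  rw [zz_eq hl hz]
  rfl

/-- the pairs of `OffR` satisfy `WR` -/
theorem wr_of (rq : RQ S (MZ (S : Subgroup G))) (hl : Lev (S : Subgroup G) (QT (S : Subgroup G)))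
    (hz : zc (QT (S : Subgroup G)) = Wd (S : Subgroup G)) {T F : Subgroup G} (hT : Syl T F)
    (hB : BK (S : Subgroup G) (QT (S : Subgroup G)) ≤ T) (hTS : T ≤ (S : Subgroup G)) (hP : IsMinPar T F)
    (hch : F ⊓ centralizer (o2 F : Set G) ≤ o2 F) (hj : jj (S : Subgroup G) ≤ o2 F)
    (hQ : ¬ QT (S : Subgroup G) ≤ o2 F)
    (hmv : ¬ oddGen F ≤ centralizer (ZK (S : Subgroup G) (QT (S : Subgroup G)) : Set G)) :
    WR S (MZ (S : Subgroup G)) T F where
  rq := rq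
  TS := hTS
  QT := by
    refine le_trans ?_ hB
    rw [← bb_eq hl hz]
    exact inf_le_inf le_rfl (centralizer_le (by exact_mod_cast (inf_le_left :
      ZZ (S : Subgroup G) (MZ (S : Subgroup G)) ≤ zl (S : Subgroup G) (MZ (S : Subgroup G)))))
  syl := hT
  min := hP
  c2 := hch
  mvL := fun h => hmv (h.trans (centralizer_le (by
    have h1 : ZK (S : Subgroup G) (FrTop.QT (S : Subgroup G)) ≤ zl (S : Subgroup G) (MZ (S : Subgroup G)) := by
      rw [← zz_eq hl hz]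
      exact inf_le_left
    exact_mod_cast h1)))
  nQ := hQ
  jY := hj

/-- **THEOREM QW in the form of helper587's `OffR`.** -/
theorem offR_of (rq : RQ S (MZ (S : Subgroup G))) (hl : Lev (S : Subgroup G) (QT (S : Subgroup G)))
    (hz : zc (QT (S : Subgroup G)) = Wd (S : Subgroup G)) {M : Subgroup G}
    (hM : centralizer (ZK (S : Subgroup G) (QT (S : Subgroup G)) : Set G) ≤ M) (hP : MZ (S : Subgroup G) ≤ M)
    (hUM : ∀ T F : Subgroup G, WR S (MZ (S : Subgroup G)) T F → BB (S : Subgroup G) (MZ (S : Subgroup G)) ≤ T →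
      F ≤ CZ (S : Subgroup G) → ¬ oddGen F ≤ centralizer (ZZ (S : Subgroup G) (MZ (S : Subgroup G)) : Set G) →
      Neg T F (cl (Wd (S : Subgroup G)) F) → cl (Wd (S : Subgroup G)) F ≤ o2 M) :
    Sw.OffR S (Wd (S : Subgroup G)) (QT (S : Subgroup G)) := by
  intro T F hT hB hTS hmin hch hF hj hQ hmv
  have h := wr_of rq hl hz hT hB hTS hmin hch hj hQ hmv
  have hB' : BB (S : Subgroup G) (MZ (S : Subgroup G)) ≤ T := (bb_eq hl hz).le.trans hB
  have hmv' : ¬ oddGen F ≤ centralizer (ZZ (S : Subgroup G) (MZ (S : Subgroup G)) : Set G) := by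
    rwa [zz_eq hl hz]
  obtain ⟨A, h1, h2, -, h3⟩ := exists_best_odd h hB' (M := M) (by rwa [zz_eq hl hz]) hP hmv'
    (hUM T F h hB' hF hmv')
  exact ⟨A, h1, h2, h3⟩

end Cfsg.Agent.Omega.NOThreeL.QWR
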