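import Cfsg.Agent.Omega.NOThreeL.QWR.GlueQ
import Cfsg.Agent.Omega.NOThreeL.QWR.OffOf

/-!
# NO-3L, box R, one class, top level `(Q, V*)`, `q ≥ 4`: the local case, from THEOREM QW

* **`top_false_q`** : no local group `M ≥ C_G(Z_J), MZ S, N_G(B)` with `NQ S Q M` and `⟨V*^F⟩ ≤ O₂(M)` for all
  `F ≤ C_G(Z)` exists;
* `top_false_nV` : the same with `N_G(V*) ≤ M`; `top_false_blk` : with the FF-blocks over `B` which normalise `Q` in `M`.
-/

set_option autoImplicit false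
set_option linter.unusedSectionVars false

namespace Cfsg.Agent.Omega.NOThreeL.QWR.GlueQ

open Subgroup Cfsg Cfsg.Agent.ZN.ChoiceBase Cfsg.Agent.ZN.ChoiceSit Cfsg.Agent.Omega.MinPar Cfsg.Agent.Omega.Frame
open Cfsg.Agent.ZN (jj zj bau zc zl o2)
open Cfsg.Agent.Omega.FrameNOFF (CZ)
open Cfsg.Agent.Omega.NO3b.EZero (cl)
open Cfsg.Agent.Omega.NO3S.Level (lev Lev nxt)
open Cfsg.Agent.Omega.OM.SwapK (WL BK ZK)
open Cfsg.Agent.Omega.NOThreeL.RTree (RB)
open Cfsg.Agent.Omega.NOThreeL.Merge (MZ)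
open Cfsg.Agent.Omega.NOThreeL.RRed (Wd)
open Cfsg.Agent.Omega.NOThreeL.RRed.QFr.Top (Qv TopH TopQ)

universe u

variable {G : Type u} [Group G] [Finite G] {ι : Type} [Finite ι] {S : Sylow 2 G} {M : Subgroup G}
  {L W Z C A : ι → Subgroup G} {q : ℕ}

/-- **The local case at the top level, `q ≥ 4`, is impossible.** -/
theorem top_false_q [Nonempty ι] (B : RB S) (rq : RQ S (MZ (S : Subgroup G))) (th : TopH S)
    (tq : TopQ S L W Z C A q) (hq : 4 ≤ q) (hl : IsLoc (S : Subgroup G) M)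
    (hD : centralizer (ZK (S : Subgroup G) (Qv S) : Set G) ≤ M) (hY : MZ (S : Subgroup G) ≤ M)
    (hN : normalizer (BK (S : Subgroup G) (Qv S) : Set G) ≤ M) (nQ : NQ S (Qv S) M)
    (hU : ∀ F ≤ CZ (S : Subgroup G), cl (Wd (S : Subgroup G)) F ≤ o2 M) : False :=
  have hj : jj (S : Subgroup G) ≤ Qv S := rq.jQ
  false_top B th hj tq hq
    (offR_of rq (wl_of th hj).lev th.zc hD hY fun _ F _ _ hF _ _ => hU F hF) hl hD hY hN nQ

/-- The same with `N_G(V*) ≤ M`. -/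
theorem top_false_nV [Nonempty ι] (B : RB S) (rq : RQ S (MZ (S : Subgroup G))) (th : TopH S)
    (tq : TopQ S L W Z C A q) (hq : 4 ≤ q) (hl : IsLoc (S : Subgroup G) M)
    (nV : normalizer (Wd (S : Subgroup G) : Set G) ≤ M)
    (hD : centralizer (ZK (S : Subgroup G) (Qv S) : Set G) ≤ M)
    (hU : ∀ F ≤ CZ (S : Subgroup G), cl (Wd (S : Subgroup G)) F ≤ o2 M) : False := by
  have hj : jj (S : Subgroup G) ≤ Qv S := rq.jQ
  have wl := wl_of th hj
  have h1 : normalizer (Qv S : Set G) ≤ normalizer (Wd (S : Subgroup G) : Set G) := by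
    have h2 := NO3S.Level.normalizer_le_zc (Qv S)
    rwa [th.zc] at h2
  exact top_false_q B rq th tq hq hl hD (RRed.le_norm_Wd.trans nV) ((wl.norm_B.trans h1).trans nV)
    (nQ_of_norm wl (h1.trans nV)) hU

/-- The same with the FF-blocks over `B` which normalise `Q` (`KQ ≤ M`). -/
theorem top_false_blk [Nonempty ι] (B : RB S) (rq : RQ S (MZ (S : Subgroup G))) (th : TopH S)
    (tq : TopQ S L W Z C A q) (hq : 4 ≤ q) (hl : IsLoc (S : Subgroup G) M)
    (hD : centralizer (ZK (S : Subgroup G) (Qv S) : Set G) ≤ M) (hY : MZ (S : Subgroup G) ≤ M)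
    (hN : normalizer (BK (S : Subgroup G) (Qv S) : Set G) ≤ M)
    (hF : ∀ L' V' : Subgroup G, OM.LevB.FBlk (BK (S : Subgroup G) (Qv S)) L' V' →
      L' ≤ normalizer (Qv S : Set G) → L' ≤ M)
    (hU : ∀ F ≤ CZ (S : Subgroup G), cl (Wd (S : Subgroup G)) F ≤ o2 M) : False :=
  top_false_q B rq th tq hq hl hD hY hN (nQ_of_blk (wl_of th rq.jQ) hN hF) hU

end Cfsg.Agent.Omega.NOThreeL.QWR.GlueQ
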