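import Cfsg.Agent.Omega.NO3S.CaseLW.Lam
import Cfsg.Agent.Omega.NO3S.CaseLW.YBX
import Cfsg.Agent.Omega.OM.Lev.Low.LowMain

/-!
# THEOREM LAMBDA without a frame for `P` (box R, level `(Q, V*)`)

`fr : FrL B Q V X₀ Z_J L W Z C A 2` (natural `SL₂(2)`-blocks), `B ≤ T` Sylow in the minimal parabolic `Y` of
characteristic 2, `Y ≤ C_G(c)`, `c ∈ Z_J` of full support, `Ω₁Z(T) ≤ Z_J`, `T ≤ N(Q)`.

* **`low_pure`** : `U ≥ V` elementary abelian, `Y`-invariant, `C_U(Q) ≤ V`, all best offenders of `T` on `U` in `B`, one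
  of them not in `O₂(Y)`: `Y` centralises `Ω₁Z(T)`;
* **`low_lev`** : some `lev S j ≰ O₂(Y)`, `lev S j ≤ Q`, `V ≤ Ω₁Z(lev S j)`: `Y` centralises `Ω₁Z(T)`.
-/

set_option autoImplicit false
set_option linter.unusedSectionVars false

namespace Cfsg.Agent.Omega.NOThreeL.QWR.LamPure

open Subgroup Cfsg Cfsg.Agent.ZN.ChoiceBase Cfsg.Agent.ZN.ChoiceSit
open Cfsg.Agent.ZN (jj zj bau zc zl o2)
open Cfsg.Agent.MinSimple.MinParabolic (IsMinPar)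
open Cfsg.Agent.Omega.OM.GLev
open Cfsg.Agent.Omega.OM.Lev.Uni (FrL)
open Cfsg.Agent.Omega.OM.Lev.Low
open Cfsg.Agent.Omega.NO1.BestOff (Best)
open Cfsg.Agent.Omega.NO3S.Level
open Cfsg.Agent.Omega.NO3S.OneLine (bo bo_fam elemM_mono)
open Cfsg.Agent.Omega.FFThm (NatKM SymKM OffM)
open Cfsg.Agent.Omega.NO3S.CaseLW.Lam (YD core)
open Cfsg.Agent.Omega.SQ1.Bau (elem_comm elem_sq)

universe u

variable {G : Type u} [Group G] [Finite G] {ι : Type*} [Finite ι]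
  {B Q V X₀ ZJ : Subgroup G} {L W Z C A : ι → Subgroup G} {T Y U : Subgroup G}

/-- `QV` -/
theorem qv_of (fr : FrL B Q V X₀ ZJ L W Z C A 2) (hT : IsPGroup 2 T) (hBT : B ≤ T)
    (hTQ : T ≤ normalizer (Q : Set G)) {X : Subgroup G}
    (hXQ : ∀ x ∈ X, (∀ y ∈ Q, y * x = x * y) → x ∈ V) : YB.QV T X Q (V ⊓ X) where
  QT := fr.QB.trans hBT
  TQ := hTQ
  mem := by
    intro x
    constructor
    · exact fun hx => ⟨hx.2, fun q hq => fr.cQ hq hx.1⟩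
    · rintro ⟨hx, hxQ⟩
      exact ⟨hXQ x hx fun y hy => hxQ y hy, hx⟩
  two := hT

/-- **THEOREM LAMBDA**, pure form. -/
theorem low_pure (fr : FrL B Q V X₀ ZJ L W Z C A 2) {c : G} (hc : c ∈ ZJ) (hcf : ∀ i, c ∉ C i) (hT : Syl T Y)
    (hBT : B ≤ T) (hP : IsMinPar T Y) (hch : Y ⊓ centralizer (o2 Y : Set G) ≤ o2 Y)
    (hYc : Y ≤ centralizer ({c} : Set G)) (hzT : zc T ≤ ZJ) (hTQ : T ≤ normalizer (Q : Set G))
    (hel : IsElementaryAbelian 2 U) (hUn : Y ≤ normalizer (U : Set G)) (hVU : V ≤ U) (hUT : U ≤ T)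
    (hUQ : ∀ x ∈ U, (∀ y ∈ Q, y * x = x * y) → x ∈ V)
    (hAB : ∀ A ≤ T, Best U A → A ≤ B) (hoff : ∃ A ≤ T, Best U A ∧ ¬ A ≤ o2 Y) :
    Y ≤ centralizer (zc T : Set G) := by
  by_contra hZ
  have hJU : ZJ ≤ U := fun x hx => hVU (fr.ZJV hx)
  have hzU : zl T Y ≤ U := ZN.zl_le (hzT.trans hJU) hUn
  have hQC := OM.BlkGen.inf_cent hT hP hZ
  obtain ⟨A₁, hA₁T, hb₁, hA₁O⟩ := hoff
  have hA₁ : A₁ ∈ bo T U := ⟨hA₁T, hb₁.toElemM, fun B h1 h2 => hb₁.max B h2 h1⟩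
  have hoffM : OffM (zl T Y) A₁ :=
    { toElemM := elemM_mono hb₁.toElemM hzU le_rfl
      ne := fun h1 => hA₁O ((le_inf hA₁T h1).trans hQC)
      le := (bo_fam T U).off (elem_comm hel) hzU hA₁ }
  obtain ⟨hno, hcon⟩ := FF.Glob.ffthmM G T Y hT hP hch ⟨A₁, hA₁T.trans hT.1, hoffM⟩
  have ge : GE T Y U (bo T U) :=
    { hm := SQ1.FFOne.minH_of hT hP hch
      fam := bo_fam T U
      elem := hel
      norm := hUn
      VX := hzU
      QC := hQC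
      noOver := hno }
  have hAB' : ∀ A ∈ bo T U, A ≤ B := fun A hA =>
    hAB A hA.1 { toElemM := hA.2.1, max := fun B h1 h2 => hA.2.2 B h2 h1 }
  obtain ⟨Λ, _, N, c', yx⟩ := NO3S.CaseLW.YBX.exists_ybx ge hUT hcon ⟨A₁, hA₁, hA₁O⟩ hZ
  have yd : YD T Y U (bo T U) N c' := ⟨yx.yb, yx.ex, fun x hx => yx.cen x hx.1, yx.com⟩
  obtain ⟨l, hll⟩ := yd.mv
  have hV := qv_of fr hT.2.1 hBT hTQ (X := U ⊓ centralizer ((sSup (bo T U) : Subgroup G) : Set G))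
    fun x hx => hUQ x hx.1
  have h1 := core fr ge hBT hVU hAB' yd hV hc hcf
    (fun y hy => mem_centralizer_singleton_iff.1 (hYc hy)) l
  exact hll (hzT.trans h1)

/-- **LAMBDA at the levels** (`LL` inside `C_G(c)`), pure form. -/
theorem low_lev (fr : FrL B Q V X₀ ZJ L W Z C A 2) {c : G} (hc : c ∈ ZJ) (hcf : ∀ i, c ∉ C i) (hT : Syl T Y)
    (hBT : B ≤ T) (hP : IsMinPar T Y) (hch : Y ⊓ centralizer (o2 Y : Set G) ≤ o2 Y)
    (hYc : Y ≤ centralizer ({c} : Set G)) (hzT : zc T ≤ ZJ) (hTQ : T ≤ normalizer (Q : Set G))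
    (S : Sylow 2 G) (hBL : ∀ j, OM.LevB.BL (S : Subgroup G) j ≤ T)
    (hVX : ∀ j, V ≤ zc (lev (S : Subgroup G) j)) (hzQ : ∀ j, lev (S : Subgroup G) j ≤ Q) {n : ℕ}
    (hn : ¬ lev (S : Subgroup G) n ≤ o2 Y) : Y ≤ centralizer (zc T : Set G) := by
  by_contra hZ
  obtain ⟨j, -, hlow, hnj⟩ := exists_stg (S : Subgroup G) hn
  obtain ⟨Λ, _, N, c', hy, ⟨l, hl⟩, hcN⟩ := exists_ybj_cent S hT (hBL j) hP hch hlow hnj hZ
  have hV := qv_of fr hT.2.1 hBT hTQ (X := zc (lev (S : Subgroup G) j))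
    fun x hx h1 => fr.zcQ x (hzQ j (zc_le _ hx)) (mem_zc.1 hx).2.1 fun y hy => (h1 y hy).symm
  rw [inf_eq_left.2 (hVX j)] at hV
  have hcX : c ∈ zc (lev (S : Subgroup G) j) := hV.VX (fr.ZJV hc)
  have h1 := no_low_two fr hy hV hBT hc hcf
    (hcN c hcX fun y hy' => mem_centralizer_singleton_iff.1 (hYc hy')) l
  exact hl (hzT.trans h1)

end Cfsg.Agent.Omega.NOThreeL.QWR.LamPure
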