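import Cfsg.Agent.Omega.NOThreeL.QWR.LamPure
import Cfsg.Agent.Omega.OM.SwapK.OffW
import Cfsg.Agent.Omega.OM.SwapT.LowFin

/-!
# LAMBDA at the weakly closed level `(Q, V)` (box R, `V = V*`, `Q = C_S(V*)`), `q = 2`

`wl : WL S Q`, `Ω₁Z(Q) = V`, `lim S ≤ Q`, `FrL (BK S Q) Q V X₀ (ZK S Q) L W Z C A 2`, `c ∈ ZK S Q` of full support,
`Y ≤ C_G(c)` a minimal parabolic of characteristic 2 over `T ≥ BK S Q`.

* **`low_offQ`** (the literal `LowOff` of helper111) : `lim S ≤ O₂(Y)`, some best offender of `T` on `⟨V^Y⟩` is not in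
  `O₂(Y)` : `Y ≤ C_G(Ω₁Z(T))`;
* **`low_finQ`** : `lim S ≰ O₂(Y)` : `Y ≤ C_G(Ω₁Z(T))`.
-/

set_option autoImplicit false
set_option linter.unusedSectionVars false

namespace Cfsg.Agent.Omega.NOThreeL.QWR.LamPure

open Subgroup Cfsg Cfsg.Agent.ZN.ChoiceBase Cfsg.Agent.ZN.ChoiceSit
open Cfsg.Agent.ZN (jj zj bau zc zl o2)
open Cfsg.Agent.MinSimple.MinParabolic (IsMinPar)
open Cfsg.Agent.Omega.OM.Lev.Uni (FrL)
open Cfsg.Agent.Omega.NO1.BestOff (Best)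
open Cfsg.Agent.Omega.NO3S.Level
open Cfsg.Agent.Omega.OM.SwapK (WL BK ZK best_of_le norm_lim_of)

universe u

variable {G : Type u} [Group G] [Finite G] {S : Sylow 2 G} {ι : Type} [Finite ι] {Q V X₀ : Subgroup G}
  {L W Z C A : ι → Subgroup G}

omit [Finite ι] in
theorem V_le_cl {V Y : Subgroup G} : V ≤ NoFF.Basic.V V Y := by
  have h1 := NoFF.Basic.Z_le_V (Z := V) (one_mem Y)
  rwa [map_one, one_smul] at h1

/-- `⟨V^Y⟩ ≤ Ω₁Z(lim S)` -/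
theorem cl_le_lim (wl : WL S Q) (zcQ : zc Q = V) (hlim : lim (S : Subgroup G) ≤ Q) {Y : Subgroup G}
    (hl : lim (S : Subgroup G) ≤ o2 Y) : NoFF.Basic.V V Y ≤ zc (lim (S : Subgroup G)) :=
  NoFF.Basic.V_le fun f hf => by
    have h0 : V ≤ zc (lim (S : Subgroup G)) := by
      rw [← zcQ]
      exact (isLev_lim (S : Subgroup G)).zc_le_zc hlim wl.wc.le
    have h1 := cj_mono f h0
    rwa [cj_eq_of_mem_normalizer (normalizer_le_zc _ (norm_lim_of S hl hf))] at h1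

/-- **LAMBDA at `(Q, V)`**, infinite stage. -/
theorem low_offQ (wl : WL S Q) (zcQ : zc Q = V)
    (fr : FrL (BK (S : Subgroup G) Q) Q V X₀ (ZK (S : Subgroup G) Q) L W Z C A 2)
    (hlim : lim (S : Subgroup G) ≤ Q) {T Y : Subgroup G} {c : G} (hT : Syl T Y)
    (hB : BK (S : Subgroup G) Q ≤ T) (hP : IsMinPar T Y) (hch : Y ⊓ centralizer (o2 Y : Set G) ≤ o2 Y)
    (hl : lim (S : Subgroup G) ≤ o2 Y) (hc : c ∈ ZK (S : Subgroup G) Q) (hcf : ∀ i, c ∉ C i)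
    (hYc : Y ≤ centralizer ({c} : Set G))
    (hoff : ∃ A ≤ T, Best (NoFF.Basic.V V Y) A ∧ ¬ A ≤ o2 Y) : Y ≤ centralizer (zc T : Set G) := by
  have hUlim := cl_le_lim wl zcQ hlim hl
  have hel : IsElementaryAbelian 2 (NoFF.Basic.V V Y) :=
    ⟨⟨⟨fun a b => Subtype.ext (NO3S.Level.Lev.zc_comm (hUlim a.2) (hUlim b.2))⟩⟩, fun a ha => (mem_zc.1 (hUlim ha)).2.1⟩
  have hUQ : NoFF.Basic.V V Y ≤ Q := (hUlim.trans (zc_le _)).trans hlim
  have hQT : Q ≤ T := fr.QB.trans hB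
  refine low_pure fr hc hcf hT hB hP hch hYc
    ((OM.SwapT.lev_T (wc_nxt wl.wc) wl.lev.next hT.2.1 (wl.lb.KB.trans hB)).zc_le)
    ((wl.lb.two_le hT.2.1 hB).trans (OM.SwapT.norm_K wl.wc)) hel OmThm.XD.X_le_normalizer_W V_le_cl
    (hUQ.trans hQT) (fun x hx h1 => ?_) (fun A hA hb => ?_) hoff
  · rw [← zcQ]
    exact mem_zc.2 ⟨hUQ hx, (mem_zc.1 (hUlim hx)).2.1, fun y hy => h1 y hy⟩
  · have hb' : Best (zc Q) A := best_of_le (SQ1.Bau.elem_comm hel) hb (zcQ.trans_le V_le_cl)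
    exact (wl.le_nxt_of_best hT.2.1 (wl.lb.KB.trans hB) hA hb').trans wl.lb.KB

/-- **LAMBDA at `(Q, V)`**, finite stages. -/
theorem low_finQ (wl : WL S Q)
    (fr : FrL (BK (S : Subgroup G) Q) Q V (zc Q) (ZK (S : Subgroup G) Q) L W Z C A 2)
    (hlim : lim (S : Subgroup G) ≤ Q) {T Y : Subgroup G} {c : G} (hT : Syl T Y)
    (hB : BK (S : Subgroup G) Q ≤ T) (hP : IsMinPar T Y) (hch : Y ⊓ centralizer (o2 Y : Set G) ≤ o2 Y)
    (hl : ¬ lim (S : Subgroup G) ≤ o2 Y) (hc : c ∈ ZK (S : Subgroup G) Q) (hcf : ∀ i, c ∉ C i)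
    (hYc : Y ≤ centralizer ({c} : Set G)) : Y ≤ centralizer (zc T : Set G) :=
  OM.SwapT.LowFin.low_two wl.wc wl.lev (n := Nat.card G) (fun j _ => (lev_le_lim _ j).trans hlim) fr hc hcf hT hB hP hYc
    hch hl

end Cfsg.Agent.Omega.NOThreeL.QWR.LamPure
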