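import Cfsg.Agent.Omega.NO3S.CaseLW.LamQ.Main
import Cfsg.Agent.Omega.NO3S.CaseLW.LamQ.Nat
import Cfsg.Agent.Omega.NO3S.CaseLW.LamQ.Sym
import Cfsg.Agent.Omega.NO3S.CaseLW.LamEnd

/-!
# THEOREM LAMBDA for `q ≥ 4` over a frame `FrL` alone (box R, level `(Q, V*)`)

Port of `CaseLW/LamQ/{Frm, End}.lean` (helper653, helper359) to a frame `FrL B Q V X Z_J L W Z C A q` without `P`:

* **`low_off`** : a minimal parabolic `Y ≤ C_G(c)` over `T ≥ B`, `c ∈ Z_J` of full support, with one best offender of `T`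
  on an elementary abelian normal subgroup `U ≥ V` outside `O₂(Y)`, centralises `Ω₁Z(T)`.
-/

set_option autoImplicit false
set_option linter.unusedSectionVars false

namespace Cfsg.Agent.Omega.NOThreeL.QWR.LowQ

open Subgroup Cfsg Cfsg.Agent.ZN.ChoiceBase Cfsg.Agent.ZN.ChoiceSit
open Cfsg.Agent.ZN (jj zj bau zc zl o2)
open Cfsg.Agent.MinSimple.MinParabolic (IsMinPar)
open Cfsg.Agent.Omega.OM.GLev
open Cfsg.Agent.Omega.OM.Lev.Uni (FrL)
open Cfsg.Agent.Omega.NO1.BestOff (Best)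
open Cfsg.Agent.Omega.NO3S.OneLine (bo bo_fam elemM_mono)
open Cfsg.Agent.Omega.FFThm (NatKM SymKM OffM)
open Cfsg.Agent.Omega.NO3S.CaseLW.LamQ (YX Su yx_nat yx_sym main)
open Cfsg.Agent.Omega.SQ1.Bau (elem_comm elem_sq)

universe u

variable {G : Type u} [Group G] [Finite G]

/-- **THEOREM LAMBDA, `q ≥ 4`**, over `FrL`, from one best offender, inside `C_G(c)`. -/
theorem low_off {ι : Type*} [Finite ι] {B Q V X ZJ : Subgroup G} {L W Z C A : ι → Subgroup G} {q : ℕ}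
    {T Y U : Subgroup G} {c : G} (fr : FrL B Q V X ZJ L W Z C A q) (hq : 4 ≤ q) (hc : c ∈ ZJ) (hcf : ∀ i, c ∉ C i)
    (hT : Syl T Y) (hB : B ≤ T) (hP : IsMinPar T Y) (hYc : Y ≤ centralizer ({c} : Set G))
    (hch : Y ⊓ centralizer (o2 Y : Set G) ≤ o2 Y) (hU : IsElementaryAbelian 2 U)
    (hUn : Y ≤ normalizer (U : Set G)) (hVU : V ≤ U) (hUT : U ≤ T) (hTQ : T ≤ normalizer (Q : Set G))
    (hcX : ∀ x ∈ U, (∀ y ∈ Q, y * x = x * y) → x ∈ V) (hzT : zc T ≤ ZJ)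
    (hAB : ∀ A' : Subgroup G, A' ≤ T → Best U A' → A' ≤ B)
    (hoff : ∃ A' : Subgroup G, A' ≤ T ∧ Best U A' ∧ ¬ A' ≤ o2 Y) : Y ≤ centralizer (zc T : Set G) := by
  by_contra hZ
  have hJU : ZJ ≤ U := fun x hx => hVU (fr.ZJV hx)
  have hzU : zl T Y ≤ U := ZN.zl_le (hzT.trans hJU) hUn
  have hQC := OM.BlkGen.inf_cent hT hP hZ
  obtain ⟨A₁, hA₁T, hb₁, hA₁O⟩ := hoff
  have hA₁ : A₁ ∈ bo T U := ⟨hA₁T, hb₁.toElemM, fun B h1 h2 => hb₁.max B h2 h1⟩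
  have hoffM : OffM (zl T Y) A₁ :=
    { toElemM := elemM_mono hb₁.toElemM hzU le_rfl
      ne := fun h1 => hA₁O ((le_inf hA₁T h1).trans hQC)
      le := (bo_fam T U).off (elem_comm hU) hzU hA₁ }
  obtain ⟨hno, hcon⟩ := FF.Glob.ffthmM G T Y hT hP hch ⟨A₁, hA₁T.trans hT.1, hoffM⟩
  have ge : GE T Y U (bo T U) :=
    { hm := SQ1.FFOne.minH_of hT hP hch
      fam := bo_fam T U
      elem := hU
      norm := hUn
      VX := hzU
      QC := hQC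
      noOver := hno }
  have s : Su B Q V ZJ T Y U (bo T U) :=
    { ge := ge
      BT := hB
      VX := hVU
      AB := fun A' hA' => hAB A' hA'.1 { toElemM := hA'.2.1, max := fun B h1 h2 => hA'.2.2 B h2 h1 }
      TQ := hTQ
      cX := hcX }
  have hex : ∃ A' ∈ bo T U, ¬ A' ≤ o2 Y := ⟨A₁, hA₁, hA₁O⟩
  obtain ⟨Λ, _, N', c', E, y⟩ : ∃ (Λ : Type) (_ : Finite Λ) (N' c' E : Λ → Subgroup G),
      YX T Y U (bo T U) N' c' E q := by
    rcases hcon with ⟨F, _, _, _, k', hk, ⟨N⟩⟩ | ⟨k', m, hk, hm, ⟨N⟩⟩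
    · obtain ⟨N', c', E, y⟩ := yx_nat ge N hk hex q
      exact ⟨Fin k', inferInstance, N', c', E, y⟩
    · exact yx_sym ge hUT N hk (by omega) hex q
  exact hZ (main fr hq s y hc hcf (fun y hy => mem_centralizer_singleton_iff.1 (hYc hy)) hzT)

end Cfsg.Agent.Omega.NOThreeL.QWR.LowQ
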