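import Cfsg.Agent.Omega.OM.SwapV.LowZ
import Cfsg.Agent.Omega.OM.Lev.Low.LowMain
import Cfsg.Agent.Omega.OM.Lev.Low.FrTwo

/-!
# LAMBDA over the level `(Q, V)`: the finite stages

`FrL B Q V X Z_J`, `lev S n ≤ Q ≤ S`, `S ∩ C(Z_J) ≤ B ≤ T ≤ N(Q)`, `Ω₁Z(T) ≤ Z_J`, `Y` a minimal parabolic of
characteristic 2 over `T`, `lim S ≰ O₂(Y)`.

* `V_le` : `V ≤ Ω₁Z(lev S j)`; `BL_le` : `BL S j ≤ B`; `qv` : `QV T (Ω₁Z(lev S j)) Q V`;
* **`low_fin`** : `q > 2`: `Y` centralises `Ω₁Z(T)`;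
* **`low_fin_two`** : `q = 2` and `Y` centralises some `c ∈ Z_J` of full support: `Y` centralises `Ω₁Z(T)`.
-/

set_option autoImplicit false
set_option linter.unusedSectionVars false

namespace Cfsg.Agent.Omega.NOThreeL.QWR.LowQFin

open Subgroup Cfsg Cfsg.Agent.ZN.ChoiceBase Cfsg.Agent.ZN.ChoiceSit
open Cfsg.Agent.ZN (jj zj bau zc zl o2)
open Cfsg.Agent.MinSimple.MinParabolic (IsMinPar)
open Cfsg.Agent.Omega.NO3S.Level
open Cfsg.Agent.Omega.OM.Lev.Uni (FrL)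
open Cfsg.Agent.Omega.OM.Lev.Low

universe u

variable {G : Type u} [Group G] [Finite G] {ι : Type} [Finite ι] {S : Sylow 2 G} {B Q V X ZJ : Subgroup G}
  {L W Z C A : ι → Subgroup G} {q : ℕ}

theorem V_le_zcQ (fr : FrL B Q V X ZJ L W Z C A q) : V ≤ zc Q := fun x hx =>
  mem_zc.2 ⟨fr.VQ hx, SQ1.Bau.elem_sq fr.elX x (fr.VX hx), fun _ hy => fr.cQ hy hx⟩

theorem V_le (fr : FrL B Q V X ZJ L W Z C A q) (hQ : ∀ j, lev (S : Subgroup G) j ≤ Q) (QS : Q ≤ (S : Subgroup G))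
    (j : ℕ) : V ≤ zc (lev (S : Subgroup G) j) :=
  (V_le_zcQ fr).trans ((lev_isLev (S : Subgroup G) j).zc_le_zc (hQ j) QS)

theorem BL_le (fr : FrL B Q V X ZJ L W Z C A q) (hQ : ∀ j, lev (S : Subgroup G) j ≤ Q) (QS : Q ≤ (S : Subgroup G))
    (hBS : (S : Subgroup G) ⊓ centralizer (ZJ : Set G) ≤ B) (j : ℕ) : OM.LevB.BL (S : Subgroup G) j ≤ B := by
  refine le_trans (inf_le_inf_left _ (centralizer_le ?_)) hBS
  exact_mod_cast (fun x hx => V_le fr hQ QS j (fr.ZJV hx) : ZJ ≤ zc (lev (S : Subgroup G) j))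

/-- **`QV`** -/
theorem qv (fr : FrL B Q V X ZJ L W Z C A q) (hQ : ∀ j, lev (S : Subgroup G) j ≤ Q) (QS : Q ≤ (S : Subgroup G))
    {T : Subgroup G} (hT : IsPGroup 2 T) (hB : B ≤ T) (TQ : T ≤ normalizer (Q : Set G)) (j : ℕ) :
    YB.QV T (zc (lev (S : Subgroup G) j)) Q V where
  QT := fr.QB.trans hB
  TQ := TQ
  mem := by
    intro x
    constructor
    · exact fun hx => ⟨V_le fr hQ QS j hx, fun q hq => fr.cQ hq hx⟩
    · rintro ⟨hx, hxQ⟩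
      exact fr.zcQ x (hQ j (mem_zc.1 hx).1) (mem_zc.1 hx).2.1 fun y hy => (hxQ y hy).symm
  two := hT

/-- **finite stages, `q > 2`** -/
theorem low_fin (fr : FrL B Q V X ZJ L W Z C A q) (hq : 2 < q) (hQ : ∀ j, lev (S : Subgroup G) j ≤ Q)
    (QS : Q ≤ (S : Subgroup G)) (hBS : (S : Subgroup G) ⊓ centralizer (ZJ : Set G) ≤ B) {T Y : Subgroup G}
    (hT : Syl T Y) (hB : B ≤ T) (TQ : T ≤ normalizer (Q : Set G)) (zT : zc T ≤ ZJ) (hP : IsMinPar T Y)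
    (hc : Y ⊓ centralizer (o2 Y : Set G) ≤ o2 Y) (hn : ¬ lim (S : Subgroup G) ≤ o2 Y) :
    Y ≤ centralizer (zc T : Set G) := by
  by_contra hZ
  obtain ⟨j, -, hlow, hnj⟩ := exists_stg (S : Subgroup G) (n := Nat.card G) hn
  obtain ⟨Λ, _, N, c', hy, l, hl⟩ := exists_ybj S hT ((BL_le fr hQ QS hBS j).trans hB) hP hc hlow hnj hZ
  have h1 := no_low fr hq hy (qv fr hQ QS hT.2.1 hB TQ j) hB l
  exact hl (zT.trans h1)

/-- **finite stages, `q = 2`, inside `C_G(c)`** -/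
theorem low_fin_two (fr : FrL B Q V X ZJ L W Z C A 2) (hQ : ∀ j, lev (S : Subgroup G) j ≤ Q)
    (QS : Q ≤ (S : Subgroup G)) (hBS : (S : Subgroup G) ⊓ centralizer (ZJ : Set G) ≤ B) {T Y : Subgroup G}
    (hT : Syl T Y) (hB : B ≤ T) (TQ : T ≤ normalizer (Q : Set G)) (zT : zc T ≤ ZJ) (hP : IsMinPar T Y)
    (hc : Y ⊓ centralizer (o2 Y : Set G) ≤ o2 Y) {c : G} (hcZ : c ∈ ZJ) (hcf : ∀ i, c ∉ C i)
    (hYc : ∀ y ∈ Y, y * c = c * y) (hn : ¬ lim (S : Subgroup G) ≤ o2 Y) :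
    Y ≤ centralizer (zc T : Set G) := by
  by_contra hZ
  obtain ⟨j, -, hlow, hnj⟩ := exists_stg (S : Subgroup G) (n := Nat.card G) hn
  obtain ⟨Λ, _, N, c', hy, ⟨l, hl⟩, hcN⟩ :=
    exists_ybj_cent S hT ((BL_le fr hQ QS hBS j).trans hB) hP hc hlow hnj hZ
  have hV := qv fr hQ QS hT.2.1 hB TQ j
  have h1 := no_low_two fr hy hV hB hcZ hcf (hcN c (hV.VX (fr.ZJV hcZ)) hYc) l
  exact hl (zT.trans h1)

end Cfsg.Agent.Omega.NOThreeL.QWR.LowQFin
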