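import Cfsg.Agent.Omega.NOThreeL.RRed.FourNoK2
import Cfsg.Agent.Omega.NOThreeL.RRed.FourPermN
import Cfsg.Agent.Omega.NOThreeL.RRed.TvKind
import Cfsg.Agent.Omega.NOThreeL.RZ.TwoC.FrEOf
import Cfsg.Agent.Omega.NOThreeL.RRed.WideTree

/-!
# Box R: `V* ≤ O₂(C_G(Z))` from the blocks

* `centre_low` : the centre of a transvection which moves `Z` lies in `O₂(C_G(Z))` (`|Z| ≥ 4` because some
  `P ∈ P*(S)` has `C_Z(P) ≠ 1`);
* **`low_bks`** : `V* ≤ O₂(C_G(Z))` for `𝔽₂`-blocks (`Bks S N E ⊥ Om phi`), any number of orbits;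
* **`low_src`** : `V* ≤ O₂(C_G(Z))` for natural blocks (`Src`).
-/

set_option autoImplicit false
set_option linter.unusedSectionVars false

namespace Cfsg.Agent.Omega.NOThreeL.QWR.LowW

open Subgroup Cfsg Cfsg.Agent.Omega.MinPar Cfsg.Agent.Omega.Frame Cfsg.Agent.Omega.FrameNOFF
open Cfsg.Agent.ZN (o2 zc zl jj)
open Cfsg.Agent.Omega.Node.NO3L Cfsg.Agent.Omega.NOThreeL.Basic
open Cfsg.Agent.Omega.NOThreeL.RTree (RB)
open Cfsg.Agent.Omega.NOThreeL.Merge (MZ le_MZ S_le_MZ isLoc_MZ nonLoc_MZ)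
open Cfsg.Agent.Omega.NOThreeL.RRed (Wd zc_le_Wd wcomm wsq zc_of_fix WS)
open Cfsg.Agent.Omega.NOThreeL.RRed.TvFin (TvV)
open Cfsg.Agent.Omega.NOThreeL.RRed.Blk (Dec Co)
open Cfsg.Agent.Omega.NOThreeL.RRed.FourTree (Bks)
open Cfsg.Agent.Omega.NOThreeL.RRed.WideTree (NBs Src)
open Cfsg.Agent.Omega.KL.TwoS (Rel Lett)
open Cfsg.Agent.MinSimple.VModule (zc_le_zl le_normalizer_zl mem_zc)
open scoped Pointwise

universe u v

variable {G : Type u} [Group G] [Finite G] {S : Sylow 2 G}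

/-- A 2-group normalising a 2-group `Y ≠ 1` fixes an element `≠ 1` of `Y`. -/
theorem exists_fix {T Y : Subgroup G} (hT : IsPGroup 2 T) (hY : IsPGroup 2 Y) (hne : Y ≠ ⊥)
    (hn : T ≤ normalizer (Y : Set G)) : ∃ y ∈ Y, y ≠ 1 ∧ y ∈ centralizer (T : Set G) := by
  have : Fact (Nat.Prime 2) := ⟨Nat.prime_two⟩
  let a : MulAction T Y :=
    { smul := fun t y => ⟨t * y * (t : G)⁻¹, (mem_normalizer_iff.1 (hn t.2) y).1 y.2⟩
      one_smul := fun y => Subtype.ext (by change ((1 : T) : G) * y * ((1 : T) : G)⁻¹ = y; simp)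
      mul_smul := fun s t y => Subtype.ext (by
        change ((s * t : T) : G) * y * ((s * t : T) : G)⁻¹ = s * (t * y * (t : G)⁻¹) * (s : G)⁻¹
        rw [Subgroup.coe_mul]; group) }
  have hd : 2 ∣ Nat.card Y := by
    obtain ⟨n, hn⟩ := IsPGroup.iff_card.1 hY
    rcases Nat.eq_zero_or_pos n with h0 | h0
    · exact absurd (Subgroup.card_eq_one.1 (by rw [hn, h0, pow_zero])) hne
    · rw [hn]; exact dvd_pow_self 2 h0.ne'
  have h1 : (1 : Y) ∈ MulAction.fixedPoints T Y := by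
    rw [MulAction.mem_fixedPoints]
    intro t
    exact Subtype.ext (by change (t : G) * ((1 : Y) : G) * (t : G)⁻¹ = ((1 : Y) : G); simp)
  obtain ⟨b, hb, hb1⟩ := hT.exists_fixed_point_of_prime_dvd_card_of_fixed_point Y hd h1
  refine ⟨b, b.2, fun h0 => hb1 (Subtype.ext h0.symm), mem_centralizer_iff.2 fun t ht => ?_⟩
  have h2 : t * (b : G) * t⁻¹ = b := congrArg Subtype.val ((MulAction.mem_fixedPoints.1 hb) ⟨t, ht⟩)
  calc t * (b : G) = t * b * t⁻¹ * t := by group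
    _ = b * t := by rw [h2]

/-- two different non-trivial elements of `Z` -/
theorem exists_two (B : RB S) : ∃ z ∈ zc (S : Subgroup G), ∃ w ∈ zc (S : Subgroup G), z ≠ 1 ∧ w ≠ 1 ∧ z ≠ w := by
  obtain ⟨P, hP, hne⟩ := B.ex
  obtain ⟨z, hz1⟩ := Subgroup.ne_bot_iff_exists_ne_one.1 hne
  have hmv : ∃ w ∈ zc (S : Subgroup G), ¬ P ≤ centralizer ({w} : Set G) := by
    by_contra hcon
    push Not at hcon
    refine hP.not_zc fun p hp => centralizer_le_normalizer _ (mem_centralizer_iff.2 fun w hw => ?_)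
    exact mem_centralizer_iff.1 (hcon w hw hp) w rfl
  obtain ⟨w, hw, hwP⟩ := hmv
  refine ⟨z, z.2.1, w, hw, fun h => hz1 (Subtype.ext h), ?_, ?_⟩
  · rintro rfl
    exact hwP fun p _ => mem_centralizer_iff.2 fun x hx => by
      rw [Set.mem_singleton_iff.1 hx, one_mul, mul_one]
  · intro h
    refine hwP fun p hp => mem_centralizer_iff.2 fun x hx => ?_
    rw [Set.mem_singleton_iff.1 hx, ← h]
    exact (mem_centralizer_iff.1 z.2.2 p hp).symm

/-- **The centre of a transvection which moves `Z` lies in `O₂(C_G(Z))`.** -/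
theorem centre_low (B : RB S) {x c : G} (hx : TvV (Wd (S : Subgroup G)) c x)
    (hz : ∃ z ∈ zc (S : Subgroup G), x * z * x⁻¹ ≠ z) : c ∈ o2 (CZ (S : Subgroup G)) := by
  obtain ⟨z, hz, hzx⟩ := hz
  have hZW : zc (S : Subgroup G) ≤ Wd (S : Subgroup G) := zc_le_Wd _
  obtain ⟨z₁, hz₁, z₂, hz₂, h11, h21, h12⟩ := exists_two B
  -- a nontrivial element of `C_Z(x)`
  obtain ⟨e, he, he1, hex⟩ : ∃ e ∈ zc (S : Subgroup G), e ≠ 1 ∧ x * e * x⁻¹ = e := by
    rcases hx z₁ (hZW hz₁) with h1 | h1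
    · exact ⟨z₁, hz₁, h11, h1⟩
    rcases hx z₂ (hZW hz₂) with h2 | h2
    · exact ⟨z₂, hz₂, h21, h2⟩
    refine ⟨z₁ * z₂⁻¹, mul_mem hz₁ (inv_mem hz₂), fun h => h12 (mul_inv_eq_one.1 h), ?_⟩
    calc x * (z₁ * z₂⁻¹) * x⁻¹ = x * z₁ * x⁻¹ * (x * z₂ * x⁻¹)⁻¹ := by group
      _ = z₁ * c * (z₂ * c)⁻¹ := by rw [h1, h2]
      _ = z₁ * z₂⁻¹ := by group
  have hl := RZ.LowR.isLoc_cent he he1
  have hc : CZ (S : Subgroup G) ≤ centralizer ({e} : Set G) := centralizer_le (Set.singleton_subset_iff.2 he)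
  refine RZ.TwoC.FrEOf.zl_le_O B.ctx hl hc ?_
  have hxe : x ∈ centralizer ({e} : Set G) := by
    rw [mem_centralizer_singleton_iff]
    calc x * e = x * e * x⁻¹ * x := by group
      _ = e * x := by rw [hex]
  have h3 := (mem_normalizer_iff.1 (le_normalizer_zl (S : Subgroup G) _ hxe) z).1 (zc_le_zl _ _ hz)
  rcases hx z (hZW hz) with h4 | h4
  · exact absurd h4 hzx
  · rw [h4] at h3
    exact (Subgroup.mul_mem_cancel_left _ (zc_le_zl _ _ hz)).1 h3

section bks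

variable {I : Type u} [Finite I] {N E : I → Subgroup G} {Om : I → Type u} [∀ i, Fintype (Om i)]
  [∀ i, DecidableEq (Om i)] {phi : ∀ i, Finset (Om i) → G}

/-- every block is moved on `Z` -/
theorem exists_move (B : RB S) (hB : Bks S N E ⊥ Om phi) (b : I) :
    ∃ e ∈ E b, ∃ z ∈ zc (S : Subgroup G), e * z * e⁻¹ ≠ z := by
  classical
  have hD := hB.toDec
  by_contra hcon
  push Not at hcon
  set W : Subgroup G := ⨆ d : {d // ∃ g ∈ (S : Subgroup G), MulAut.conj g • N b = N d}, N d.1 with hW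
  have hWU : W ≤ Wd (S : Subgroup G) := iSup_le fun d => hD.NU d.1
  have hbW : N b ≤ W := le_iSup (fun d : {d // ∃ g ∈ (S : Subgroup G), MulAut.conj g • N b = N d} => N d.1)
    ⟨b, 1, one_mem _, by rw [map_one, one_smul]⟩
  have hWn : (S : Subgroup G) ≤ normalizer (W : Set G) := by
    have key : ∀ g ∈ (S : Subgroup G), MulAut.conj g • W ≤ W := by
      intro g hg
      rw [hW, show MulAut.conj g • (⨆ d : {d // ∃ g ∈ (S : Subgroup G), MulAut.conj g • N b = N d}, N d.1) =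
        ⨆ d : {d // ∃ g ∈ (S : Subgroup G), MulAut.conj g • N b = N d}, MulAut.conj g • N d.1 from Subgroup.map_iSup _ _]
      refine iSup_le fun d => ?_
      obtain ⟨k, hk, e⟩ := d.2
      obtain ⟨f, hf, -⟩ := hD.perm g (hD.SL hg) d.1
      rw [hf]
      refine le_iSup (fun d : {d // ∃ g ∈ (S : Subgroup G), MulAut.conj g • N b = N d} => N d.1)
        ⟨f, g * k, mul_mem hg hk, ?_⟩
      rw [map_mul, mul_smul, e, hf]
    intro g hg
    rw [mem_normalizer_iff]
    intro x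
    constructor
    · intro hx
      exact key g hg ⟨x, hx, rfl⟩
    · intro hx
      have h1 : g⁻¹ * (g * x * g⁻¹) * g⁻¹⁻¹ ∈ W := key g⁻¹ (inv_mem hg) ⟨_, hx, rfl⟩
      have e : g⁻¹ * (g * x * g⁻¹) * g⁻¹⁻¹ = x := by group
      rwa [e] at h1
  have hW1 : W ≠ ⊥ := fun h => hD.ne b (le_bot_iff.1 (h ▸ hbW))
  have hW2 : IsPGroup 2 W := S.isPGroup'.to_le (hWU.trans (WS B))
  obtain ⟨z, hz, hz1, hzS⟩ := exists_fix S.isPGroup' hW2 hW1 hWn
  have hzW : z ∈ Wd (S : Subgroup G) := hWU hz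
  have hzZ : z ∈ zc (S : Subgroup G) := zc_of_fix B hzW fun s hs => by
    rw [mul_inv_eq_iff_eq_mul]; exact (mem_centralizer_iff.1 hzS s hs)
  -- every transvection centralises `z`
  refine hz1 (mem_bot.1 ((hB.fixR z hzW).2 fun x hx c hc hT => ?_))
  by_cases hxc : x ∈ centralizer (Wd (S : Subgroup G) : Set G)
  · rw [mul_inv_eq_iff_eq_mul]; exact (mem_centralizer_iff.1 hxc z hzW).symm
  obtain ⟨i, hxi, -⟩ := hB.tvs x hx c hc hT hxc
  by_cases hi : ∃ g ∈ (S : Subgroup G), MulAut.conj g • N b = N i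
  · obtain ⟨g, hg, hgi⟩ := hi
    obtain ⟨c', hc', hE'⟩ := hD.perm g (hD.SL hg) b
    have hci : c' = i := hD.Ninj (by rw [← hc', hgi])
    rw [hci] at hE'
    have h1 : g⁻¹ * x * g ∈ E b := by
      have h2 : x ∈ MulAut.conj g • E b := by rw [hE']; exact hxi
      obtain ⟨y, hy, hyx⟩ := h2
      have h3 : g * y * g⁻¹ = x := hyx
      have h4 : g⁻¹ * x * g = y := by rw [← h3]; group
      rw [h4]; exact hy
    have h2 := hcon _ h1 z hzZ
    have h3 : g⁻¹ * z * g = z := by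
      have := mem_centralizer_iff.1 hzS g hg
      calc g⁻¹ * z * g = g⁻¹ * (z * g) := by group
        _ = g⁻¹ * (g * z) := by rw [this]
        _ = z := by group
    have h4 : g * z * g⁻¹ = z := by
      have := mem_centralizer_iff.1 hzS g hg
      rw [this, mul_inv_cancel_right]
    calc x * z * x⁻¹ = g * ((g⁻¹ * x * g) * (g⁻¹ * z * g) * (g⁻¹ * x * g)⁻¹) * g⁻¹ := by group
      _ = g * z * g⁻¹ := by rw [h3, h2]
      _ = z := h4
  · have h1 : W ≤ centralizer ({x} : Set G) := by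
      refine iSup_le fun d w hw => ?_
      rw [mem_centralizer_singleton_iff]
      have hne : i ≠ d.1 := fun e => hi (by rw [e]; exact d.2)
      exact mem_centralizer_iff.1 (hD.EC i d.1 hne hxi) w hw
    have h2 := mem_centralizer_singleton_iff.1 (h1 hz)
    rw [mul_inv_eq_iff_eq_mul]; exact h2.symm

/-- one block -/
theorem N_low (B : RB S) (hB : Bks S N E ⊥ Om phi) (b : I) : N b ≤ o2 (CZ (S : Subgroup G)) := by
  classical
  have hD := hB.toDec
  have L := hB.lett b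
  obtain ⟨e, he, z, hz, hez⟩ := exists_move B hB b
  have hzW : z ∈ Wd (S : Subgroup G) := zc_le_Wd _ hz
  -- `z = φ s * w`
  obtain ⟨n, hn, w, hw, rfl⟩ : ∃ n ∈ N b, ∃ w ∈ Co N ⊥ b, n * w = z := by
    obtain ⟨n, hn, hw⟩ := hD.ex_comp b hzW
    exact ⟨n, hn, n⁻¹ * z, hw, mul_inv_cancel_left _ _⟩
  obtain ⟨s, hs, rfl⟩ := (L.mem n).1 hn
  have hEw : ∀ x ∈ E b, x * w * x⁻¹ = w := fun x hx => by
    have h1 : Co N ⊥ b ≤ centralizer ({x} : Set G) := by
      refine sup_le (iSup_le fun c => ?_) bot_le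
      intro y hy
      rw [mem_centralizer_singleton_iff]
      exact mem_centralizer_iff.1 (hD.EC b c.1 (Ne.symm c.2) hx) y hy
    have h2 := mem_centralizer_singleton_iff.1 (h1 hw)
    rw [mul_inv_eq_iff_eq_mul]; exact h2.symm
  have hmv : ∀ p q : Om b, p ∈ s → q ∉ s → phi b {p, q} ∈ o2 (CZ (S : Subgroup G)) := by
    intro p q hp hq
    have hpq : p ≠ q := fun h => hq (h ▸ hp)
    obtain ⟨x, hx, hr, ht⟩ := hB.swap b p q hpq
    refine centre_low B ht ⟨_, hz, fun h => ?_⟩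
    have h1 : x * phi b s * x⁻¹ = phi b s := by
      have h2 : x * (phi b s * w) * x⁻¹ = (x * phi b s * x⁻¹) * (x * w * x⁻¹) := by group
      rw [h2, hEw x hx] at h
      exact mul_right_cancel h
    rw [hr s hs] at h1
    have h3 : phi b (symmDiff s (s.map (Equiv.swap p q).toEmbedding)) = 1 := by
      rw [L.mul, h1, ← L.mul, symmDiff_self, Finset.bot_eq_empty, L.phi_empty]
    rw [RRed.TvKind.symmDiff_map_swap hp hq] at h3
    exact RRed.FourPermN.phi_ne hB.toFull hpq h3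
  obtain ⟨a, ha⟩ : ∃ a, a ∈ s := by
    by_contra hcon
    push Not at hcon
    have : s = ∅ := Finset.eq_empty_of_forall_notMem hcon
    rw [this, L.phi_empty, one_mul] at hez
    exact hez (hEw e he)
  obtain ⟨c, hc⟩ : ∃ c, c ∉ s := by
    by_contra hcon
    push Not at hcon
    have h1 : s = Finset.univ := Finset.eq_univ_of_forall hcon
    rw [h1, Finset.card_univ] at hs
    exact (Nat.not_even_iff_odd.2 L.odd) hs
  refine RRed.FourPermN.pair_le L fun p q hpq => ?_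
  have hsd : ∀ x y z : Om b, x ≠ y → y ≠ z → x ≠ z → phi b {x, z} = phi b {x, y} * phi b {y, z} := by
    intro x y z hxy hyz hxz
    rw [← L.mul]
    congr 1
    ext t
    rw [Finset.mem_symmDiff, Finset.mem_insert, Finset.mem_singleton, Finset.mem_insert, Finset.mem_singleton,
      Finset.mem_insert, Finset.mem_singleton]
    constructor
    · rintro (rfl | rfl)
      · exact Or.inl ⟨Or.inl rfl, fun h => h.elim hxy hxz⟩
      · exact Or.inr ⟨Or.inr rfl, fun h => h.elim (fun e => hxz e.symm) (fun e => hyz e.symm)⟩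
    · rintro (⟨rfl | rfl, h2⟩ | ⟨rfl | rfl, h2⟩)
      · exact Or.inl rfl
      · exact absurd (Or.inl rfl) h2
      · exact absurd (Or.inr rfl) h2
      · exact Or.inr rfl
  by_cases hp : p ∈ s
  · by_cases hq : q ∈ s
    · have h1 : p ≠ c := fun h => hc (h ▸ hp)
      have h2 : q ≠ c := fun h => hc (h ▸ hq)
      rw [hsd p c q h1 h2.symm hpq, Finset.pair_comm c q]
      exact mul_mem (hmv p c hp hc) (hmv q c hq hc)
    · exact hmv p q hp hq
  · by_cases hq : q ∈ s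
    · rw [Finset.pair_comm]; exact hmv q p hq hp
    · have h1 : a ≠ p := fun h => hp (h ▸ ha)
      have h2 : a ≠ q := fun h => hq (h ▸ ha)
      rw [hsd p a q h1.symm h2 hpq, Finset.pair_comm p a]
      exact mul_mem (hmv a p ha hp) (hmv a q ha hq)

/-- **`V* ≤ O₂(C_G(Z))`** -/
theorem low_bks (B : RB S) (hB : Bks S N E ⊥ Om phi) : Wd (S : Subgroup G) ≤ o2 (CZ (S : Subgroup G)) := by
  have h1 := hB.toDec.sup
  rw [sup_bot_eq] at h1
  rw [← h1]
  exact iSup_le fun b => N_low B hB b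

end bks

/-- **`V* ≤ O₂(C_G(Z))`**, natural blocks -/
theorem low_src {ι : Type u} {N E D l : ι → Subgroup G} {q : ι → ℕ} (B : RB S)
    (h : NBs (S : Subgroup G) N E D l q) (hs : Src (S : Subgroup G) N l q) :
    Wd (S : Subgroup G) ≤ o2 (CZ (S : Subgroup G)) := by
  have h1 := h.dec.sup
  rw [sup_bot_eq] at h1
  rw [← h1]
  refine iSup_le fun b => ?_
  obtain ⟨P, hP, F, _, _, _, k, -, M, hb, -, ⟨j, e, -, -⟩, -⟩ := hs.mov b
  rw [e]
  exact (NO3S.KeyRad.blk_le hb j).trans (B.data.low P hP.1)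

end Cfsg.Agent.Omega.NOThreeL.QWR.LowW
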