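import Cfsg.Agent.Omega.NOThreeL.QWR.NlQ
import Cfsg.Agent.Omega.NOThreeL.QWR.Sw.Two

/-!
# NO-3L, box R, one class, the level `(Q, V*)`, `LtV S V Q`: no 2-group `≠ 1` is normalised by `C_G(Z_J)`, all `L i`

* `cz_le_M` : `C_G(Z) ≤ M`;
* **`nl_lt`** : `nl` from `LtV S V Q`, the frame and THEOREM QW (`OffR S V Q`) for the local groups `M`.
-/

set_option autoImplicit false
set_option linter.unusedSectionVars false

namespace Cfsg.Agent.Omega.NOThreeL.QWR.NlLt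

open Subgroup Cfsg Cfsg.Agent.Omega.MinPar Cfsg.Agent.Omega.Frame Cfsg.Agent.ZN.ChoiceBase Cfsg.Agent.ZN.ChoiceSit
open Cfsg.Agent.ZN (zc o2 jj)
open Cfsg.Agent.Omega.OM
open Cfsg.Agent.Omega.OM.LevB (FBlk)
open Cfsg.Agent.Omega.OM.Lev.Uni (FrL)
open Cfsg.Agent.Omega.OM.SwapK (WL BK ZK)
open Cfsg.Agent.Omega.NOThreeL.RTree (RB)
open Cfsg.Agent.Omega.NOThreeL.Merge (MZ)
open Cfsg.Agent.Omega.FrameNOFF (CZ)
open Cfsg.Agent.Omega.NOThreeL.QWR.LowM (OffM)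
open Cfsg.Agent.Omega.NOThreeL.QWR.Sw (LtV OffR)

universe u

variable {G : Type u} [Group G] [Finite G] {ι : Type} [Finite ι] {S : Sylow 2 G} {Q V : Subgroup G}
  {L W Z C A : ι → Subgroup G}

theorem offM (ho : OffR S V Q) (M : Subgroup G) : OffM S V Q M :=
  fun T F a b c d e f g h i _ => ho T F a b c d e f g h i

section top

variable (h : LtV S V Q) (fr : FrL (BK (S : Subgroup G) Q) Q V V (ZK (S : Subgroup G) Q) L W Z C A 2)
include h fr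

/-- **`C_G(Z) ≤ M`.** -/
theorem cz_le_M (ho : OffR S V Q) {M : Subgroup G} (hS1 : (S : Subgroup G) ≠ ⊥)
    (hD : centralizer (ZK (S : Subgroup G) Q : Set G) ≤ M) (hLM : ∀ i, L i ≤ M)
    (hN : normalizer (BK (S : Subgroup G) Q : Set G) ≤ M)
    (hF : ∀ L' V' : Subgroup G, FBlk (BK (S : Subgroup G) Q) L' V' → V' ≤ zc Q → L' ≤ M) :
    CZ (S : Subgroup G) ≤ M :=
  NlQ.cz_le_M h.wl h.zcQ fr (h.crA fr ho) hS1 (offM ho M) hD hLM hN hF

/-- **No 2-group `≠ 1` is normalised by `C_G(Z_J)` and all `L i`.** -/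
theorem nl_lt (B : RB S) (hall : ∀ P : Subgroup G, IsParS (S : Subgroup G) P → Q ≤ o2 P)
    (off : ∀ M : Subgroup G, IsLoc (S : Subgroup G) M → centralizer (ZK (S : Subgroup G) Q : Set G) ≤ M →
      (∀ i, L i ≤ M) → normalizer (BK (S : Subgroup G) Q : Set G) ≤ M → MZ (S : Subgroup G) ≤ M → OffR S V Q)
    {R : Subgroup G} (hR : IsPGroup 2 R)
    (hD : centralizer (ZK (S : Subgroup G) Q : Set G) ≤ normalizer (R : Set G))
    (hLR : ∀ i, L i ≤ normalizer (R : Set G)) : R = ⊥ :=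
  NlQ.nl_q h.wl h.zcQ fr B hall
    (fun M h1 h2 h3 h4 h5 => ⟨offM (off M h1 h2 h3 h4 h5) M, h.crA fr (off M h1 h2 h3 h4 h5)⟩) hR hD hLR

end top

end Cfsg.Agent.Omega.NOThreeL.QWR.NlLt
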