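import Cfsg.Agent.Omega.NOThreeL.QWR.NlTop
import Cfsg.Agent.Omega.NOThreeL.QWR.LowM

/-!
# NO-3L, box R, one class, the level `(Q, V*)`: no 2-group `≠ 1` is normalised by `C_G(Z_J)` and all `L i`

`wl : WL S Q`, `Ω₁Z(Q) = V`, `FrL (BK S Q) Q V V (ZK S Q) L W Z C A 2` (any `S`-orbits of blocks), `Q ≤ O₂(P)` for all
`P ∈ P*(S)`.

* `exists_full` : an element of full support in `Ω₁Z(S)`;
* **`exists_MQ`** : `NlTop.exists_M` at `K₀ = Q`;
* **`cz_le_M`** : `C_G(Z) ≤ M` for `M ≥ C_G(Z_J), L i, N_G(B)`, all FF-blocks over `B` in `V`, and QW for the pairs `F ≰ M`;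
* **`nl_q`** : no 2-group `≠ 1` is normalised by `C_G(Z_J)` and all `L i`.
-/

set_option autoImplicit false
set_option linter.unusedSectionVars false

namespace Cfsg.Agent.Omega.NOThreeL.QWR.NlQ

open Subgroup Cfsg Cfsg.Agent.Omega.MinPar Cfsg.Agent.Omega.Frame Cfsg.Agent.ZN.ChoiceBase Cfsg.Agent.ZN.ChoiceSit
open Cfsg.Agent.ZN (zc o2 jj)
open Cfsg.Agent.Omega.NO3S.Level (lev Lev nxt)
open Cfsg.Agent.Omega.OM
open Cfsg.Agent.Omega.OM.LevB (FBlk)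
open Cfsg.Agent.Omega.OM.Lev.Uni (FrL)
open Cfsg.Agent.Omega.OM.SwapK (WL BK ZK)
open Cfsg.Agent.Omega.OM.SwapV (CrA BMH)
open Cfsg.Agent.Omega.NOThreeL.RTree (RB)
open Cfsg.Agent.Omega.NOThreeL.Merge (MZ)
open Cfsg.Agent.Omega.FrameNOFF (CZ)
open Cfsg.Agent.Omega.NOThreeL.QWR.LowM (OffM)

universe u

variable {G : Type u} [Group G] [Finite G] {ι : Type} [Finite ι] {S : Sylow 2 G} {Q V : Subgroup G}
  {L W Z C A : ι → Subgroup G}

/-- **An element of full support in `Ω₁Z(S)`.** -/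
theorem exists_full {K B ZJ : Subgroup G} (h : CrA S K B V ZJ L W Z C A) :
    ∃ c ∈ zc (S : Subgroup G), ∀ i, c ∉ C i := by
  obtain ⟨x, hx, hs⟩ := OM.SwapV.Cr.exists_supp h.toCr Set.univ
  have hn : ∀ i, x ∉ C i := fun i hi => ((hs i).1 hi) (Set.mem_univ i)
  refine ⟨x, mem_zc.2 ⟨h.lb.BS (h.lb.ZB hx), h.lb.sq x hx, fun s hs' => ?_⟩, hn⟩
  exact OM.SwapV.Cr.comm_of_supp h.toCr (h.lb.two_le S.isPGroup' h.lb.BS hs') hx
    fun i j _ => ⟨fun h1 => absurd h1 (hn i), fun h1 => absurd h1 (hn j)⟩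

section top

variable (wl : WL S Q) (hz : zc Q = V) (fr : FrL (BK (S : Subgroup G) Q) Q V V (ZK (S : Subgroup G) Q) L W Z C A 2)
include wl hz fr

/-- **The local group `M`** at the level `(Q, V)`. -/
theorem exists_MQ (B : RB S) (hall : ∀ P : Subgroup G, IsParS (S : Subgroup G) P → Q ≤ o2 P)
    {R : Subgroup G} (hR : IsPGroup 2 R) (hR1 : R ≠ ⊥)
    (hD : centralizer (ZK (S : Subgroup G) Q : Set G) ≤ normalizer (R : Set G))
    (hLR : ∀ i, L i ≤ normalizer (R : Set G)) :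
    ∃ M O : Subgroup G, M = normalizer (O : Set G) ∧ IsPGroup 2 O ∧ O ≠ ⊥ ∧ O ≤ BK (S : Subgroup G) Q ∧
      O = o2 (centralizer (ZK (S : Subgroup G) Q : Set G) ⊔ ⨆ i, L i) ∧ IsLoc (S : Subgroup G) M ∧
      centralizer (ZK (S : Subgroup G) Q : Set G) ≤ M ∧ (∀ i, L i ≤ M) ∧
      normalizer (BK (S : Subgroup G) Q : Set G) ≤ M ∧ normalizer (ZK (S : Subgroup G) Q : Set G) ≤ M ∧
      MZ (S : Subgroup G) ≤ M ∧
      (∀ L' V' : Subgroup G, FBlk (BK (S : Subgroup G) Q) L' V' → V' ≤ zc Q → L' ≤ M) := by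
  have fr' : FrL (OM.SwapT.BT (S : Subgroup G) Q) Q V (zc Q) (OM.SwapT.ZT (S : Subgroup G) Q) L W Z C A 2 := by
    rw [hz]
    exact fr
  exact NlTop.exists_M B wl.wc wl.lev fr' hall hR hR1 hD hLR

/-- **`C_G(Z) ≤ M`.** -/
theorem cz_le_M (cr : CrA S (nxt (S : Subgroup G) Q) (BK (S : Subgroup G) Q) V (ZK (S : Subgroup G) Q) L W Z C A)
    {M : Subgroup G} (hS1 : (S : Subgroup G) ≠ ⊥) (ho : OffM S V Q M)
    (hD : centralizer (ZK (S : Subgroup G) Q : Set G) ≤ M) (hLM : ∀ i, L i ≤ M)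
    (hN : normalizer (BK (S : Subgroup G) Q : Set G) ≤ M)
    (hF : ∀ L' V' : Subgroup G, FBlk (BK (S : Subgroup G) Q) L' V' → V' ≤ zc Q → L' ≤ M) :
    CZ (S : Subgroup G) ≤ M := by
  obtain ⟨c, hc, hcf⟩ := exists_full cr
  exact cr.cz_leN (LowM.bmh_of wl fr hz ho hc hcf hF hN) hLM hD hN hS1

/-- **No 2-group `≠ 1` is normalised by `C_G(Z_J)` and all `L i`.** -/
theorem nl_q (B : RB S) (hall : ∀ P : Subgroup G, IsParS (S : Subgroup G) P → Q ≤ o2 P)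
    (cr : ∀ M : Subgroup G, IsLoc (S : Subgroup G) M → centralizer (ZK (S : Subgroup G) Q : Set G) ≤ M →
      (∀ i, L i ≤ M) → normalizer (BK (S : Subgroup G) Q : Set G) ≤ M → MZ (S : Subgroup G) ≤ M →
      OffM S V Q M ∧ CrA S (nxt (S : Subgroup G) Q) (BK (S : Subgroup G) Q) V (ZK (S : Subgroup G) Q) L W Z C A)
    {R : Subgroup G} (hR : IsPGroup 2 R)
    (hD : centralizer (ZK (S : Subgroup G) Q : Set G) ≤ normalizer (R : Set G))
    (hLR : ∀ i, L i ≤ normalizer (R : Set G)) : R = ⊥ := by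
  by_contra hR1
  obtain ⟨M, O, rfl, hO2, hO1, hOB, -, h1, h2, h3, h4, -, h6, h7⟩ := exists_MQ wl hz fr B hall hR hR1 hD hLR
  obtain ⟨ho, hc⟩ := cr _ h1 h2 h3 h4 h6
  have hS1 : (S : Subgroup G) ≠ ⊥ := fun e => hO1 (by
    have h8 := hOB.trans wl.lb.BS
    rw [e] at h8
    exact le_bot_iff.1 h8)
  exact hO1 (FrameNOFF.eq_bot_of_norm B.ctx S B.full hO2 (fun P hP => (le_sSup hP).trans h6)
    (cz_le_M wl hz fr hc hS1 ho h2 h3 h4 h7))

end top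

end Cfsg.Agent.Omega.NOThreeL.QWR.NlQ
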