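import Cfsg.Agent.Omega.NOThreeL.QWR.AlphaOf
import Cfsg.Agent.Omega.NOThreeL.QWR.LtVOf

/-!
# THEOREM QW at the top level `(Q, V*)` of box R, `|Z| ≥ 4`, `q = 2`: helper587's `OffR S V* Q`

`Q = C_S(V*)`, `Ω₁Z(Q) = V*`.

* the bridge : `jj_eq` : `JJ S M₀ = nxt S Q`, `zz_eq` : `ZZ S M₀ = ZK S Q`, `bb_eq` : `BB S M₀ = BK S Q`; `cl_eq`;
* `wr_of` : helper733's `WR S M₀ T F` from the hypotheses of `OffR`;
* **`offR_of`** : `OffR` from THEOREM QW (helper733), `U ≤ O₂(M)` as a hypothesis under `Neg`; no condition on `q`;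
* **`offR_top`** : `OffR` for `|Z| ≥ 4`, `q = 2`, over any local `M ≥ C_G(Z_J), MZ S`.
-/

set_option autoImplicit false
set_option linter.unusedSectionVars false

namespace Cfsg.Agent.Omega.NOThreeL.QWR.OffTop

open Subgroup Cfsg Cfsg.Agent.Omega.MinPar Cfsg.Agent.ZN.ChoiceBase Cfsg.Agent.ZN.ChoiceSit
open Cfsg.Agent.ZN (zc zl o2 jj)
open Cfsg.Agent.MinSimple.MinParabolic (IsMinPar)
open Cfsg.Agent.MinSimple.VModule (oddGen)
open Cfsg.Agent.Omega.FrameNOFF (CZ)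
open Cfsg.Agent.Omega.NO3b.EZero (cl cl_le le_cl cj_le_cl le_normalizer_cl)
open Cfsg.Agent.Omega.NO3S.Level (lev Lev nxt)
open Cfsg.Agent.Omega.NO3S.CaseLW.QWc (Neg)
open Cfsg.Agent.Omega.ML.Final (MLK)
open Cfsg.Agent.Omega.OM.Lev.Uni (FrL)
open Cfsg.Agent.Omega.OM.SwapK (WL BK ZK)
open Cfsg.Agent.Omega.NOThreeL.RTree (RB)
open Cfsg.Agent.Omega.NOThreeL.RRed (Wd)
open Cfsg.Agent.Omega.NOThreeL.RRed.FourTree (nxtX)
open Cfsg.Agent.Omega.NOThreeL.Merge (MZ)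
open Cfsg.Agent.Omega.NOThreeL.QWR.Sw (OffR)

universe u

variable {G : Type u} [Group G]

/-- `⟨V^F⟩` in the two notations -/
theorem cl_eq (V F : Subgroup G) : NoFF.Basic.V V F = cl V F := by
  apply le_antisymm
  · exact NoFF.Basic.V_le fun f hf => cj_le_cl hf
  · exact cl_le fun f hf => NoFF.Basic.Z_le_V hf

variable [Finite G] {S : Sylow 2 G} {Q : Subgroup G}

theorem jj_eq (hz : zc Q = Wd (S : Subgroup G)) :
    QWR.JJ (S : Subgroup G) (MZ (S : Subgroup G)) = nxt (S : Subgroup G) Q := by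
  have h1 : nxtX (S : Subgroup G) (zc Q) = nxt (S : Subgroup G) Q := FrTop.nxtX_zc _ _
  rw [← h1, hz]
  rfl

theorem zz_eq (hl : Lev (S : Subgroup G) Q) (hz : zc Q = Wd (S : Subgroup G)) :
    QWR.ZZ (S : Subgroup G) (MZ (S : Subgroup G)) = ZK (S : Subgroup G) Q := by
  rw [FrTop.zk_eq hl hz, ← jj_eq hz]
  rfl

theorem bb_eq (hl : Lev (S : Subgroup G) Q) (hz : zc Q = Wd (S : Subgroup G)) :
    QWR.BB (S : Subgroup G) (MZ (S : Subgroup G)) = BK (S : Subgroup G) Q := by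
  unfold QWR.BB
  rw [zz_eq hl hz]
  rfl

/-- The hypotheses of `OffR` give the situation `WR`. -/
theorem wr_of (rq : RQ S (MZ (S : Subgroup G))) (wl : WL S Q) (hz : zc Q = Wd (S : Subgroup G))
    (hQ : Q = (S : Subgroup G) ⊓ centralizer (Wd (S : Subgroup G) : Set G)) {T F : Subgroup G} (hT : Syl T F)
    (hB : BK (S : Subgroup G) Q ≤ T) (hTS : T ≤ (S : Subgroup G)) (hP : IsMinPar T F)
    (hch : F ⊓ centralizer (o2 F : Set G) ≤ o2 F) (hj : jj (S : Subgroup G) ≤ o2 F) (hn : ¬ Q ≤ o2 F)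
    (hmv : ¬ oddGen F ≤ centralizer (ZK (S : Subgroup G) Q : Set G)) : WR S (MZ (S : Subgroup G)) T F where
  rq := rq
  TS := hTS
  QT := by
    have h1 : QWR.QQ (S : Subgroup G) (MZ (S : Subgroup G)) = Q := hQ.symm
    rw [h1]
    exact (wl.lb.KB.trans' (NO3S.Level.le_nxt wl.lev.le)).trans hB
  syl := hT
  min := hP
  c2 := hch
  mvL := fun h1 => hmv (h1.trans (centralizer_le (by
    rw [← zz_eq wl.lev hz]
    exact ZZ_le _ _)))
  nQ := by
    have h1 : QWR.QQ (S : Subgroup G) (MZ (S : Subgroup G)) = Q := hQ.symm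
    rw [h1]
    exact hn
  jY := hj

/-- **`OffR` from THEOREM QW**, `⟨V*^F⟩ ≤ O₂(M)` as a hypothesis under `Neg`; any `q`. -/
theorem offR_of (rq : RQ S (MZ (S : Subgroup G))) (wl : WL S Q) (hz : zc Q = Wd (S : Subgroup G))
    (hQ : Q = (S : Subgroup G) ⊓ centralizer (Wd (S : Subgroup G) : Set G)) {M : Subgroup G}
    (hM : centralizer (ZK (S : Subgroup G) Q : Set G) ≤ M) (hP : MZ (S : Subgroup G) ≤ M)
    (hU : ∀ T F : Subgroup G, WR S (MZ (S : Subgroup G)) T F → F ≤ CZ (S : Subgroup G) →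
      Neg T F (cl (Wd (S : Subgroup G)) F) → cl (Wd (S : Subgroup G)) F ≤ o2 M) :
    OffR S (Wd (S : Subgroup G)) Q := by
  intro T F hT hB hTS hPm hch hF hj hn hmv
  have h := wr_of rq wl hz hQ hT hB hTS hPm hch hj hn hmv
  have hBT : QWR.BB (S : Subgroup G) (MZ (S : Subgroup G)) ≤ T := by
    rw [bb_eq wl.lev hz]
    exact hB
  have hD : centralizer (QWR.ZZ (S : Subgroup G) (MZ (S : Subgroup G)) : Set G) ≤ M := by
    rw [zz_eq wl.lev hz]
    exact hM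
  obtain ⟨A, hA, hb, -, ho⟩ := exists_best_odd h hBT hD hP (by
    rw [zz_eq wl.lev hz]
    exact hmv) fun neg => hU T F h hF neg
  refine ⟨A, hA, ?_, ho⟩
  rw [cl_eq]
  exact hb

variable {ι : Type} [Finite ι] {X : Subgroup G} {L W Z C A : ι → Subgroup G}

/-- **`OffR` at the top level `(Q, V*)`**, `|Z| ≥ 4`, `q = 2`. -/
theorem offR_top (R : RB S) (ml : MLK.{u, u}) (h4 : 4 ≤ Nat.card (zc (S : Subgroup G)))
    (rq : RQ S (MZ (S : Subgroup G))) (wl : WL S Q) (hz : zc Q = Wd (S : Subgroup G))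
    (hQ : Q = (S : Subgroup G) ⊓ centralizer (Wd (S : Subgroup G) : Set G))
    (fr : FrL (BK (S : Subgroup G) Q) Q (Wd (S : Subgroup G)) X (ZK (S : Subgroup G) Q) L W Z C A 2)
    (hL : ∀ i, L i ≤ MZ (S : Subgroup G)) {M : Subgroup G} (hM : IsLoc (S : Subgroup G) M)
    (hD : centralizer (ZK (S : Subgroup G) Q : Set G) ≤ M) (hP : MZ (S : Subgroup G) ≤ M) :
    OffR S (Wd (S : Subgroup G)) Q :=
  offR_of rq wl hz hQ hD hP fun T F h hF neg =>
    AlphaOf.hUM_of R ml h4 (by rw [bb_eq wl.lev hz]; exact fr) (LowZ.lowz R wl hz.ge fr hL) h hF hM hP neg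

end Cfsg.Agent.Omega.NOThreeL.QWR.OffTop
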