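import Cfsg.Agent.Omega.NOThreeL.QWR.Frame

/-!
# THEOREM QW in box R (t = 1): steps (1), (5), the exact groups

The port of `CaseLW/QWc.lean` (helper498) to `WR S P T Y`.

* `max_le` : **(1)** `f(A) ≤ |U|` for all `A ≤ T` under **(neg)**; `ex_le_o2`, `ex_exact`, `ex_cut`, `ex_cj`, `ex_le_BB`,
  `ex_cent_ZJ`;
* `her_best`, `cent_cut`, `best_cut` : `A` best on `V`, exact on `L ≤ V`: `C_V(C_A(L)) = L C_V(A)`, `C_A(L)` is best on `V`;
* `W_L_E`, `W_le_BB`, `ZZ_le_F` : the groups `W_F ≤ S`.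
-/

set_option autoImplicit false
set_option linter.unusedSectionVars false
set_option linter.dupNamespace false

namespace Cfsg.Agent.Omega.NOThreeL.QWR

open Subgroup Cfsg Cfsg.Agent.ZN Cfsg.Agent.ZN.ChoiceBase Cfsg.Agent.Omega.MinPar Cfsg.Agent.Omega.Frame
open Cfsg.Agent.Omega.FrameNOFF (CZ)
open Cfsg.Agent.Omega.NO3b.EZero (cl cl_le le_cl cj_le_cl le_normalizer_cl)
open Cfsg.Agent.Omega.NO3S.Level
open Cfsg.Agent.Omega.NO3S.RedC (MaxMin exists_maxMin nff_of_noOff noOff_of)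
open Cfsg.Agent.Omega.NO3S.WY (bestW elemW hyp_cj WW_cj best_mono)
open Cfsg.Agent.Omega.NO3S.CaseLW.QWc (fM_mul_le le_fM_iff_rel fM_le_iff_rel elem_le le_fM_of_best Neg Neg.of_best Ex Ex.of_rel
  Ex.of_best Ex.of_cent exists_line)
open Cfsg.Agent.Omega.NO1.BestOff (Best)
open Cfsg.Agent.Omega.FFThm (OffM ElemM)
open Cfsg.Agent.Omega.NOThreeL.VF (fM fM_le fM_cj fM_of_le le_fM_iff fM_le_iff fM_mul card_eq_rel card_mul_card_le
  elemM_cj elemM_mono)
open scoped Pointwise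

universe u

variable {G : Type u} [Group G] [Finite G]

/-! ### (1) -/

section one

variable {S : Sylow 2 G} {P T Y A : Subgroup G} (h : WR S P T Y)
include h

theorem U_le_zl : cl (zl (S : Subgroup G) P) Y ≤ zl (S : Subgroup G) (GR (S : Subgroup G) P Y) :=
  cl_le fun y hy => by
    have h1 := cj_mono y h.L_le_zl
    rwa [cj_eq_of_mem_normalizer (ZN.le_normalizer_zl _ _ (h.Y_le hy))] at h1

theorem U_le {V : Subgroup G} (hV : Md S P Y V) : cl (zl (S : Subgroup G) P) Y ≤ V := (U_le_zl h).trans hV.ge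

theorem U_comm : cl (zl (S : Subgroup G) P) Y ≤ centralizer (cl (zl (S : Subgroup G) P) Y : Set G) :=
  ((U_le h h.md_zl).trans (h.Vc h.md_zl)).trans (centralizer_le (U_le h h.md_zl))

/-- `C_T(U) ≤ O₂(Y)` -/
theorem cent_le (hA : A ≤ T) (hc : A ≤ centralizer (cl (zl (S : Subgroup G) P) Y : Set G)) : A ≤ o2 Y :=
  (le_inf (hA.trans h.TS) hc).trans (h.cs_le_Y (le_normalizer_cl _ _) (le_cl _ _))

theorem cj_le_o2 (hA : A ≤ o2 Y) {y : G} (hy : y ∈ Y) : cj y A ≤ o2 Y := by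
  have h1 := cj_mono y hA
  rwa [cj_eq_of_mem_normalizer (ZN.le_normalizer_o2 _ hy)] at h1

/-- `A ≤ O₂(Y)` is no over-offender on `L^y`. -/
theorem noOver (hA : A ≤ o2 Y) (hE : ElemM (cl (zl (S : Subgroup G) P) Y) A) {y : G} (hy : y ∈ Y) :
    Nat.card A * Nat.card ↥(cj y (zl (S : Subgroup G) P) ⊓ centralizer (A : Set G)) ≤
      Nat.card (cj y (zl (S : Subgroup G) P)) *
        Nat.card ↥(A ⊓ centralizer (cj y (zl (S : Subgroup G) P) : Set G)) := by
  have hy' : y⁻¹ ∈ Y := Y.inv_mem hy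
  by_cases hc : A ≤ centralizer (cj y (zl (S : Subgroup G) P) : Set G)
  · rw [inf_eq_left.2 hc, mul_comm]
    exact Nat.mul_le_mul_right _ (card_le_of_le inf_le_left)
  have hUn : cj y⁻¹ (cl (zl (S : Subgroup G) P) Y) = cl (zl (S : Subgroup G) P) Y :=
    cj_eq_of_mem_normalizer (le_normalizer_cl _ _ hy')
  have hE' : ElemM (zl (S : Subgroup G) P) (cj y⁻¹ A) :=
    elem_le (elemM_cj (le_normalizer_cl _ _ hy') hE) (le_cl _ _)
  have e1 : cj y⁻¹ (cj y (zl (S : Subgroup G) P) ⊓ centralizer (A : Set G)) =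
      zl (S : Subgroup G) P ⊓ centralizer (cj y⁻¹ A : Set G) := by
    rw [cj_inf, cj_inv_cj, cj_centralizer]
  have e2 : cj y⁻¹ (A ⊓ centralizer (cj y (zl (S : Subgroup G) P) : Set G)) =
      cj y⁻¹ A ⊓ centralizer (zl (S : Subgroup G) P : Set G) := by
    rw [cj_inf, cj_centralizer, cj_inv_cj]
  have hne : ¬ cj y⁻¹ A ≤ centralizer (zl (S : Subgroup G) P : Set G) := fun h1 => hc (by
    have h2 := cj_mono y h1
    rwa [cj_cj_inv, cj_centralizer] at h2)
  have h3 := h.rq.no _ ((cj_le_o2 h hA hy').trans h.o2Y_le) hE' hne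
  rw [← e1, ← e2, card_cj, card_cj, card_cj] at h3
  rw [card_cj]
  exact h3

/-- **(1)** : `f(A) ≤ |U|` -/
theorem max_le (neg : Neg T Y (cl (zl (S : Subgroup G) P) Y)) (hA : A ≤ T)
    (hE : ElemM (cl (zl (S : Subgroup G) P) Y) A) :
    fM (cl (zl (S : Subgroup G) P) Y) A ≤ Nat.card (cl (zl (S : Subgroup G) P) Y) := by
  set U := cl (zl (S : Subgroup G) P) Y with hU
  by_contra hcon
  rw [not_le] at hcon
  let 𝒞 : Set (Subgroup G) := {D | D ≤ T ∧ ElemM U D}
  obtain ⟨B₁, hB₁, hmax⟩ := Set.exists_max_image 𝒞 (fM U) (Set.toFinite _) ⟨A, hA, hE⟩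
  obtain ⟨B, ⟨hB, hBf⟩, hmin⟩ := Set.exists_min_image {B | B ∈ 𝒞 ∧ fM U B = fM U B₁}
    (fun B => (centralizer (U : Set G)).relIndex B) (Set.toFinite _) ⟨B₁, hB₁, rfl⟩
  have hB1 : Nat.card U < fM U B := by
    rw [hBf]
    exact hcon.trans_le (hmax A ⟨hA, hE⟩)
  have hne : ¬ B ≤ centralizer (U : Set G) := fun h1 => by
    rw [fM_of_le h1] at hB1
    exact lt_irrefl _ hB1
  have hBY : B ≤ o2 Y := neg B hB.1 hB.2 (fun D hD hDE => by rw [hBf]; exact hmax D ⟨hD, hDE⟩) hne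
  obtain ⟨y, hy, hyB⟩ := exists_line hne
  have hyU : cj y (zl (S : Subgroup G) P) ≤ U := cj_le_cl hy
  have hle := fM_le hyU (noOver h hBY hB.2 hy)
  set B₀ : Subgroup G := B ⊓ centralizer (cj y (zl (S : Subgroup G) P) : Set G) with hB₀
  have hB₀C : B₀ ∈ 𝒞 := ⟨inf_le_left.trans hB.1, elemM_mono hB.2 inf_le_left⟩
  have h2 : fM U B₀ = fM U B₁ := le_antisymm (hmax B₀ hB₀C) (hBf ▸ hle)
  have h3 := hmin B₀ ⟨hB₀C, h2⟩
  have e4 : B₀ ⊓ centralizer (U : Set G) = B ⊓ centralizer (U : Set G) := by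
    rw [hB₀, inf_assoc, inf_eq_right.2 (centralizer_le (s := (cj y (zl (S : Subgroup G) P) : Set G)) hyU)]
  have h4 : Nat.card B ≤ Nat.card B₀ := by
    rw [card_eq_rel U B, card_eq_rel U B₀, e4]
    exact Nat.mul_le_mul_right _ h3
  have h5 : B₀ = B := Subgroup.eq_of_le_of_card_ge inf_le_left h4
  exact hyB (inf_eq_left.1 h5)

variable (neg : Neg T Y (cl (zl (S : Subgroup G) P) Y)) (x : Ex T (cl (zl (S : Subgroup G) P) Y) A)
include neg x

theorem ex_le_o2 : A ≤ o2 Y := by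
  by_cases hc : A ≤ centralizer (cl (zl (S : Subgroup G) P) Y : Set G)
  · exact cent_le h x.le hc
  · exact neg A x.le x.elem (fun D hD hDE => (max_le h neg hD hDE).trans x.f) hc

theorem ex_eq : fM (cl (zl (S : Subgroup G) P) Y) A = Nat.card (cl (zl (S : Subgroup G) P) Y) :=
  le_antisymm (max_le h neg x.le x.elem) x.f

/-- `C_A(L^y)` is exact too. -/
theorem ex_cut {y : G} (hy : y ∈ Y) :
    Ex T (cl (zl (S : Subgroup G) P) Y) (A ⊓ centralizer (cj y (zl (S : Subgroup G) P) : Set G)) where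
  le := inf_le_left.trans x.le
  elem := elemM_mono x.elem inf_le_left
  f := x.f.trans (fM_le (cj_le_cl hy) (noOver h (ex_le_o2 h neg x) x.elem hy))

/-- **exactness on `L^y`** -/
theorem ex_exact {y : G} (hy : y ∈ Y) :
    (centralizer (cj y (zl (S : Subgroup G) P) : Set G)).relIndex A =
      (centralizer (A : Set G)).relIndex (cj y (zl (S : Subgroup G) P)) := by
  refine le_antisymm (FFThm.relIndex_le_iff.1 (noOver h (ex_le_o2 h neg x) x.elem hy)) ?_
  have h1 := fM_mul_le (U := cl (zl (S : Subgroup G) P) Y) (A := A) (cj_le_cl hy : cj y (zl (S : Subgroup G) P) ≤ _)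
  rw [ex_eq h neg x, ex_eq h neg (ex_cut h neg x hy)] at h1
  exact Nat.le_of_mul_le_mul_left h1 Nat.card_pos

/-- `L` itself -/
theorem ex_exact_one : (centralizer (zl (S : Subgroup G) P : Set G)).relIndex A =
    (centralizer (A : Set G)).relIndex (zl (S : Subgroup G) P) := by
  have h1 := ex_exact h neg x (y := 1) Y.one_mem
  rwa [cj_one] at h1

theorem ex_cj {y : G} (hy : y ∈ Y) : Ex T (cl (zl (S : Subgroup G) P) Y) (ChoiceBase.cj y A) where
  le := (cj_le_o2 h (ex_le_o2 h neg x) hy).trans h.o2Y_T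
  elem := elemM_cj (le_normalizer_cl _ _ hy) x.elem
  f := by
    rw [(fM_cj (A := A) (le_normalizer_cl (zl (S : Subgroup G) P) Y hy)).1]
    exact x.f

/-- an exact `A` is a best offender on `L` (or centralises it) -/
theorem ex_best : Best (zl (S : Subgroup G) P) A := by
  have hE : ElemM (zl (S : Subgroup G) P) A := elem_le x.elem (le_cl _ _)
  refine { toElemM := hE, max := fun D hD hc => ?_ }
  have e : D ⊓ centralizer (zl (S : Subgroup G) P : Set G) = A ⊓ centralizer (zl (S : Subgroup G) P : Set G) :=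
    le_antisymm (inf_le_inf_right _ hD) (le_inf hc inf_le_right)
  have hno := noOver h (hD.trans (ex_le_o2 h neg x)) (elemM_mono x.elem hD) (y := 1) Y.one_mem
  rw [cj_one, e] at hno
  exact hno.trans (FFThm.relIndex_le_iff.2 (ex_exact_one h neg x).ge)

theorem ex_le_JJ : A ≤ JJ (S : Subgroup G) P := le_JJ (x.le.trans h.TS) (ex_best h neg x)

theorem ex_le_BB : A ≤ BB (S : Subgroup G) P := (ex_le_JJ h neg x).trans (JJ_le_BB _ _)

/-- an exact `A` centralises `⟨Z_J^Y⟩` -/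
theorem ex_cent_ZJ : A ≤ centralizer (cl (ZZ (S : Subgroup G) P) Y : Set G) := by
  refine le_centralizer_iff.1 (cl_le fun y hy => le_centralizer_iff.1 ?_)
  have h1 := (ex_le_BB h neg (ex_cj h neg x (Y.inv_mem hy))).trans inf_le_right
  have h2 := cj_mono y h1
  rwa [cj_cj_inv, cj_centralizer] at h2

end one

/-! ### best offenders on `V`, exact on `L` -/

section best

variable {V L A : Subgroup G}

/-- the counting: `|A| |C_V(A)| |L ∩ C(A)| ≤ |C_A(L)| |L C_V(A)| |L ∩ C(A)|` -/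
theorem count_cut (hLV : L ≤ V) (hVc : V ≤ centralizer (V : Set G))
    (hex : (centralizer (L : Set G)).relIndex A ≤ (centralizer (A : Set G)).relIndex L) :
    Nat.card A * Nat.card ↥(V ⊓ centralizer (A : Set G)) ≤
      Nat.card ↥(A ⊓ centralizer (L : Set G)) * Nat.card ↥(L ⊔ V ⊓ centralizer (A : Set G) : Subgroup G) := by
  set K : Subgroup G := V ⊓ centralizer (A : Set G) with hK
  have e1 : Nat.card ↥(A ⊓ centralizer (L : Set G)) * (centralizer (L : Set G)).relIndex A = Nat.card A := by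
    have e0 := NOne.Flat.card_mul_relIndex' (inf_le_left : A ⊓ centralizer (L : Set G) ≤ A)
    rwa [inf_relIndex_left] at e0
  have hLK : L ≤ normalizer (K : Set G) :=
    (hLV.trans (hVc.trans (centralizer_le (inf_le_left : K ≤ V)))).trans (centralizer_le_normalizer _)
  have e2 := NOne.Flat.Off.card_sup_mul_inf hLK
  have e3 : L ⊓ K = L ⊓ centralizer (A : Set G) := by
    rw [hK, ← inf_assoc, inf_eq_left.2 hLV]
  rw [e3] at e2
  have e4 := NOne.Flat.card_mul_relIndex' (inf_le_left : L ⊓ centralizer (A : Set G) ≤ L)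
  rw [inf_relIndex_left] at e4
  have hp : 0 < Nat.card ↥(L ⊓ centralizer (A : Set G)) := Nat.card_pos
  refine Nat.le_of_mul_le_mul_right ?_ hp
  calc Nat.card A * Nat.card K * Nat.card ↥(L ⊓ centralizer (A : Set G))
      = Nat.card ↥(A ⊓ centralizer (L : Set G)) * (centralizer (L : Set G)).relIndex A * Nat.card K *
          Nat.card ↥(L ⊓ centralizer (A : Set G)) := by rw [e1]
    _ ≤ Nat.card ↥(A ⊓ centralizer (L : Set G)) * (centralizer (A : Set G)).relIndex L * Nat.card K *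
          Nat.card ↥(L ⊓ centralizer (A : Set G)) :=
        Nat.mul_le_mul_right _ (Nat.mul_le_mul_right _ (Nat.mul_le_mul_left _ hex))
    _ = Nat.card ↥(A ⊓ centralizer (L : Set G)) *
          (Nat.card ↥(L ⊓ centralizer (A : Set G)) * (centralizer (A : Set G)).relIndex L) * Nat.card K := by ring
    _ = Nat.card ↥(A ⊓ centralizer (L : Set G)) * (Nat.card L * Nat.card K) := by rw [e4]; ring
    _ = Nat.card ↥(A ⊓ centralizer (L : Set G)) * (Nat.card ↥(L ⊔ K : Subgroup G) *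
          Nat.card ↥(L ⊓ centralizer (A : Set G))) := by rw [e2]
    _ = _ := by ring

theorem sup_le_cut (hLV : L ≤ V) : L ⊔ V ⊓ centralizer (A : Set G) ≤
    V ⊓ centralizer ((A ⊓ centralizer (L : Set G) : Subgroup G) : Set G) :=
  sup_le (le_inf hLV (le_centralizer_iff.1 inf_le_right)) (inf_le_inf_left _ (centralizer_le inf_le_left))

/-- `C_V(C_A(L)) = L C_V(A)` -/
theorem cent_cut (hA : Best V A) (hLV : L ≤ V) (hVc : V ≤ centralizer (V : Set G))
    (hex : (centralizer (L : Set G)).relIndex A ≤ (centralizer (A : Set G)).relIndex L) :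
    V ⊓ centralizer ((A ⊓ centralizer (L : Set G) : Subgroup G) : Set G) = L ⊔ V ⊓ centralizer (A : Set G) := by
  symm
  refine Subgroup.eq_of_le_of_card_ge (sup_le_cut hLV) ?_
  have h1 := hA.max (A ⊓ centralizer (L : Set G)) inf_le_left (inf_le_inf_left _ (centralizer_le hLV))
  have h2 := h1.trans (count_cut hLV hVc hex)
  exact Nat.le_of_mul_le_mul_left h2 Nat.card_pos

/-- `C_A(L)` is best on `V`. -/
theorem best_cut (hA : Best V A) (hLV : L ≤ V) (hVc : V ≤ centralizer (V : Set G))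
    (hex : (centralizer (L : Set G)).relIndex A ≤ (centralizer (A : Set G)).relIndex L) :
    Best V (A ⊓ centralizer (L : Set G)) where
  toElemM := elemM_mono hA.toElemM inf_le_left
  max := fun D hD hc => by
    have e : A ⊓ centralizer (V : Set G) ≤ D :=
      (le_inf (inf_le_inf_left _ (centralizer_le hLV)) inf_le_right).trans hc
    refine (hA.max D (hD.trans inf_le_left) e).trans ((count_cut hLV hVc hex).trans ?_)
    exact Nat.mul_le_mul_left _ (card_le_of_le (sup_le_cut hLV))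

/-- `v ∈ L K`, `x` normalises `L` and centralises `K` : `[x, v] ∈ L` -/
theorem comm_mem_of {K : Subgroup G} (hLK : ∀ l ∈ L, ∀ k ∈ K, l * k = k * l) {v x : G} (hv : v ∈ L ⊔ K)
    (hxL : x ∈ normalizer (L : Set G)) (hxK : ∀ k ∈ K, x * k = k * x) : x * v * x⁻¹ * v⁻¹ ∈ L := by
  obtain ⟨l, hl, f, hf, rfl⟩ := SQ1.Bau.mem_sup_comm hLK hv
  have h1 : x * f = f * x := hxK f hf
  have h3 : x * l * x⁻¹ ∈ L := (mem_normalizer_iff.1 hxL l).1 hl
  have e : x * (l * f) * x⁻¹ * (l * f)⁻¹ = (x * l * x⁻¹) * l⁻¹ := by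
    have h4 : f * x⁻¹ = x⁻¹ * f := by
      have : x⁻¹ * (x * f) * x⁻¹ = x⁻¹ * (f * x) * x⁻¹ := by rw [h1]
      simpa [mul_assoc] using this
    calc x * (l * f) * x⁻¹ * (l * f)⁻¹ = x * l * (f * x⁻¹) * f⁻¹ * l⁻¹ := by group
      _ = x * l * (x⁻¹ * f) * f⁻¹ * l⁻¹ := by rw [h4]
      _ = _ := by group
  rw [e]
  exact mul_mem h3 (inv_mem hl)

end best

/-! ### the groups `W_F ≤ S` -/

section W

variable {S : Sylow 2 G} {P T Y V F : Subgroup G} (h : WR S P T Y) (hV : Md S P Y V) (hF : NOne.Flat.Hyp V F)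
  (hW : NOne.Flat.WW V F ≤ (S : Subgroup G))
include h hV hF hW

theorem zc_le_F : zc (S : Subgroup G) ≤ F := NO3S.BetaFF.zc_le_F hF (h.Z_le_V hV) hW

/-- `V_P ≤ E_F` -/
theorem L_le_E : zl (S : Subgroup G) P ≤ NOne.Flat.EE V F :=
  NO3S.BetaFF.le_EE_of_low hF (h.L_le_V hV) (zc_le_F h hV hF hW) h.rq.low

theorem W_le_JJ : NOne.Flat.WW V F ≤ JJ (S : Subgroup G) P := le_JJ hW (bestW hF (L_le_E h hV hF hW))

theorem W_le_BB : NOne.Flat.WW V F ≤ BB (S : Subgroup G) P := (W_le_JJ h hV hF hW).trans (JJ_le_BB _ _)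

/-- `Z_J ≤ F` -/
theorem ZZ_le_F : ZZ (S : Subgroup G) P ≤ F := by
  rw [← hF.cent_VW]
  exact le_inf ((ZZ_le _ _).trans (h.L_le_V hV)) (le_centralizer_iff.1 ((W_le_BB h hV hF hW).trans inf_le_right))

/-- A subgroup of `V ∩ O₂(C_G(Z_J))` lies in `E_F`. -/
theorem le_E {U : Subgroup G} (hU : U ≤ V) (hUO : U ≤ o2 (centralizer (ZZ (S : Subgroup G) P : Set G))) :
    U ≤ NOne.Flat.EE V F := NO3S.BetaFF.le_EE_of_low hF hU (ZZ_le_F h hV hF hW) hUO

/-- **exactness of `W_F` on `L`** -/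
theorem hexW : (centralizer (zl (S : Subgroup G) P : Set G)).relIndex (NOne.Flat.WW V F) ≤
    (centralizer (NOne.Flat.WW V F : Set G)).relIndex (zl (S : Subgroup G) P) := by
  by_cases hc : NOne.Flat.WW V F ≤ centralizer (zl (S : Subgroup G) P : Set G)
  · rw [relIndex_eq_one.2 hc]
    exact Nat.one_le_iff_ne_zero.2 index_ne_zero_of_finite
  · exact FFThm.relIndex_le_iff.1 (h.rq.no _ hW (elemW hF (h.L_le_V hV)) hc)

end W

/-! ### transport to `P`-conjugates -/

section cjP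

variable {S : Sylow 2 G} {P T Y V A : Subgroup G} (h : WR S P T Y) (hV : Md S P Y V)
include h hV

theorem PV : P ≤ normalizer (V : Set G) := h.P_le.trans hV.norm

theorem cj_L {p : G} (hp : p ∈ P) : cj p (zl (S : Subgroup G) P) = zl (S : Subgroup G) P :=
  cj_eq_of_mem_normalizer (ZN.le_normalizer_zl _ _ hp)

theorem cj_cut {p : G} (hp : p ∈ P) : cj p (A ⊓ centralizer (zl (S : Subgroup G) P : Set G)) =
    cj p A ⊓ centralizer (zl (S : Subgroup G) P : Set G) := by
  rw [cj_inf, cj_centralizer, cj_L h hV hp]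

/-- the same for `A^p` -/
theorem hex_cj (hex : (centralizer (zl (S : Subgroup G) P : Set G)).relIndex A ≤
      (centralizer (A : Set G)).relIndex (zl (S : Subgroup G) P)) {p : G} (hp : p ∈ P) :
    (centralizer (zl (S : Subgroup G) P : Set G)).relIndex (cj p A) ≤
    (centralizer (cj p A : Set G)).relIndex (zl (S : Subgroup G) P) := by
  have h1 := FFThm.relIndex_le_iff.2 hex
  have e1 : zl (S : Subgroup G) P ⊓ centralizer (cj p A : Set G) =
      cj p (zl (S : Subgroup G) P ⊓ centralizer (A : Set G)) := by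
    rw [cj_inf, cj_centralizer, cj_L h hV hp]
  refine FFThm.relIndex_le_iff.1 ?_
  rw [← cj_cut h hV hp, e1, card_cj, card_cj, card_cj]
  exact h1

/-- `C_A(L)^p ≤ Q ≤ T` for `A ≤ S` -/
theorem cj_cut_le (hA : A ≤ (S : Subgroup G)) {p : G} (hp : p ∈ P) :
    cj p (A ⊓ centralizer (zl (S : Subgroup G) P : Set G)) ≤ T := by
  have h1 : A ⊓ centralizer (zl (S : Subgroup G) P : Set G) ≤ QQ (S : Subgroup G) P := inf_le_inf_right _ hA
  exact (cj_mono p h1).trans ((h.cjQ hp).le.trans h.QT)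

theorem best_cjV {g : G} (hg : g ∈ normalizer (V : Set G)) (hA : Best V A) : Best V (cj g A) where
  toElemM := elemM_cj hg hA.toElemM
  max := fun D hD hc => by
    have hg' : g⁻¹ ∈ normalizer (V : Set G) := inv_mem hg
    have e1 : V ⊓ centralizer (cj g A : Set G) = cj g (V ⊓ centralizer (A : Set G)) := by
      rw [cj_inf, cj_centralizer, cj_eq_of_mem_normalizer hg]
    have e2 : V ⊓ centralizer (D : Set G) = cj g (V ⊓ centralizer (cj g⁻¹ D : Set G)) := by
      rw [cj_inf, cj_centralizer, cj_eq_of_mem_normalizer hg, cj_cj_inv]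
    have h1 : cj g⁻¹ D ≤ A := by
      have := cj_mono g⁻¹ hD
      rwa [cj_inv_cj] at this
    have h2 : A ⊓ centralizer (V : Set G) ≤ cj g⁻¹ D := by
      have h3 := cj_mono g⁻¹ hc
      rwa [cj_inf, cj_inv_cj, cj_centralizer, cj_eq_of_mem_normalizer hg'] at h3
    have h3 := hA.max _ h1 h2
    rw [e1, e2, card_cj, card_cj, card_cj]
    rw [card_cj] at h3
    exact h3

end cjP

end Cfsg.Agent.Omega.NOThreeL.QWR
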