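import Cfsg.Agent.Omega.NOThreeL.QWR.NlWd
import Cfsg.Agent.Omega.NOThreeL.QWR.AlphaOf
import Cfsg.Agent.Omega.NOThreeL.RRed.BFr.LocTop

/-!
# NO-3L, box R, one class, `𝔽₂`-blocks: the top level `(Q, V*)` is impossible

`Q = C_S(V*)` weakly closed, `Ω₁Z(Q) = V*`, `LevX S Q V*`, `RQ S (MZ S)` (helper281's `rq_bks`), `|Ω₁Z(S)| ≥ 4`.

* `offR` : THEOREM QW (helper733, helper743) in the form `OffR S V* Q`, for any local `M ≥ C_G(Z_J), MZ S`;
* **`false_topF2`** : helper343's `exists_top` (`⟨C_G(Z_J), L i⟩` normalises a 2-group `≠ 1`) against `nl_wd`.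
-/

set_option autoImplicit false
set_option linter.unusedSectionVars false

namespace Cfsg.Agent.Omega.NOThreeL.QWR.TopF2

open Subgroup Cfsg Cfsg.Agent.Omega.MinPar Cfsg.Agent.Omega.Frame Cfsg.Agent.ZN.ChoiceBase Cfsg.Agent.ZN.ChoiceSit
open Cfsg.Agent.ZN (zc zl o2 jj)
open Cfsg.Agent.Omega.OM.Lev.Uni (FrL)
open Cfsg.Agent.Omega.OM.SwapK (WL BK ZK)
open Cfsg.Agent.Omega.NOThreeL.RTree (RB)
open Cfsg.Agent.Omega.NOThreeL.RZ (RR)
open Cfsg.Agent.Omega.NOThreeL.RRed (Wd)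
open Cfsg.Agent.Omega.NOThreeL.RRed.FourTree (Bks LevX nxtX)
open Cfsg.Agent.Omega.NOThreeL.Merge (MZ)
open Cfsg.Agent.Omega.NOThreeL.QWR.Sw (LtV OffR)
open Cfsg.Agent.Omega.NOThreeL.QWR.FrTop (QT zv_eq bv_eq)
open Cfsg.Agent.Omega.NO3b.Wc (WC)
open Cfsg.Agent.Omega.NO3b.EZero (cl)

universe u

variable {G : Type u} [Group G] [Finite G] {S : Sylow 2 G}

omit [Finite G] in
theorem cl_eq (V F : Subgroup G) : cl V F = NoFF.Basic.V V F := rfl

section off

variable {ι : Type} [Finite ι] {L W Z C A : ι → Subgroup G}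

/-- **THEOREM QW** at `(Q, V*)`, `|Z| ≥ 4`, `q = 2`. -/
theorem offR (R : RB S) (ml : ML.Final.MLK.{u, u}) (h4 : 4 ≤ Nat.card (zc (S : Subgroup G)))
    (rq : RQ S (MZ (S : Subgroup G))) (wl : WL S (QT (S : Subgroup G)))
    (hz : zc (QT (S : Subgroup G)) = Wd (S : Subgroup G))
    (fr : FrL (BK (S : Subgroup G) (QT (S : Subgroup G))) (QT (S : Subgroup G)) (Wd (S : Subgroup G))
      (Wd (S : Subgroup G)) (ZK (S : Subgroup G) (QT (S : Subgroup G))) L W Z C A 2)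
    (hL : ∀ i, L i ≤ MZ (S : Subgroup G)) {M : Subgroup G} (hM : IsLoc (S : Subgroup G) M)
    (hD : centralizer (ZK (S : Subgroup G) (QT (S : Subgroup G)) : Set G) ≤ M) (hP : MZ (S : Subgroup G) ≤ M) :
    OffR S (Wd (S : Subgroup G)) (QT (S : Subgroup G)) := by
  intro T F hT hB hTS hmin hc2 hFZ hj hQ hmv
  have eZ : ZK (S : Subgroup G) (QT (S : Subgroup G)) = ZZ (S : Subgroup G) (MZ (S : Subgroup G)) := zv_eq wl.lev hz
  have eB : BK (S : Subgroup G) (QT (S : Subgroup G)) = BB (S : Subgroup G) (MZ (S : Subgroup G)) := bv_eq wl.lev hz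
  have hZV : ZK (S : Subgroup G) (QT (S : Subgroup G)) ≤ Wd (S : Subgroup G) := by
    rw [eZ]
    exact ZZ_le _ _
  have wr : WR S (MZ (S : Subgroup G)) T F :=
    { rq := rq
      TS := hTS
      QT := wl.K₀B.trans hB
      syl := hT
      min := hmin
      c2 := hc2
      mvL := fun hle => hmv (hle.trans (centralizer_le (by exact_mod_cast hZV)))
      nQ := hQ
      jY := hj }
  have lowz := LowZ.lowz R wl hz.ge fr hL
  rw [eB] at fr hB
  rw [eZ] at hD hmv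
  obtain ⟨A, hA, hb, -, hn⟩ := AlphaOf.exists_best R ml h4 fr lowz wr hB hFZ hM hP hD hmv
  exact ⟨A, hA, hb, hn⟩

end off

section blocks

variable {I : Type u} [Fintype I] [DecidableEq I] {N E : I → Subgroup G} {Om : I → Type u}
  [∀ i, Fintype (Om i)] [∀ i, DecidableEq (Om i)] {phi : ∀ i, Finset (Om i) → G}

/-- **The top level is impossible**, `𝔽₂`-blocks. -/
theorem false_topF2 (ml : ML.Final.MLK.{u, u}) (R : RB S) (hr : RR (S : Subgroup G) = ⊥) (hB : Bks S N E ⊥ Om phi)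
    (h4 : 4 ≤ Nat.card (zc (S : Subgroup G)))
    (irr : ∀ U : Subgroup G, U ≤ Wd (S : Subgroup G) → MZ (S : Subgroup G) ≤ normalizer (U : Set G) → U ≠ ⊥ →
      Wd (S : Subgroup G) ≤ U) (rq : RQ S (MZ (S : Subgroup G)))
    (hl : LevX (S : Subgroup G) (QT (S : Subgroup G)) (Wd (S : Subgroup G)))
    (wc : WC (S : Subgroup G) (QT (S : Subgroup G)))
    (hz : zc (QT (S : Subgroup G)) = Wd (S : Subgroup G)) : False := by
  obtain ⟨ι, _, L, W, Z, C, A, -, -, hL, fr, -, U, hU1, hU2, hD, hLU⟩ := RRed.BFr.exists_top ml R hr hB h4 irr hl hz.le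
  have wl : WL S (QT (S : Subgroup G)) := ⟨wc, hl.toLev⟩
  have eZ : ZK (S : Subgroup G) (QT (S : Subgroup G)) = ZV (S : Subgroup G) := zv_eq wl.lev hz
  have eB : BK (S : Subgroup G) (QT (S : Subgroup G)) = BV (S : Subgroup G) := bv_eq wl.lev hz
  have fr' : FrL (BK (S : Subgroup G) (QT (S : Subgroup G))) (QT (S : Subgroup G)) (Wd (S : Subgroup G))
      (Wd (S : Subgroup G)) (ZK (S : Subgroup G) (QT (S : Subgroup G))) L W Z C A 2 := by
    rw [eZ, eB]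
    exact fr
  refine hU1 (NlWd.nl_wd R wl hz fr' hL (fun M hM hDM _ _ hP => offR R ml h4 rq wl hz fr' hL hM hDM hP) hU2 ?_ hLU)
  rw [eZ]
  exact hD

end blocks

end Cfsg.Agent.Omega.NOThreeL.QWR.TopF2
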