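import Cfsg.Agent.Omega.NOThreeL.QWR.TopQOf
import Cfsg.Agent.Omega.NOThreeL.RLev.TopSeed
import Cfsg.Agent.Omega.NOThreeL.RLev.VXStep

/-!
# NO-3L, box R, one class, natural blocks, `q ≥ 4`: the level `TopH S` and the local case

* `topH_of`, `topQ_vx` : over `RLev.VX S`;
* `topH` : `TopH S`; **`topQ`** : the local case at the top level, no hypothesis but MLK, AbsP.
-/

set_option autoImplicit false
set_option linter.unusedSectionVars false

namespace Cfsg.Agent.Omega.NOThreeL.QWR.TopQOf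

open Subgroup Cfsg Cfsg.Agent.ZN.ChoiceBase Cfsg.Agent.ZN.ChoiceSit Cfsg.Agent.Omega.MinPar Cfsg.Agent.Omega.Frame
open Cfsg.Agent.ZN (jj zc zl o2)
open Cfsg.Agent.Omega.FrameNOFF (CZ)
open Cfsg.Agent.Omega.ML.Final (MLK)
open Cfsg.Agent.Omega.NO3b.EndX (AbsP)
open Cfsg.Agent.Omega.NOThreeL.RTreeF (RBF)
open Cfsg.Agent.Omega.NOThreeL.RRed (Wd)
open Cfsg.Agent.Omega.NOThreeL.RRed.WideTree (NBs Src Wide CM)
open Cfsg.Agent.Omega.NOThreeL.RRed.QFr.Top (TopH)

universe u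

variable {G : Type u} [Group G] [Finite G] {S : Sylow 2 G} {X : Subgroup G}

theorem topH_of_top (t : RLev.Top S) : TopH S := ⟨t.wc, t.zcQ⟩

section nbs

variable {ι : Type u} {N E D l : ι → Subgroup G}

/-- `TopH S` from `VX S` -/
theorem topH_of (ml : MLK.{u, u}) (ha : AbsP.{u, u}) (h : RBF S)
    (hj : jj (S : Subgroup G) ≤ centralizer (Wd (S : Subgroup G) : Set G)) {q : ι → ℕ}
    (hN : NBs (S : Subgroup G) N E D l q) (hs : Src (S : Subgroup G) N l q) (vx : RLev.VX S) : TopH S :=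
  topH_of_top (RLev.top_of ml ha h hj vx (RLev.seedQ_src ml ha h hj hN hs))

/-- **The local case at the top level, `q ≥ 4`, over `VX S`.** -/
theorem topQ_vx [Finite ι] {q : ℕ} (ml : MLK.{u, u}) (ha : AbsP.{u, u}) (hF : RBF S) (h : Wide S)
    (hC : CM (S : Subgroup G) (fun _ : PUnit.{u + 1} => Wd (S : Subgroup G)))
    (hN : NBs (S : Subgroup G) N E D l (fun _ => q)) (hs : Src (S : Subgroup G) N l (fun _ => q)) (hq : 4 ≤ q)
    (hj : jj (S : Subgroup G) ≤ centralizer (Wd (S : Subgroup G) : Set G)) (vx : RLev.VX S)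
    (hl : IsLoc (S : Subgroup G) X) (hz : CZ (S : Subgroup G) ≤ X)
    (hor : (∀ b, centralizer ((⨆ c : {c : ι // c ≠ b}, l c : Subgroup G) : Set G) ≤ X) ∨
      (8 ≤ q ∧ ∀ b, D b ≤ X)) : False :=
  topQ_false ml ha h hC hN hs hq hj (topH_of ml ha hF hj hN hs vx) hl hz hor

/-- **`TopH S`** -/
theorem topH [Finite ι] {q : ℕ} (ml : MLK.{u, u}) (ha : AbsP.{u, u}) (h : RBF S)
    (hC : CM (S : Subgroup G) (fun _ : PUnit.{u + 1} => Wd (S : Subgroup G)))
    (hN : NBs (S : Subgroup G) N E D l (fun _ => q)) (hs : Src (S : Subgroup G) N l (fun _ => q)) (hq : 4 ≤ q)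
    (hj : jj (S : Subgroup G) ≤ centralizer (Wd (S : Subgroup G) : Set G)) : TopH S :=
  topH_of ml ha h hj hN hs (RLev.VXStep.vx h.toRB hN hs hq hC)

/-- **The local case at the top level, `q ≥ 4`.** -/
theorem topQ [Finite ι] {q : ℕ} (ml : MLK.{u, u}) (ha : AbsP.{u, u}) (hF : RBF S) (h : Wide S)
    (hC : CM (S : Subgroup G) (fun _ : PUnit.{u + 1} => Wd (S : Subgroup G)))
    (hN : NBs (S : Subgroup G) N E D l (fun _ => q)) (hs : Src (S : Subgroup G) N l (fun _ => q)) (hq : 4 ≤ q)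
    (hj : jj (S : Subgroup G) ≤ centralizer (Wd (S : Subgroup G) : Set G))
    (hl : IsLoc (S : Subgroup G) X) (hz : CZ (S : Subgroup G) ≤ X)
    (hor : (∀ b, centralizer ((⨆ c : {c : ι // c ≠ b}, l c : Subgroup G) : Set G) ≤ X) ∨
      (8 ≤ q ∧ ∀ b, D b ≤ X)) : False :=
  topQ_false ml ha h hC hN hs hq hj (topH ml ha hF hC hN hs hq hj) hl hz hor

end nbs

end Cfsg.Agent.Omega.NOThreeL.QWR.TopQOf
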