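import Cfsg.Agent.Omega.NOThreeL.QWR.TopM
import Cfsg.Agent.Omega.NOThreeL.QWR.FrontV
import Cfsg.Agent.Omega.NOThreeL.RLev.HatEnd

/-!
# NO-3L, box R, one class, the level `(Q, V*)`: `TopM` from helper940's front

`Q = C_S(V*)` is a level (weakly closed) and `N_G(Q) ≤ N_G(V*)`: then every local `M ≥ N_G(V*), C_G(Z_J)` with
`⟨V*^F⟩ ≤ O₂(M)` is a `TopM` for blocks `E b ≤ N_G(V*)` (`topM_of`), and `exists_topM_of` gives such an `M` from a local
`L ≥ C_G(Z)` with `V* ≤ ⟨Z^L⟩` and `J^n ≤ L` for all `n ∈ N_G(V*)` (helper982's XLe).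
-/

set_option autoImplicit false

namespace Cfsg.Agent.Omega.NOThreeL.QWR

open Subgroup Cfsg Cfsg.Agent.Omega.MinPar Cfsg.Agent.Omega.Frame Cfsg.Agent.Omega.FrameNOFF
open Cfsg.Agent.ZN (o2 zc zl jj)
open Cfsg.Agent.Omega.NO3S.Level (Lev)
open Cfsg.Agent.Omega.NOThreeL.Merge (MZ S_le_MZ)
open Cfsg.Agent.Omega.NOThreeL.RRed (Wd)
open Cfsg.Agent.Omega.NOThreeL.RRed.FourTree (nxtX LevX)
open Cfsg.Agent.Omega.NO3b.Wc (WC)
open Cfsg.Agent.MinSimple.VModule (zc_le_zl)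
open Cfsg.Agent.Omega.NOThreeL.RTree (RB)
open scoped Pointwise

universe u

variable {G : Type u} [Group G]

theorem ZV_le (S : Subgroup G) : ZV S ≤ Wd S := inf_le_left

theorem cS_le_BV (S : Subgroup G) : S ⊓ centralizer (Wd S : Set G) ≤ BV S :=
  le_inf inf_le_left (inf_le_right.trans (centralizer_le (ZV_le S)))

theorem BV_le (S : Subgroup G) : BV S ≤ S := inf_le_left

/-- `N_G(B) ≤ N_G(Q)` -/
theorem nB_le (S : Subgroup G) (h : Lev S (S ⊓ centralizer (Wd S : Set G))) :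
    normalizer (BV S : Set G) ≤ normalizer ((S ⊓ centralizer (Wd S : Set G) : Subgroup G) : Set G) :=
  h.norm _ (cS_le_BV S) (BV_le S)

variable [Finite G] {S : Sylow 2 G} {I : Type u} {E : I → Subgroup G} {M L : Subgroup G}

/-- **The adaptor.** -/
theorem topM_of (hl : Lev (S : Subgroup G) ((S : Subgroup G) ⊓ centralizer (Wd (S : Subgroup G) : Set G)))
    (hn : normalizer (((S : Subgroup G) ⊓ centralizer (Wd (S : Subgroup G) : Set G) : Subgroup G) : Set G) ≤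
      normalizer (Wd (S : Subgroup G) : Set G))
    (hE : ∀ b, E b ≤ normalizer (Wd (S : Subgroup G) : Set G)) (hM : IsLoc (S : Subgroup G) M)
    (nV : normalizer (Wd (S : Subgroup G) : Set G) ≤ M) (cz : centralizer (ZV (S : Subgroup G) : Set G) ≤ M)
    (hU : ∀ F : Subgroup G, F ≤ CZ (S : Subgroup G) → NoFF.Basic.V (Wd (S : Subgroup G)) F ≤ o2 M) : TopM S E M where
  loc := hM
  cz := cz
  E := fun b => (hE b).trans nV
  Y := (RRed.le_norm_Wd).trans nV
  nb := (nB_le (S : Subgroup G) hl).trans (hn.trans nV)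
  U := hU

/-- **`TopM` from a local `L`** (front of helper940 at `V = V*`, `J = nxtX S V*`). -/
theorem exists_topM_of (B : RB S)
    (hl : LevX (S : Subgroup G) ((S : Subgroup G) ⊓ centralizer (Wd (S : Subgroup G) : Set G)) (Wd (S : Subgroup G)))
    (wc : WC (S : Subgroup G) ((S : Subgroup G) ⊓ centralizer (Wd (S : Subgroup G) : Set G)))
    (hE : ∀ b, E b ≤ MZ (S : Subgroup G)) (hL : IsLoc (S : Subgroup G) L) (hC : CZ (S : Subgroup G) ≤ L)
    (hV : Wd (S : Subgroup G) ≤ zl (S : Subgroup G) L)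
    (hJ : ∀ n ∈ normalizer (Wd (S : Subgroup G) : Set G),
      MulAut.conj n • nxtX (S : Subgroup G) (Wd (S : Subgroup G)) ≤ L) :
    ∃ M : Subgroup G, TopM S E M ∧ normalizer (Wd (S : Subgroup G) : Set G) ≤ M := by
  have SV : (S : Subgroup G) ≤ normalizer (Wd (S : Subgroup G) : Set G) := (S_le_MZ B.ctx B.full).trans RRed.le_norm_Wd
  have zV : zc (S : Subgroup G) ≤ Wd (S : Subgroup G) := zc_le_zl _ _
  have hw : WC (S : Subgroup G) (nxtX (S : Subgroup G) (Wd (S : Subgroup G))) := RLev.HatEnd.wc_nxtX wc hl.Xle hl.Xn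
  obtain ⟨M, h1, h2, h3, h4⟩ := FrontV.front B.ctx.char2 hL hC hV SV zV hw.le (fun n _ h => hw.eq n h) hJ
  exact ⟨M, topM_of hl.toLev hl.Xn (fun b => (hE b).trans RRed.le_norm_Wd) h1 h2 h3 h4, h2⟩

end Cfsg.Agent.Omega.NOThreeL.QWR
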