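import Cfsg.Agent.Omega.NOThreeL.RRed.FullSup
import Cfsg.Agent.Omega.NOThreeL.RRed.FourTree
import Cfsg.Agent.Omega.NOThreeL.RRed.TvOrbs

/-!
# NO-3L, box R: `V* ≤ ⟨Z^L⟩` if the groups of all blocks lie in `L`

* `wd_le_zl_of` : over 455's `Dec` + `Orbs` (letters, naturals, mixed);
* `wd_le_zl_nbs` : natural blocks (`NBs`), `D b ≤ L`;
* `wd_le_zl_bks` : letter blocks (`Bks`), `E b ≤ L`.
-/

set_option autoImplicit false

namespace Cfsg.Agent.Omega.NOThreeL.QWR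

open Subgroup Cfsg Cfsg.Agent.ZN
open Cfsg.Agent.Omega.NOThreeL.Merge (MZ)
open Cfsg.Agent.Omega.NOThreeL.RTree (RB)
open Cfsg.Agent.Omega.NOThreeL.RRed (Wd)
open Cfsg.Agent.Omega.NOThreeL.RRed.Blk
open Cfsg.Agent.Omega.NOThreeL.RRed.WideTree (NatBlk NBs)
open Cfsg.Agent.Omega.NOThreeL.RZ.TwoC.DecE (Orbs PP)
open Cfsg.Agent.Omega.NOThreeL.RRed.FullSup (exists_full nbs_orbs nbs_hdif)
open scoped Pointwise

universe u v

variable {G : Type u} [Group G] [Finite G] {S : Sylow 2 G} {ι : Type v} [Finite ι] {N E D : ι → Subgroup G}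
  {O : ι → Set G} {L : Subgroup G}

/-- **`V* ≤ ⟨Z^L⟩`** -/
theorem wd_le_zl_of (hB : RB S) (h : Dec (S : Subgroup G) (MZ (S : Subgroup G)) (Wd (S : Subgroup G)) N E ⊥)
    (o : Orbs (MZ (S : Subgroup G)) N E O) (DC : ∀ b c, b ≠ c → D b ≤ centralizer (N c : Set G))
    (tr : ∀ b, ∀ x ∈ O b, ∀ y ∈ O b, ∃ g ∈ D b, g * x * g⁻¹ = y)
    (dif : ∀ b, N b ≤ closure {g | ∃ x ∈ O b, ∃ y ∈ O b, g = y * x⁻¹}) (hD : ∀ b, D b ≤ L) :
    Wd (S : Subgroup G) ≤ zl (S : Subgroup G) L := by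
  rw [← h.sup, sup_bot_eq]
  refine iSup_le fun b => (dif b).trans ?_
  rw [closure_le]
  rintro _ ⟨x, hx, y, hy, rfl⟩
  obtain ⟨z, hz, hz2, -⟩ := exists_full hB h o (J := Set.univ) (fun _ _ _ _ _ _ => trivial) ⟨b, trivial⟩
  obtain ⟨n, hn, hnN, hw⟩ := hz.2 b trivial
  obtain ⟨g, hg, hgx⟩ := tr b n hn x hx
  obtain ⟨k, hk, hky⟩ := tr b n hn y hy
  have hC : D b ≤ centralizer (Co N ⊥ b : Set G) := by
    rw [le_centralizer_iff]
    refine sup_le (iSup_le fun c => ?_) bot_le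
    rw [le_centralizer_iff]
    exact DC b c (Ne.symm c.2)
  have key : ∀ d ∈ D b, d * z * d⁻¹ = d * n * d⁻¹ * (n⁻¹ * z) := by
    intro d hd
    have h1 := mem_centralizer_iff.1 (hC hd) _ hw
    calc d * z * d⁻¹ = d * n * (n⁻¹ * z * d⁻¹) := by group
      _ = d * n * (d⁻¹ * (d * (n⁻¹ * z)) * d⁻¹) := by group
      _ = d * n * (d⁻¹ * (n⁻¹ * z * d) * d⁻¹) := by rw [h1]
      _ = d * n * d⁻¹ * (n⁻¹ * z) := by group
  have hmem : ∀ d ∈ D b, d * z * d⁻¹ ∈ zl (S : Subgroup G) L := fun d hd =>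
    (mem_normalizer_iff.1 (MinSimple.VModule.le_normalizer_zl _ L (hD b hd)) z).1
      (MinSimple.VModule.zc_le_zl _ L hz2.2)
  have h3 : y * x⁻¹ = k * z * k⁻¹ * (g * z * g⁻¹)⁻¹ := by
    rw [key k hk, key g hg, hgx, hky]
    group
  rw [h3]
  exact mul_mem (hmem k hk) (inv_mem (hmem g hg))

end Cfsg.Agent.Omega.NOThreeL.QWR

namespace Cfsg.Agent.Omega.NOThreeL.QWR

open Subgroup Cfsg Cfsg.Agent.ZN
open Cfsg.Agent.Omega.NOThreeL.Merge (MZ)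
open Cfsg.Agent.Omega.NOThreeL.RTree (RB)
open Cfsg.Agent.Omega.NOThreeL.RRed (Wd)
open Cfsg.Agent.Omega.NOThreeL.RRed.Blk
open Cfsg.Agent.Omega.NOThreeL.RRed.WideTree (NatBlk NBs)
open Cfsg.Agent.Omega.NOThreeL.RRed.FullSup (nbs_orbs nbs_hdif)

universe u

variable {G : Type u} [Group G] [Finite G] {S : Sylow 2 G} {ι : Type u} [Finite ι] {N E D l : ι → Subgroup G}
  {q : ι → ℕ} {L : Subgroup G}

/-- natural blocks -/
theorem wd_le_zl_nbs (hB : RB S) (h : NBs (S : Subgroup G) N E D l q) (hD : ∀ b, D b ≤ L) :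
    Wd (S : Subgroup G) ≤ zl (S : Subgroup G) L := by
  refine wd_le_zl_of hB h.dec (nbs_orbs h) (D := D) (fun b c hbc => (h.DE b).trans (h.dec.EC b c hbc)) (fun b => ?_)
    (nbs_hdif h) hD
  obtain ⟨F, _, _, _, e, -, hn⟩ := h.nat b
  intro x hx y hy
  exact RRed.FullSup.NatBlk_trans hn ((h.DE b).trans (h.dec.EN b)) hx.1 hx.2 hy.1 hy.2

variable {I : Type u} [Finite I] {N' E' : I → Subgroup G} {Om : I → Type u} [∀ i, Fintype (Om i)]
  [∀ i, DecidableEq (Om i)] {phi : ∀ i, Finset (Om i) → G}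

/-- letter blocks -/
theorem wd_le_zl_bks (hB : RB S) (h : RRed.FourTree.Bks S N' E' ⊥ Om phi) (hE : ∀ b, E' b ≤ L) :
    Wd (S : Subgroup G) ≤ zl (S : Subgroup G) L :=
  wd_le_zl_of hB h.toDec (RRed.TvTr.orbs h.toFull) (D := E') (fun b c hbc => h.toDec.EC b c hbc)
    (fun i _ hx _ hy => (RRed.TvTr.orbs h.toFull).tr i _ hx _ hy) (RRed.TvTr.hdif h.toFull) hE

end Cfsg.Agent.Omega.NOThreeL.QWR
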