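import Cfsg.Agent.Omega.NOThreeL.QWR.GlueQEnd
import Cfsg.Agent.Omega.NOThreeL.QWR.RQOf
import Cfsg.Agent.Omega.NOThreeL.QWR.WdLe
import Cfsg.Agent.Omega.NOThreeL.RRed.QFr.TopBlk
import Cfsg.Agent.Omega.NOThreeL.RRed.QFr.FrameD
import Cfsg.Agent.Omega.NOThreeL.RRed.QFr.TopOf

/-!
# NO-3L, box R, one class, natural blocks, `q ≥ 4`, the top level `(Q, V*)`: the local case is impossible

* `false_of_loc` : no local group `L ≥ C_G(Z), KQ` with `V* ≤ V_L` exists (`M := N_G(O₂(KQ))`);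
* **`topQ_false`** : `J(S)` centralises `V*`, `L ≥ C_G(Z)` local, and either all `C_G(l c : c ≠ b) ≤ L`, or `8 ≤ q` and all
  `D b ≤ L` : contradiction.
-/

set_option autoImplicit false
set_option linter.unusedSectionVars false

namespace Cfsg.Agent.Omega.NOThreeL.QWR.TopQOf

open Subgroup Cfsg Cfsg.Agent.ZN.ChoiceBase Cfsg.Agent.ZN.ChoiceSit Cfsg.Agent.Omega.MinPar Cfsg.Agent.Omega.Frame
open Cfsg.Agent.ZN (jj zj bau zc zl o2)
open Cfsg.Agent.Omega.FrameNOFF (CZ)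
open Cfsg.Agent.Omega.ML.Final (MLK)
open Cfsg.Agent.Omega.NO3b.EZero (cl cl_le)
open Cfsg.Agent.Omega.NO3S.Level (lev Lev nxt)
open Cfsg.Agent.Omega.OM.SwapK (WL BK ZK)
open Cfsg.Agent.Omega.OM.SwapV.Q.UniK (KQ cent_le_KQ)
open Cfsg.Agent.Omega.NOThreeL.RTree (RB)
open Cfsg.Agent.Omega.NOThreeL.Merge (MZ)
open Cfsg.Agent.Omega.NOThreeL.RRed (Wd)
open Cfsg.Agent.Omega.NOThreeL.RRed.WideTree (NBs Src Wide CM)
open Cfsg.Agent.Omega.NO3b.EndX (AbsP)
open Cfsg.Agent.Omega.NOThreeL.RRed.QFr.Top (Qv TopH TopQ mz_le)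
open Cfsg.Agent.Omega.NOThreeL.QWR.GlueQ (top_false_q NQ)

universe u

variable {G : Type u} [Group G] [Finite G] {S : Sylow 2 G} {X : Subgroup G}

section loc

variable {ι : Type} [Finite ι] {L W Z C A : ι → Subgroup G} {q : ℕ}

/-- **The local case from `KQ ≤ X`, `V* ≤ V_X`.** -/
theorem false_of_loc [Nonempty ι] (B : RB S) (rq : RQ S (MZ (S : Subgroup G))) (th : TopH S)
    (tq : TopQ S L W Z C A q) (hq : 4 ≤ q) (hl : IsLoc (S : Subgroup G) X) (hz : CZ (S : Subgroup G) ≤ X)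
    (hK : KQ (S : Subgroup G) (Qv S) ≤ X) (hW : Wd (S : Subgroup G) ≤ zl (S : Subgroup G) X) : False := by
  have wl : WL S (Qv S) := GlueQ.wl_of th rq.jQ
  have hS : Syl (S : Subgroup G) X := ⟨hl.le, S.isPGroup', fun Q _ h2 h3 => S.3 h2 h3⟩
  have hzl : zl (S : Subgroup G) X ≤ zc (o2 X) :=
    MinSimple.VModule.zl_le_zc hl.le S.isPGroup' (syl_not_dvd hS) (hl.char2 S B.ctx.char2)
  have hZW : ZK (S : Subgroup G) (Qv S) ≤ Wd (S : Subgroup G) := by
    rw [← th.zc]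
    exact wl.lev.zc_le_zc (NO3S.Level.le_nxt wl.lev.le) (NO3S.Level.nxt_le _ _)
  have hc : o2 X ≤ centralizer (ZK (S : Subgroup G) (Qv S) : Set G) :=
    (NO3S.Level.le_centralizer_zc _).trans (centralizer_le (by exact_mod_cast hZW.trans (hW.trans hzl)))
  have ho : o2 X ≤ o2 (KQ (S : Subgroup G) (Qv S)) := OM.SwapV.Q.UniK.o2_le_KQ hK hc
  obtain ⟨h1, h2, h3⟩ := OM.SwapV.Q.UniK.dich wl (tq.frK th) tq.nQ (isPGroup_o2 X) hl.o2_ne
    (hK.trans (le_normalizer_o2 X))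
  set M : Subgroup G := normalizer (o2 (KQ (S : Subgroup G) (Qv S)) : Set G) with hM
  have hN : normalizer (BK (S : Subgroup G) (Qv S) : Set G) ≤ M := le_sup_right.trans h3
  have hKM : KQ (S : Subgroup G) (Qv S) ≤ M := le_sup_left.trans h3
  have hoM : o2 (KQ (S : Subgroup G) (Qv S)) ≤ o2 M := le_o2 (isPGroup_o2 _) le_normalizer le_rfl
  have hlM : IsLoc (S : Subgroup G) M := by
    refine ⟨(wl.lb.two_le S.isPGroup' wl.lb.BS).trans hN, fun e => h1 ?_⟩
    rw [eq_bot_iff, ← e]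
    exact hoM
  refine top_false_q B rq th tq hq hlM (cent_le_KQ.trans hKM) ((mz_le B wl).trans h3) hN ?_ fun F hF => ?_
  · exact fun T Y hT hB hP hch hn _ hZ => (OM.SwapV.Q.UniK.par_le wl hT hB hP hch hn hZ).trans h3
  · have hn : X ≤ normalizer (zl (S : Subgroup G) X : Set G) := ZN.le_normalizer_zl _ _
    exact (((cl_le fun f hf => by
      have h4 := cj_mono f hW
      rwa [cj_eq_of_mem_normalizer (hn (hz (hF hf)))] at h4).trans (hzl.trans (zc_le _))).trans ho).trans hoM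

end loc

section nbs

variable {ι : Type u} [Finite ι] {N E D l : ι → Subgroup G} {q : ℕ}

/-- `TopQ B` of helper739, over the top level `TopH S`. -/
theorem topQ_false (ml : MLK.{u, u}) (ha : AbsP.{u, u}) (h : Wide S)
    (hC : CM (S : Subgroup G) (fun _ : PUnit.{u + 1} => Wd (S : Subgroup G)))
    (hN : NBs (S : Subgroup G) N E D l (fun _ => q)) (hs : Src (S : Subgroup G) N l (fun _ => q)) (hq : 4 ≤ q)
    (hj : jj (S : Subgroup G) ≤ centralizer (Wd (S : Subgroup G) : Set G)) (th : TopH S)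
    (hl : IsLoc (S : Subgroup G) X) (hz : CZ (S : Subgroup G) ≤ X)
    (hor : (∀ b, centralizer ((⨆ c : {c : ι // c ≠ b}, l c : Subgroup G) : Set G) ≤ X) ∨
      (8 ≤ q ∧ ∀ b, D b ≤ X)) : False := by
  classical
  have B : RB S := h.toRB
  have wl : WL S (Qv S) := RRed.QFr.Top.wl_of th hj
  have rq : RQ S (MZ (S : Subgroup G)) := RQOf.rq_src ml ha h hC hN hs hj th.wc th.zc.le
  -- `Z ≤ Z_J ≤ V*`
  have hzZ : zc (S : Subgroup G) ≤ ZK (S : Subgroup G) (Qv S) := wl.lev.next.zc_le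
  have hZW : ZK (S : Subgroup G) (Qv S) ≤ Wd (S : Subgroup G) := by
    rw [← th.zc]
    exact wl.lev.zc_le_zc (NO3S.Level.le_nxt wl.lev.le) (NO3S.Level.nxt_le _ _)
  have hne : Nonempty ι := by
    by_contra hcon
    have hI : IsEmpty ι := not_nonempty_iff.1 hcon
    have h1 := hN.dec.sup
    rw [iSup_of_empty, bot_sup_eq] at h1
    have h2 : zc (S : Subgroup G) = ⊥ := by
      rw [eq_bot_iff, h1]
      exact hzZ.trans hZW
    have h3 := h.four_le
    rw [h2, Subgroup.card_bot] at h3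
    omega
  set f : Fin (Nat.card ι) ≃ ι := (Finite.equivFin ι).symm with hf
  have hne' : Nonempty (Fin (Nat.card ι)) := ⟨f.symm hne.some⟩
  obtain ⟨Lb, A, tq, -, hLD⟩ := RRed.QFr.Top.exists_top' B (RRed.QFr.OfNBs.bq_of B hN hs hq hC f) th
    (RRed.QFr.Top.exists_off hs) (RRed.QFr.Top.wd_sup hN hs)
  have hD : centralizer (ZK (S : Subgroup G) (Qv S) : Set G) ≤ X := (centralizer_le hzZ).trans hz
  have hDX : ∀ b, D b ≤ X := by
    rcases hor with h1 | h1
    · refine fun b => le_trans (le_centralizer_iff.1 (iSup_le fun c => le_centralizer_iff.1 ?_)) (h1 b)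
      refine ((hN.DE b).trans (hN.dec.EC b c (Ne.symm c.2))).trans (centralizer_le ?_)
      exact_mod_cast RRed.GOne.l_le hN c
    · exact h1.2
  have hK : KQ (S : Subgroup G) (Qv S) ≤ X := by
    rcases hor with h1 | h1
    · refine tq.kq_le th wl fun i => le_trans (centralizer_le ?_) (h1 (f i))
      have h2 : (⨆ c : {c : ι // c ≠ f i}, l c : Subgroup G) ≤ ⨆ j : {j // j ≠ i}, l (f j) := by
        refine iSup_le fun c => ?_
        have h3 : l (c : ι) = l (f (f.symm c)) := by rw [f.apply_symm_apply]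
        rw [h3]
        exact le_iSup (fun j : {j // j ≠ i} => l (f j)) ⟨f.symm c, fun e => c.2 (f.symm_apply_eq.1 e)⟩
      exact_mod_cast h2
    · exact tq.kq_leD th wl h1.1 hLD hD fun i => h1.2 (f i)
  exact false_of_loc B rq th tq hq hl hz hK (wd_le_zl_nbs B hN hDX)

end nbs

end Cfsg.Agent.Omega.NOThreeL.QWR.TopQOf
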