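import Cfsg.Agent.Omega.OM.SwapV.MainN
import Cfsg.Agent.Omega.NOThreeL.QWR.Sw.Two
import Cfsg.Agent.Omega.NOThreeL.QWR.LowM
import Cfsg.Agent.Omega.OM.Lev.UniPlus

/-!
# NO-3L, box R, one class, the level `(Q, V*)`, `q = 2`: `C_G(Ω₁Z(S)) ≤ M`

* `blk_le` : every FF-block over `B` with its module in `V = Ω₁Z(Q)` lies in `⟨C_G(Z_J), L i⟩` (UNI+);
* **`cz_le`** : `OffR S V Q` and `C_G(Z_J), L i, N_G(B) ≤ M` give `C_G(Ω₁Z(S)) ≤ M`.
-/

set_option autoImplicit false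
set_option linter.unusedSectionVars false

namespace Cfsg.Agent.Omega.NOThreeL.QWR.TopTwo

open Subgroup Cfsg Cfsg.Agent.ZN.ChoiceBase Cfsg.Agent.ZN.ChoiceSit
open Cfsg.Agent.ZN (zc o2)
open Cfsg.Agent.Omega.OM.SwapK (ZK BK)
open Cfsg.Agent.Omega.OM.Lev.Uni (FrL)
open Cfsg.Agent.Omega.OM.LevB (FBlk)
open Cfsg.Agent.Omega.OM.LevD (K0)
open Cfsg.Agent.Omega.NOThreeL.QWR.Sw (LtV OffR)

universe u

variable {G : Type u} [Group G] [Finite G] {S : Sylow 2 G} {V Q : Subgroup G} {ι : Type} [Finite ι]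
  {L W Z C A : ι → Subgroup G}

/-- **UNI+**: the FF-blocks over `B` with module in `V` lie in `⟨C_G(Z_J), L i⟩`. -/
theorem blk_le_sup (h : LtV S V Q) (fr : FrL (BK (S : Subgroup G) Q) Q V V (ZK (S : Subgroup G) Q) L W Z C A 2)
    {L' V' : Subgroup G} (hb : FBlk (BK (S : Subgroup G) Q) L' V') (hV : V' ≤ V) :
    L' ≤ centralizer (ZK (S : Subgroup G) Q : Set G) ⊔ ⨆ i, L i := by
  obtain ⟨⟨Z', q', hF⟩, -⟩ := hb
  have hp : ∀ g ∈ normalizer (BK (S : Subgroup G) Q : Set G), ∀ j, ∃ k, cj g (Z j) = Z k := by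
    intro g hg j
    obtain ⟨k, hk, -⟩ := (h.norm fr hg).2 j
    exact ⟨k, hk⟩
  obtain ⟨-, i, -, -, -, -, h2⟩ := OM.Lev.UniPlus.uniPlusX fr h.lb.Bp h.wcB hp hF hV
  refine (h2 rfl).2.trans (sup_le (le_sup_of_le_right (le_iSup L i)) (le_sup_of_le_left (centralizer_le ?_)))
  exact_mod_cast (le_sup_right : ZK (S : Subgroup G) Q ≤ W i ⊔ ZK (S : Subgroup G) Q)

theorem blk_le (h : LtV S V Q) (fr : FrL (BK (S : Subgroup G) Q) Q V V (ZK (S : Subgroup G) Q) L W Z C A 2)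
    {M : Subgroup G} (hD : centralizer (ZK (S : Subgroup G) Q : Set G) ≤ M) (hL : ∀ i, L i ≤ M)
    (L' V' : Subgroup G) (hb : FBlk (BK (S : Subgroup G) Q) L' V') (hV : V' ≤ zc Q) : L' ≤ M :=
  (blk_le_sup h fr hb (hV.trans h.zcQ.le)).trans (sup_le hD (iSup_le hL))

/-- **THEOREM SW at `(Q, V)`**: `C_G(Ω₁Z(S)) ≤ M`. -/
theorem cz_le (h : LtV S V Q) (fr : FrL (BK (S : Subgroup G) Q) Q V V (ZK (S : Subgroup G) Q) L W Z C A 2)
    (ho : OffR S V Q) {M : Subgroup G} (hN : normalizer (BK (S : Subgroup G) Q : Set G) ≤ M)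
    (hL : ∀ i, L i ≤ M) (hD : centralizer (ZK (S : Subgroup G) Q : Set G) ≤ M) (hS1 : (S : Subgroup G) ≠ ⊥) :
    centralizer (zc (S : Subgroup G) : Set G) ≤ M := by
  have hc := h.crA fr ho
  obtain ⟨c, hcJ, hcf⟩ := hc.exists_full
  exact hc.cz_leN (LowM.bmh_of h.wl fr h.zcQ (fun T F a b c d e f g h i _ => ho T F a b c d e f g h i)
    (hc.full_mem hcJ hcf) hcf (blk_le h fr hD hL) hN) hL hD hN hS1

end Cfsg.Agent.Omega.NOThreeL.QWR.TopTwo
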