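import Cfsg.Agent.Omega.NOThreeL.QWR.AlphaOf
import Cfsg.Agent.Omega.NOThreeL.QWR.Glue

/-!
# Box R, top level `(Q, V*)`, `|Z| ≥ 4`, `q = 2`: helper194's `UM S M` and `nl`
-/

set_option autoImplicit false
set_option linter.unusedSectionVars false

namespace Cfsg.Agent.Omega.NOThreeL.QWR.UmOf

open Subgroup Cfsg Cfsg.Agent.Omega.MinPar
open Cfsg.Agent.ZN (zc)
open Cfsg.Agent.Omega.ML.Final (MLK)
open Cfsg.Agent.Omega.OM.Lev.Uni (FrL)
open Cfsg.Agent.Omega.OM.SwapK (WL BK ZK)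
open Cfsg.Agent.Omega.NOThreeL.RTree (RB)
open Cfsg.Agent.Omega.NOThreeL.RRed (Wd)
open Cfsg.Agent.Omega.NOThreeL.Merge (MZ)
open Cfsg.Agent.Omega.NOThreeL.QWR.FrTop (QT)
open Cfsg.Agent.Omega.NOThreeL.QWR.Glue (UM)

universe u

variable {G : Type u} [Group G] [Finite G] {S : Sylow 2 G} {ι : Type} [Finite ι] {L W Z C A : ι → Subgroup G}
  {X : Subgroup G}

/-- **`UM S M`** for every local `M ≥ MZ S`. -/
theorem um_of (R : RB S) (ml : MLK.{u, u}) (h4 : 4 ≤ Nat.card (zc (S : Subgroup G)))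
    (wl : WL S (QT (S : Subgroup G))) (hz : zc (QT (S : Subgroup G)) = Wd (S : Subgroup G))
    (fr : FrL (BK (S : Subgroup G) (QT (S : Subgroup G))) (QT (S : Subgroup G)) (Wd (S : Subgroup G)) X
      (ZK (S : Subgroup G) (QT (S : Subgroup G))) L W Z C A 2)
    (hL : ∀ i, L i ≤ MZ (S : Subgroup G)) {M : Subgroup G} (hM : IsLoc (S : Subgroup G) M)
    (hP : MZ (S : Subgroup G) ≤ M) : UM S M := fun _ _ h _ hF _ neg =>
  AlphaOf.hUM_of R ml h4 (by rw [bb_eq wl.lev hz]; exact fr) (LowZ.lowz R wl hz.ge fr hL) h hF hM hP neg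

/-- **`nl` at the top level**, `|Z| ≥ 4`, `q = 2`. -/
theorem nl_four (B : RB S) (ml : MLK.{u, u}) (h4 : 4 ≤ Nat.card (zc (S : Subgroup G)))
    (wl : WL S (QT (S : Subgroup G))) (hz : zc (QT (S : Subgroup G)) = Wd (S : Subgroup G))
    (rq : RQ S (MZ (S : Subgroup G)))
    (fr : FrL (BK (S : Subgroup G) (QT (S : Subgroup G))) (QT (S : Subgroup G)) (Wd (S : Subgroup G))
      (Wd (S : Subgroup G)) (ZK (S : Subgroup G) (QT (S : Subgroup G))) L W Z C A 2)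
    (hL : ∀ i, L i ≤ MZ (S : Subgroup G)) {R : Subgroup G} (hR : IsPGroup 2 R)
    (hD : centralizer (ZK (S : Subgroup G) (QT (S : Subgroup G)) : Set G) ≤ normalizer (R : Set G))
    (hLR : ∀ i, L i ≤ normalizer (R : Set G)) : R = ⊥ :=
  Glue.nl_top B wl hz rq fr hL (fun _ h1 _ h3 => um_of B ml h4 wl hz fr hL h1 h3) hR hD hLR

end Cfsg.Agent.Omega.NOThreeL.QWR.UmOf
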