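import Cfsg.Agent.Omega.NOThreeL.RRed.QFr.TopOf
import Cfsg.Agent.Omega.NOThreeL.QWR.FrontV

/-!
# Box R, one class, top level `(Q, V*)`, `q ≥ 4`: `X₁ ≤ L` (helper982; input `hJ` of helper940's `FrontV.front`)

`z ∈ V*`, `C_G(z) ≤ L`, all `D i ≤ L`.

* `le_of_card` : every `A` with `|V* : C_{V*}(A)| < |N i|` for all `i` lies in `L` (`C_{V*}(A)` contains an
  `L`-conjugate of `z`; no statement about `N_G(V*)`, `A₇` on `2⁴` included);
* `J_le` : `J ≤ ⟨the members acting on one block⟩ C_S(V*)`;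
* **`cj_J_le`** : `J^n ≤ L` for all `n ∈ N_G(V*)`;
* **`hJ_of`** : the same for `J = nxt S Q` from the data of v5; **`exists_M`** : the front at `(Q, V*)` for two orbits.
-/

set_option autoImplicit false
set_option linter.unusedSectionVars false

namespace Cfsg.Agent.Omega.NOThreeL.QWR.XLe

open Subgroup Cfsg Cfsg.Agent.ZN.ChoiceBase Cfsg.Agent.Omega.MinPar Cfsg.Agent.Omega.Frame Cfsg.Agent.Omega.FrameNOFF
open Cfsg.Agent.ZN (zc zl o2 jj)
open Cfsg.Agent.Omega.SQ1.Bau (elem_comm card_sup_comm)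
open Cfsg.Agent.Omega.FFThm (OffM)
open Cfsg.Agent.Omega.NO3S.OneLine (bo)
open Cfsg.Agent.Omega.NO3S.Level (nxt)
open Cfsg.Agent.Omega.OM.FourF (Act)
open Cfsg.Agent.Omega.NOThreeL.RTree
open Cfsg.Agent.Omega.NOThreeL.Merge (MZ)
open Cfsg.Agent.Omega.NOThreeL.RRed.WideTree (NBs Src CM)
open Cfsg.Agent.Omega.NOThreeL.RRed (Wd)
open Cfsg.Agent.Omega.NOThreeL.RRed.QFr
open Cfsg.Agent.Omega.NOThreeL.RRed.QFr.Top

open scoped Pointwise

universe u

variable {G : Type u} [Group G] [Finite G] {ι : Type} {S : Sylow 2 G} {M V : Subgroup G}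
  {N D l C : ι → Subgroup G} {q : ℕ}

/-- `D i` is transitive on `N i` minus `1` -/
theorem exists_tr (b : Bq S M V N D l C q) (i : ι) {w y : G} (hw : w ∈ N i) (hw1 : w ≠ 1) (hy : y ∈ N i)
    (hy1 : y ≠ 1) : ∃ d ∈ D i, d * w * d⁻¹ = y := by
  obtain ⟨F, _, _, _, e, -, c, s⟩ := b.nat i
  obtain ⟨v, hv, hve⟩ := c.surj (1, 0)
  have key : ∀ x ∈ N i, x ≠ 1 → ∃ g ∈ D i, g * v * g⁻¹ = x := by
    intro x hx hx1
    have he1 : e 1 = 0 := by
      have h1 := c.mul 1 (one_mem _) 1 (one_mem _)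
      rw [mul_one] at h1
      exact left_eq_add.1 h1
    have hne : e x ≠ 0 := fun h => hx1 (c.inj x hx 1 (one_mem _) (by rw [h, he1]))
    by_cases h1 : (e x).1 = 0
    · have h2 : (e x).2 ≠ 0 := fun h2 => hne (Prod.ext h1 h2)
      obtain ⟨g, hg, ha⟩ := s.lift 0 (-((e x).2)⁻¹) (e x).2 0 (by field_simp; ring)
      refine ⟨g, hg, c.inj _ (s.nD g hg v hv) x hx ?_⟩
      rw [ha v hv, hve]
      refine Prod.ext ?_ ?_
      · simp [h1]
      · simp
    · obtain ⟨g, hg, ha⟩ := s.lift (e x).1 0 (e x).2 ((e x).1)⁻¹ (by field_simp; ring)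
      refine ⟨g, hg, c.inj _ (s.nD g hg v hv) x hx ?_⟩
      rw [ha v hv, hve]
      simp
  obtain ⟨g, hg, rfl⟩ := key w hw hw1
  obtain ⟨k, hk, rfl⟩ := key y hy hy1
  exact ⟨k * g⁻¹, mul_mem hk (inv_mem hg), by group⟩

/-- `C_{N i}(A) ≠ 1` -/
theorem exists_ne_one (b : Bq S M V N D l C q) {A : Subgroup G} {i : ι}
    (hA : Nat.card V < Nat.card (N i) * Nat.card ↥(V ⊓ centralizer (A : Set G))) :
    ∃ y ∈ N i, y ≠ 1 ∧ y ∈ centralizer (A : Set G) := by
  by_contra hcon
  push Not at hcon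
  have h1 : N i ⊓ (V ⊓ centralizer (A : Set G)) = ⊥ := by
    rw [eq_bot_iff]
    rintro y ⟨hy, -, hyA⟩
    rw [mem_bot]
    by_contra hy1
    exact hcon y hy hy1 hyA
  have h2 := card_sup_comm (A := N i) (B := V ⊓ centralizer (A : Set G)) fun a ha x hx =>
    b.Vc (b.NV i ha) hx.1
  rw [h1, card_bot, mul_one] at h2
  have h3 : Nat.card ↥(N i ⊔ (V ⊓ centralizer (A : Set G))) ≤ Nat.card V :=
    Subgroup.card_le_of_le (sup_le (b.NV i) inf_le_left)
  omega

/-- **every `A` with `|V : C_V(A)| < |N i|` lies in `L`** -/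
theorem le_of_card [Finite ι] (b : Bq S M V N D l C q) {L : Subgroup G} {z : G} (hz : z ∈ V)
    (zL : centralizer ({z} : Set G) ≤ L) (DL : ∀ i, D i ≤ L) {A : Subgroup G}
    (hA : ∀ i, Nat.card V < Nat.card (N i) * Nat.card ↥(V ⊓ centralizer (A : Set G))) : A ≤ L := by
  classical
  have hfin : Fintype ι := Fintype.ofFinite ι
  have key : ∀ s : Finset ι, ∃ g ∈ L, g * z * g⁻¹ ∈ V ∧ ∃ x ∈ V ⊓ centralizer (A : Set G),
      (∀ i ∈ s, x⁻¹ * (g * z * g⁻¹) ∈ C i) ∧ ∀ i ∉ s, x ∈ C i := by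
    intro s
    induction s using Finset.induction_on with
    | empty =>
      exact ⟨1, one_mem _, by simpa using hz, 1, one_mem _, fun i hi => absurd hi (Finset.notMem_empty i),
        fun i _ => one_mem _⟩
    | insert i s hi ih =>
      obtain ⟨g, hg, hgV, x, hx, h1, h2⟩ := ih
      obtain ⟨w, hw, c, hc, e⟩ := b.WC i _ hgV
      have hxC := h2 i hi
      by_cases hw1 : w = 1
      · subst hw1
        refine ⟨g, hg, hgV, x, hx, fun j hj => ?_, fun j hj => h2 j fun h => hj (Finset.mem_insert_of_mem h)⟩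
        rcases Finset.mem_insert.1 hj with rfl | hj
        · rw [e, one_mul]
          exact mul_mem (inv_mem hxC) hc
        · exact h1 j hj
      · obtain ⟨y, hy, hy1, hyA⟩ := exists_ne_one b (hA i)
        obtain ⟨d, hd, hdw⟩ := exists_tr b i hw hw1 hy hy1
        have hdc : d * c * d⁻¹ = c := by rw [b.DC i d hd c hc]; group
        have e2 : d * g * z * (d * g)⁻¹ = y * c := by
          calc d * g * z * (d * g)⁻¹ = d * (g * z * g⁻¹) * d⁻¹ := by group
            _ = (d * w * d⁻¹) * (d * c * d⁻¹) := by rw [e]; group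
            _ = y * c := by rw [hdw, hdc]
        have hyV := b.NV i hy
        have hcV := b.CV i hc
        have hyx : y⁻¹ * x⁻¹ = x⁻¹ * y⁻¹ := b.Vc (inv_mem hyV) (inv_mem hx.1)
        have e3 : (x * y)⁻¹ * (d * g * z * (d * g)⁻¹) = x⁻¹ * c := by
          rw [e2, mul_inv_rev, hyx]; group
        refine ⟨d * g, mul_mem (DL i hd) hg, by rw [e2]; exact mul_mem hyV hcV, x * y,
          mul_mem hx (mem_inf.2 ⟨hyV, hyA⟩), fun j hj => ?_, fun j hj => ?_⟩
        · rw [e3]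
          rcases Finset.mem_insert.1 hj with rfl | hj
          · exact mul_mem (inv_mem hxC) hc
          · have hij : j ≠ i := fun h => hi (h ▸ hj)
            have h3 := h1 j hj
            have e4 : x⁻¹ * c = x⁻¹ * (g * z * g⁻¹) * w⁻¹ := by
              rw [e, b.Vc (b.NV i hw) hcV]; group
            rw [e4]
            exact mul_mem h3 (inv_mem (b.WjC j i hij hw))
        · have hij : j ≠ i := fun h => hj (h ▸ Finset.mem_insert_self i s)
          exact mul_mem (h2 j fun h => hj (Finset.mem_insert_of_mem h)) (b.WjC j i hij hy)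
  obtain ⟨g, hg, hgV, x, hx, h1, -⟩ := key Finset.univ
  have h2 : x⁻¹ * (g * z * g⁻¹) = 1 :=
    b.C0 _ (mul_mem (inv_mem hx.1) hgV) fun i => h1 i (Finset.mem_univ i)
  have h3 : x = g * z * g⁻¹ := inv_mul_eq_one.1 h2
  intro a ha
  have h4 : a * (g * z * g⁻¹) = g * z * g⁻¹ * a := by
    rw [← h3]
    exact mem_centralizer_iff.1 hx.2 a ha
  have h5 : g⁻¹ * a * g ∈ centralizer ({z} : Set G) := by
    refine mem_centralizer_singleton_iff.2 ?_
    calc g⁻¹ * a * g * z = g⁻¹ * (a * (g * z * g⁻¹)) * g := by group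
      _ = g⁻¹ * (g * z * g⁻¹ * a) * g := by rw [h4]
      _ = _ := by group
  have h6 := mul_mem (mul_mem hg (zL h5)) (inv_mem hg)
  have e : g * (g⁻¹ * a * g) * g⁻¹ = a := by group
  rwa [e] at h6

variable {L' J : Subgroup G} {AA : Set (Subgroup G)}

/-- `|V| = q² |C i|` -/
theorem card_V (b : Bq S M V N D l C q) (i : ι) : Nat.card V = q * q * Nat.card (C i) := by
  have h1 := card_sup_comm (A := N i) (B := C i) fun a ha x hx => b.Vc (b.NV i ha) (b.CV i hx)
  rw [b.dir i, card_bot, mul_one, b.card_N i] at h1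
  rw [← h1]
  congr 1
  have h2 : V = N i ⊔ C i := by
    refine le_antisymm (fun v hv => ?_) (sup_le (b.NV i) (b.CV i))
    obtain ⟨w, hw, c, hc, rfl⟩ := b.WC i v hv
    exact mul_mem ((le_sup_left : N i ≤ N i ⊔ C i) hw) ((le_sup_right : C i ≤ N i ⊔ C i) hc)
  rw [← h2]

/-- **`J^n ≤ L`.** -/
theorem cj_J_le [Finite ι] (h : Lq S M V N D l C q V L' J AA) {L : Subgroup G} {z : G} (hz : z ∈ V)
    (zL : centralizer ({z} : Set G) ≤ L) (DL : ∀ i, D i ≤ L) {n : G} (hn : n ∈ normalizer (V : Set G)) :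
    cj n J ≤ L := by
  classical
  have hfin : Fintype ι := Fintype.ofFinite ι
  have b := h.b
  -- the members acting on one block
  have hex : ∀ i, ∃ A ∈ AA, (∀ j, j ≠ i → A ≤ centralizer (N j : Set G)) ∧
      (∀ a ∈ A, ∀ c ∈ C i, a * c = c * a) ∧ (∀ a ∈ A, ∀ z ∈ l i, a * z = z * a) ∧
      (∀ a ∈ A, ∀ v ∈ N i, a * v * a⁻¹ ∈ N i) ∧ q * Nat.card ↥(A ⊓ centralizer (N i : Set G)) ≤ Nat.card A := h.exists_A
  choose P hP h1 h2 h3 h4 h5 using hex
  have hVC : centralizer (V : Set G) ≤ L := (centralizer_le (Set.singleton_subset_iff.2 hz)).trans zL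
  have hVn : cj n (centralizer (V : Set G)) = centralizer (V : Set G) := by
    rw [cj_centralizer, cj_eq_of_mem_normalizer hn]
  -- a conjugate of `P i` is in `L`
  have hPL : ∀ i, cj n (P i) ≤ L := by
    intro i
    refine le_of_card b hz zL DL fun j => ?_
    have hK : l i ⊔ C i ≤ V ⊓ centralizer (P i : Set G) := by
      refine sup_le (fun v hv => ⟨b.NV i (b.lN i hv), mem_centralizer_iff.2 fun a ha => h3 i a ha v hv⟩)
        fun c hc => ⟨b.CV i hc, mem_centralizer_iff.2 fun a ha => h2 i a ha c hc⟩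
    have h6 := card_sup_comm (A := l i) (B := C i) fun a ha x hx =>
      b.Vc (b.NV i (b.lN i ha)) (b.CV i hx)
    have h7 : l i ⊓ C i = ⊥ := by
      rw [eq_bot_iff, ← b.dir i]
      exact inf_le_inf_right _ (b.lN i)
    rw [h7, card_bot, mul_one, b.card_l i] at h6
    have h8 := Subgroup.card_le_of_le hK
    have h9 : Nat.card ↥(V ⊓ centralizer (cj n (P i) : Set G)) = Nat.card ↥(V ⊓ centralizer (P i : Set G)) := by
      rw [← card_cj n (V ⊓ centralizer (P i : Set G)), cj_inf, cj_centralizer, cj_eq_of_mem_normalizer hn]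
    rw [h9, b.card_N j, card_V b i]
    have hq := b.q4
    have hC0 : 0 < Nat.card (C i) := Nat.card_pos
    have h10 : q * Nat.card (C i) ≤ Nat.card ↥(V ⊓ centralizer (P i : Set G)) := h6 ▸ h8
    have h11 : 1 * Nat.card (C i) < q * Nat.card (C i) := Nat.mul_lt_mul_of_pos_right (by omega) hC0
    refine Nat.mul_lt_mul_of_pos_left ?_ (by positivity)
    omega
  -- every member is in `⟨P i⟩ C(V)`
  have hAP : ∀ A ∈ AA, A ≤ (⨆ i, P i) ⊔ centralizer (V : Set G) := by
    intro A hA a ha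
    have hpi : ∀ i, ∃ p ∈ P i, ∀ v ∈ N i, a * v * a⁻¹ = p * v * p⁻¹ := by
      intro i
      obtain ⟨F, _, _, _, e, hF, c, -⟩ := b.nat i
      obtain ⟨m, hm⟩ := c.up_of (h.AS hA ha) (h.A_cent_l hA i ha)
      obtain ⟨p, hp, hpm⟩ := c.full_of (h.AS (hP i)) (h4 i) (h3 i) (by rw [hF]; exact h5 i) m
      refine ⟨p, hp, fun v hv => c.inj _ (h.A_norm hA i ha v hv) _ (h4 i p hp v hv) ?_⟩
      rw [hm v hv, hpm v hv]
    choose p hp hpe using hpi
    have key : ∀ s : Finset ι, ∃ g ∈ ⨆ i, P i, ∀ i, (i ∈ s → ∀ v ∈ N i, g * v * g⁻¹ = a * v * a⁻¹) ∧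
        (i ∉ s → ∀ v ∈ N i, g * v * g⁻¹ = v) := by
      intro s
      induction s using Finset.induction_on with
      | empty =>
        exact ⟨1, one_mem _, fun i => ⟨fun hi => absurd hi (Finset.notMem_empty i), fun _ v _ => by simp⟩⟩
      | insert i s hi ih =>
        obtain ⟨g, hg, hgi⟩ := ih
        refine ⟨p i * g, mul_mem ((le_iSup P i) (hp i)) hg, fun j => ⟨fun hj v hv => ?_, fun hj v hv => ?_⟩⟩
        · have e1 : p i * g * v * (p i * g)⁻¹ = p i * (g * v * g⁻¹) * (p i)⁻¹ := by group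
          rw [e1]
          by_cases hji : j = i
          · subst hji
            rw [(hgi j).2 hi v hv, hpe j v hv]
          · have hjs : j ∈ s := (Finset.mem_insert.1 hj).resolve_left hji
            rw [(hgi j).1 hjs v hv]
            have h6 := mem_centralizer_iff.1 (h1 i j hji (hp i)) _ (h.A_norm hA j ha v hv)
            rw [← h6]; group
        · have hji : j ≠ i := fun e => hj (e ▸ Finset.mem_insert_self i s)
          have hjs : j ∉ s := fun h => hj (Finset.mem_insert_of_mem h)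
          have e1 : p i * g * v * (p i * g)⁻¹ = p i * (g * v * g⁻¹) * (p i)⁻¹ := by group
          rw [e1, (hgi j).2 hjs v hv]
          have h6 := mem_centralizer_iff.1 (h1 i j hji (hp i)) v hv
          rw [← h6]; group
    obtain ⟨g, hg, hgi⟩ := key Finset.univ
    have h6 : g⁻¹ * a ∈ centralizer (V : Set G) := by
      refine mem_centralizer_iff.2 fun v hv => ?_
      refine (b.cent_V (g := g⁻¹ * a) (fun i w hw => ?_) v hv).symm
      have h7 := (hgi i).1 (Finset.mem_univ i) w hw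
      have h8 : g⁻¹ * a * w * (g⁻¹ * a)⁻¹ = w := by
        calc g⁻¹ * a * w * (g⁻¹ * a)⁻¹ = g⁻¹ * (a * w * a⁻¹) * g := by group
          _ = g⁻¹ * (g * w * g⁻¹) * g := by rw [h7]
          _ = w := by group
      exact mul_inv_eq_iff_eq_mul.1 h8
    have e : a = g * (g⁻¹ * a) := by group
    rw [e]
    exact mul_mem ((le_sup_left : (⨆ i, P i) ≤ _) hg) ((le_sup_right : centralizer (V : Set G) ≤ _) h6)
  have hJ : J ≤ (⨆ i, P i) ⊔ centralizer (V : Set G) :=
    h.lv.Jg.trans (sup_le (sSup_le hAP) (inf_le_right.trans le_sup_right))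
  refine (cj_mono n hJ).trans ?_
  rw [cj, Subgroup.map_sup, Subgroup.map_iSup]
  refine sup_le (iSup_le hPL) ?_
  exact (le_of_eq hVn).trans hVC

section top

variable {κ : Type u} {N' E' D' l' : κ → Subgroup G}

/-- **`hJ` of `FrontV.front` at `(Q, V*)`**, `J = nxt S Q`: from one `z ∈ V*` with `C_G(z) ≤ L` and all `D b ≤ L`. -/
theorem hJ_of [Finite κ] [Nonempty κ] (B : RB S) (h : NBs (S : Subgroup G) N' E' D' l' (fun _ => q))
    (hs : Src (S : Subgroup G) N' l' (fun _ => q)) (hq : 4 ≤ q)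
    (hc : CM (S : Subgroup G) (fun _ : PUnit.{u + 1} => Wd (S : Subgroup G)))
    (hz : zc (Qv S) = Wd (S : Subgroup G)) {L : Subgroup G} {z : G} (hzV : z ∈ Wd (S : Subgroup G))
    (zL : centralizer ({z} : Set G) ≤ L) (DL : ∀ b, D' b ≤ L) :
    ∀ n ∈ normalizer (Wd (S : Subgroup G) : Set G), MulAut.conj n • nxt (S : Subgroup G) (Qv S) ≤ L := by
  intro n hn
  have f : Fin (Nat.card κ) ≃ κ := (Finite.equivFin κ).symm
  have b := OfNBs.bq_of B h hs hq hc f
  have lv := lvQ_top B hz (exists_off hs) b.sup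
  exact cj_J_le ⟨b, lv, RRed.BQ.exists_A b lv⟩ hzV zL (fun i => DL _) hn

end top

end Cfsg.Agent.Omega.NOThreeL.QWR.XLe
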