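import Cfsg.Agent.Omega.NOThreeL.QWR.XLe
import Cfsg.Agent.Omega.NOThreeL.QWR.WdLe
import Cfsg.Agent.Omega.NOThreeL.QWR.GlueQEnd
import Cfsg.Agent.Omega.NOThreeL.QWR.RQOf

/-!
# Box R, one class, top level `(Q, V*)`, `q ≥ 4`: the local case, from one `z ∈ V*` with `C_G(z) ≤ L` (helper982)

`L` local, `C_G(Z) ≤ L`, all `D b ≤ L`, `C_G(z) ≤ L` for some `z ∈ V*` (for two `S`-orbits of blocks:
`L = ⟨C_G(e_i), C_G(e^i)⟩`). Then `X₁ ≤ L` (`XLe.hJ_of`), so `FrontV.front` gives a local `M ≥ N_G(V*)`, against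
`GlueQ.top_false_nV`.
-/

set_option autoImplicit false
set_option linter.unusedSectionVars false

namespace Cfsg.Agent.Omega.NOThreeL.QWR.XLe

open Subgroup Cfsg Cfsg.Agent.ZN.ChoiceBase Cfsg.Agent.Omega.MinPar Cfsg.Agent.Omega.Frame Cfsg.Agent.Omega.FrameNOFF
open Cfsg.Agent.ZN (zc zl o2 jj)
open Cfsg.Agent.Omega.NO3S.Level (nxt wc_nxt)
open Cfsg.Agent.Omega.NO3b.EndX (AbsP)
open Cfsg.Agent.Omega.ML.Final (MLK)
open Cfsg.Agent.Omega.NOThreeL.RTree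
open Cfsg.Agent.Omega.NOThreeL.Merge (MZ S_le_MZ)
open Cfsg.Agent.Omega.NOThreeL.RRed (Wd)
open Cfsg.Agent.Omega.NOThreeL.RRed.WideTree (NBs Src CM Wide)
open Cfsg.Agent.Omega.NOThreeL.RRed.QFr
open Cfsg.Agent.Omega.NOThreeL.RRed.QFr.Top
open Cfsg.Agent.MinSimple.VModule (zc_le_zl)

open scoped Pointwise

universe u

variable {G : Type u} [Group G] [Finite G] {S : Sylow 2 G} {κ : Type u} [Finite κ] [Nonempty κ]
  {N E D l : κ → Subgroup G} {q : ℕ}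

/-- **The front at `(Q, V*)`.** -/
theorem exists_M (B : RB S) (h : NBs (S : Subgroup G) N E D l (fun _ => q))
    (hs : Src (S : Subgroup G) N l (fun _ => q)) (hq : 4 ≤ q)
    (hc : CM (S : Subgroup G) (fun _ : PUnit.{u + 1} => Wd (S : Subgroup G))) (t : TopH S) {L : Subgroup G}
    (hL : IsLoc (S : Subgroup G) L) (hC : CZ (S : Subgroup G) ≤ L) {z : G} (hz : z ∈ Wd (S : Subgroup G))
    (zL : centralizer ({z} : Set G) ≤ L) (DL : ∀ b, D b ≤ L) :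
    ∃ M : Subgroup G, IsLoc (S : Subgroup G) M ∧ normalizer (Wd (S : Subgroup G) : Set G) ≤ M ∧
      centralizer (OM.SwapT.ZT (S : Subgroup G) (Qv S) : Set G) ≤ M ∧
      ∀ F ≤ CZ (S : Subgroup G), NoFF.Basic.V (Wd (S : Subgroup G)) F ≤ o2 M := by
  have hw := wc_nxt t.wc
  obtain ⟨M, h1, h2, h3, h4⟩ := FrontV.front B.ctx.char2 hL hC (wd_le_zl_nbs B h DL)
    ((S_le_MZ B.ctx B.full).trans RRed.le_norm_Wd) (zc_le_zl _ _) hw.le (fun n _ k => hw.eq n k)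
    (hJ_of B h hs hq hc t.zc hz zL DL)
  refine ⟨M, h1, h2, ?_, h4⟩
  rw [← ZJ_top B t]
  exact h3

/-- **The local case at `(Q, V*)`, `q ≥ 4`, is impossible if `C_G(z) ≤ L` for some `z ∈ V*`.** -/
theorem false_z (ml : MLK.{u, u}) (ha : AbsP.{u, u}) (B : Wide S)
    (hc : CM (S : Subgroup G) (fun _ : PUnit.{u + 1} => Wd (S : Subgroup G)))
    (h : NBs (S : Subgroup G) N E D l (fun _ => q)) (hs : Src (S : Subgroup G) N l (fun _ => q)) (hq : 4 ≤ q)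
    (hj : jj (S : Subgroup G) ≤ centralizer (Wd (S : Subgroup G) : Set G)) (t : TopH S) {L : Subgroup G}
    (hL : IsLoc (S : Subgroup G) L) (hC : CZ (S : Subgroup G) ≤ L) {z : G} (hz : z ∈ Wd (S : Subgroup G))
    (zL : centralizer ({z} : Set G) ≤ L) (DL : ∀ b, D b ≤ L) : False := by
  have rq := RQOf.rq_src ml ha B hc h hs hj t.wc t.zc.le
  have f : Fin (Nat.card κ) ≃ κ := (Finite.equivFin κ).symm
  have hne : Nonempty (Fin (Nat.card κ)) := ⟨f.symm (Classical.arbitrary κ)⟩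
  obtain ⟨Lb, A, tq, -⟩ := topQ_of B.toRB h hs hq hc t f
  obtain ⟨M, h1, h2, h3, h4⟩ := exists_M B.toRB h hs hq hc t hL hC hz zL DL
  exact GlueQ.top_false_nV B.toRB rq t tq hq h1 h2 h3 h4

end Cfsg.Agent.Omega.NOThreeL.QWR.XLe
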